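/-
Elementary facts on symmetric bilinear forms over finite fields of odd characteristic.
-/
import Cfsg.Agent.Lib.Classical.Quad.Sym
import Cfsg.Agent.Lib.Classical.Bilin

set_option autoImplicit false
set_option linter.unusedSectionVars false

namespace CfsgLib.Geo.MixTensor

open CfsgLib.Classical Module
open LinearMap (BilinForm)

variable {F : Type*} [Field F] {U : Type*} [AddCommGroup U] [Module F U]

/-- Three proper subspaces do not cover a space over a field with more than two elements. -/
theorem exists_avoid_three (h2 : (2 : F) ≠ 0) {A B C : Submodule F U} (hA : A ≠ ⊤) (hB : B ≠ ⊤) (hC : C ≠ ⊤) :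
    ∃ x, x ∉ A ∧ x ∉ B ∧ x ∉ C := by
  have hne : ∀ {S : Submodule F U}, S ≠ ⊤ → ∃ x, x ∉ S := fun hS => by
    by_contra! hc
    exact hS (eq_top_iff.2 fun x _ => hc x)
  obtain ⟨x, hxA, hxB⟩ : ∃ x, x ∉ A ∧ x ∉ B := by
    obtain ⟨a, ha⟩ := hne hA
    obtain ⟨b, hb⟩ := hne hB
    by_cases haB : a ∈ B
    · by_cases hbA : b ∈ A
      · exact ⟨a + b, fun h => ha (by simpa using A.sub_mem h hbA), fun h => hb (by simpa using B.sub_mem h haB)⟩
      · exact ⟨b, hbA, hb⟩
    · exact ⟨a, ha, haB⟩
  by_cases hxC : x ∈ C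
  swap
  · exact ⟨x, hxA, hxB, hxC⟩
  obtain ⟨y, hy⟩ := hne hC
  have hC' : ∀ t : F, y + t • x ∉ C := fun t h => hy (by simpa using C.sub_mem h (C.smul_mem t hxC))
  have hone : ∀ {S : Submodule F U}, x ∉ S → ∀ s t : F, y + s • x ∈ S → y + t • x ∈ S → s = t := by
    intro S hxS s t hs ht
    by_contra hst
    have h := S.sub_mem hs ht
    rw [add_sub_add_left_eq_sub, ← sub_smul] at h
    exact hxS ((S.smul_mem_iff (sub_ne_zero.2 hst)).1 h)
  have h10 : (1 : F) ≠ 0 := one_ne_zero
  have hm1 : (-1 : F) ≠ 0 := neg_ne_zero.2 h10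
  have h1m : (1 : F) ≠ -1 := fun h => h2 (by linear_combination h)
  by_contra! hc
  have h : ∀ t : F, y + t • x ∈ A ∨ y + t • x ∈ B := fun t => by
    by_cases hA' : y + t • x ∈ A
    · exact Or.inl hA'
    · by_cases hB' : y + t • x ∈ B
      · exact Or.inr hB'
      · exact absurd (hc _ hA' hB') (hC' t)
  rcases h 0 with a | a <;> rcases h 1 with b | b <;> rcases h (-1) with c | c
  all_goals first
    | exact h10 (hone hxA _ _ b a)
    | exact hm1 (hone hxA _ _ c a)
    | exact h1m (hone hxA _ _ b c)
    | exact h10 (hone hxB _ _ b a)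
    | exact hm1 (hone hxB _ _ c a)
    | exact h1m (hone hxB _ _ b c)

/-- Every element of a finite field is a sum of two squares. -/
theorem exists_two_squares [Finite F] (h2 : (2 : F) ≠ 0) (c : F) : ∃ x y : F, x ^ 2 + y ^ 2 = c := by
  obtain ⟨x, y, h⟩ := Quad.exists_sum_two_squares h2 (d₁ := (1 : F)) (d₂ := 1) one_ne_zero one_ne_zero c
  exact ⟨x, y, by simpa using h⟩

/-- A symmetric non-degenerate form in odd characteristic. -/
structure SymForm (f : BilinForm F U) : Prop where
  two : (2 : F) ≠ 0
  nd : f.Nondegenerate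
  symm : ∀ a b, f b a = f a b

/-- The reflection of a vector. -/
def refl (f : BilinForm F U) (e : U) : U →ₗ[F] U := LinearMap.id - (2 / f e e) • (f e).smulRight e

theorem refl_apply (f : BilinForm F U) (e x : U) : refl f e x = x - (2 / f e e * f e x) • e := by
  simp [refl, smul_smul]

namespace SymForm

variable {f : BilinForm F U} (hf : SymForm f)
include hf

theorem refl_refl {e : U} (he : f e e ≠ 0) (x : U) : refl f e (refl f e x) = x := by
  simp only [refl_apply, map_sub, map_smul, smul_eq_mul]
  match_scalars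
  all_goals first
    | (field_simp; ring)
    | (field_simp)
    | ring

theorem refl_isometry {e : U} (he : f e e ≠ 0) (x y : U) : f (refl f e x) (refl f e y) = f x y := by
  simp only [refl_apply, map_sub, map_smul, LinearMap.sub_apply, LinearMap.smul_apply, smul_eq_mul, hf.symm e x]
  field_simp
  ring

theorem refl_fix {e x : U} (h : f e x = 0) : refl f e x = x := by
  simp [refl_apply, h]

/-- The reflection exchanging two vectors of equal norm. -/
theorem refl_swap {a b : U} (h : f a a = f b b) (hne : f (a - b) (a - b) ≠ 0) : refl f (a - b) a = b := by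
  have h1 : f (a - b) (a - b) = 2 * (f a a - f a b) := by
    simp only [map_sub, LinearMap.sub_apply, hf.symm a b, ← h]; ring
  have h2 : f (a - b) a = f a a - f a b := by
    simp only [map_sub, LinearMap.sub_apply, hf.symm a b]
  rw [h1] at hne
  rw [refl_apply, h1, h2, div_mul_eq_mul_div, div_self hne, one_smul, sub_sub_cancel]

/-- One of the sum and the difference of two vectors of equal non-zero norm is anisotropic. -/
theorem sub_or_add {a b : U} (h : f a a = f b b) (ha : f a a ≠ 0) :
    f (a - b) (a - b) ≠ 0 ∨ f (a + b) (a + b) ≠ 0 := by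
  by_contra! hc
  have h4 : 4 * f a a = 0 := by
    have h1 := hc.1
    have h2 := hc.2
    simp only [map_sub, map_add, LinearMap.sub_apply, LinearMap.add_apply, ← h] at h1 h2
    linear_combination h1 + h2
  exact mul_ne_zero (mul_ne_zero hf.two hf.two) ha (by linear_combination h4)

theorem exists_aniso [Nontrivial U] : ∃ e, f e e ≠ 0 := by
  by_contra! hc
  obtain ⟨x, hx⟩ := exists_ne (0 : U)
  refine hx (hf.nd.1 x fun y => ?_)
  have h := hc (x + y)
  simp only [map_add, LinearMap.add_apply, hc x, hc y, hf.symm x y, zero_add, add_zero] at h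
  exact (mul_eq_zero.1 (show (2 : F) * f x y = 0 by linear_combination h)).resolve_left hf.two

/-- The anisotropic vectors span. -/
theorem induction {P : U → Prop} (add : ∀ x y, P x → P y → P (x + y)) (smul : ∀ (c : F) x, P x → P (c • x))
    (aniso : ∀ e, f e e ≠ 0 → P e) [Nontrivial U] (x : U) : P x := by
  by_cases hx : f x x = 0
  swap
  · exact aniso x hx
  obtain ⟨e, he⟩ := hf.exists_aniso
  have h : f (e + x) (e + x) ≠ 0 ∨ f (e - x) (e - x) ≠ 0 := by
    by_contra! hc
    have h1 := hc.1
    have h2 := hc.2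
    simp only [map_sub, map_add, LinearMap.sub_apply, LinearMap.add_apply, hx] at h1 h2
    exact mul_ne_zero hf.two he (by linear_combination h1 + h2)
  rcases h with h | h
  · have := add _ _ (aniso _ h) (smul (-1) _ (aniso e he))
    simpa using this
  · have := add _ _ (aniso e he) (smul (-1) _ (aniso _ h))
    simpa using this

theorem exists_aniso_pairing [Nontrivial U] {a : U} (ha : a ≠ 0) : ∃ e, f e e ≠ 0 ∧ f e a ≠ 0 := by
  by_contra! hc
  refine ha (hf.nd.2 a fun x => ?_)
  induction x using hf.induction with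
  | add x y hx hy => rw [map_add, LinearMap.add_apply, hx, hy, add_zero]
  | smul c x hx => rw [map_smul, LinearMap.smul_apply, hx, smul_zero]
  | aniso e he => exact hc e he

/-- A subspace larger than half the space has an anisotropic vector. -/
theorem exists_aniso_mem [FiniteDimensional F U] (P : Submodule F U) (h : finrank F U < 2 * finrank F P) :
    ∃ e ∈ P, f e e ≠ 0 := by
  by_contra! hc
  have hle : P ≤ f.orthogonal P := fun x hx y hy => by
    have h1 := hc _ (P.add_mem hx hy)
    simp only [map_add, LinearMap.add_apply, hc x hx, hc y hy, hf.symm y x, zero_add, add_zero] at h1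
    exact (mul_eq_zero.1 (show (2 : F) * f y x = 0 by linear_combination h1)).resolve_left hf.two
  have h1 := Submodule.finrank_mono hle
  rw [LinearMap.BilinForm.finrank_orthogonal hf.nd] at h1
  omega

/-- A vector of given norm orthogonal to given anisotropic vectors. -/
theorem exists_norm_perp [Finite F] [FiniteDimensional F U] (P : Submodule F U)
    (hP : ∀ x ∈ P, (∀ y ∈ P, f y x = 0) → x = 0) (h : finrank F P + 2 ≤ finrank F U) {c : F} (hc : c ≠ 0) :
    ∃ v, f v v = c ∧ ∀ u ∈ P, f u v = 0 := by
  have hr : f.IsRefl := fun x y h' => by rw [hf.symm]; exact h'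
  set K := f.orthogonal P
  have hK : IsCompl P K := (LinearMap.BilinForm.isCompl_orthogonal_iff_disjoint hr).2
    (Submodule.disjoint_def.2 fun x hx hx' => hP x hx fun y hy => hx' y hy)
  have hd := Submodule.finrank_add_eq_of_isCompl hK
  have hnd : (c⁻¹ • f.restrict K).Nondegenerate := by
    have h1 : (f.restrict K).Nondegenerate :=
      (LinearMap.BilinForm.restrict_nondegenerate_iff_isCompl_orthogonal hr).2 (by
        rw [LinearMap.BilinForm.orthogonal_orthogonal hf.nd hr]; exact hK.symm)
    exact ⟨fun x hx => h1.1 x fun y => (mul_eq_zero.1 (hx y)).resolve_left (inv_ne_zero hc),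
      fun x hx => h1.2 x fun y => (mul_eq_zero.1 (hx y)).resolve_left (inv_ne_zero hc)⟩
  obtain ⟨v, hv⟩ := Quad.exists_norm_one hf.two (B := c⁻¹ • f.restrict K)
    ⟨fun u w => by show c⁻¹ * f u w = c⁻¹ * f w u; rw [hf.symm (w : U) u]⟩ hnd (by omega)
  refine ⟨v, ?_, fun u hu => v.2 u hu⟩
  have h1 : c⁻¹ * f v v = 1 := hv
  field_simp at h1
  linear_combination h1

theorem exists_isotropic [Finite F] [FiniteDimensional F U] {P : Submodule F U} (h : 3 ≤ finrank F P) :
    ∃ z ∈ P, z ≠ 0 ∧ f z z = 0 := by
  by_cases hP : ∀ x ∈ P, (∀ y ∈ P, f y x = 0) → x = 0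
  swap
  · push Not at hP
    obtain ⟨x, hx, hperp, hx0⟩ := hP
    exact ⟨x, hx, hx0, hperp x hx⟩
  have hf' : SymForm (f.restrict P) :=
    ⟨hf.two, ⟨fun x hx => Subtype.ext (hP x x.2 fun y hy => (hf.symm _ _).trans (hx ⟨y, hy⟩)),
      fun x hx => Subtype.ext (hP x x.2 fun y hy => hx ⟨y, hy⟩)⟩, fun a b => hf.symm a b⟩
  have : Nontrivial P := Module.nontrivial_of_finrank_pos (R := F) (by omega)
  obtain ⟨e, he⟩ := hf'.exists_aniso
  have he0 : e ≠ 0 := fun h => he (by simp [h])
  obtain ⟨v, hv, hev⟩ := hf'.exists_norm_perp (Submodule.span F {e}) (fun x hx hxe => by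
      obtain ⟨c, rfl⟩ := Submodule.mem_span_singleton.1 hx
      have h1 := hxe e (Submodule.mem_span_singleton_self e)
      rw [map_smul, smul_eq_mul, mul_eq_zero] at h1
      rw [h1.resolve_right he, zero_smul])
    (by rw [finrank_span_singleton he0]; omega) (neg_ne_zero.2 he)
  have hev' : f.restrict P e v = 0 := hev e (Submodule.mem_span_singleton_self e)
  refine ⟨(e + v : P), (e + v).2, fun h0 => ?_, ?_⟩
  · have h1 : f.restrict P e (e + v) = 0 := by rw [show e + v = 0 from Subtype.ext h0, map_zero]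
    rw [map_add, hev', add_zero] at h1
    exact he h1
  · show f.restrict P (e + v) (e + v) = 0
    simp only [map_add, LinearMap.add_apply, hev', hf'.symm e v, hv]
    ring

/-- A subspace of dimension at least three and more than half contains an isotropic vector and an
anisotropic vector orthogonal to it. -/
theorem exists_iso_aniso [Finite F] [FiniteDimensional F U] (P : Submodule F U) (h3 : 3 ≤ finrank F P)
    (h : finrank F U < 2 * finrank F P) :
    ∃ w ∈ P, w ≠ 0 ∧ f w w = 0 ∧ ∃ z ∈ P, f w z = 0 ∧ f z z ≠ 0 := by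
  by_cases hP : ∀ x ∈ P, (∀ y ∈ P, f y x = 0) → x = 0
  swap
  · push Not at hP
    obtain ⟨x, hx, hperp, hx0⟩ := hP
    obtain ⟨z, hz, hzz⟩ := hf.exists_aniso_mem P h
    exact ⟨x, hx, hx0, hperp x hx, z, hz, (hf.symm z x).trans (hperp z hz), hzz⟩
  have hf' : SymForm (f.restrict P) :=
    ⟨hf.two, ⟨fun x hx => Subtype.ext (hP x x.2 fun y hy => (hf.symm _ _).trans (hx ⟨y, hy⟩)),
      fun x hx => Subtype.ext (hP x x.2 fun y hy => hx ⟨y, hy⟩)⟩, fun a b => hf.symm a b⟩
  obtain ⟨w, hw, hw0, hww⟩ := hf.exists_isotropic h3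
  obtain ⟨z, hz, hzz⟩ := hf'.exists_aniso_mem (LinearMap.ker (f.restrict P ⟨w, hw⟩)) (by
    have h1 := LinearMap.finrank_range_add_finrank_ker (f.restrict P ⟨w, hw⟩)
    have h2 := (Submodule.finrank_le (LinearMap.range (f.restrict P ⟨w, hw⟩))).trans_eq (Module.finrank_self F)
    omega)
  exact ⟨w, hw, hw0, hww, z, z.2, LinearMap.mem_ker.1 hz, hzz⟩

end SymForm

end CfsgLib.Geo.MixTensor
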