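/-
A tensor product of two spaces with forms inside a symplectic space: contractions, product maps and central maps.
-/
import Cfsg.Agent.Lib.Geo.SympMaximal
import Cfsg.Agent.Lib.Geo.MixTensor.Sym

set_option autoImplicit false
set_option linter.unusedSectionVars false

namespace CfsgLib.Geo.MixTensor

open CfsgLib.Classical CfsgLib.Classical.Symp Module
open LinearMap (BilinForm)

variable {F : Type*} [Field F] {U W V : Type*} [AddCommGroup U] [Module F U] [FiniteDimensional F U]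
  [AddCommGroup W] [Module F W] [FiniteDimensional F W] [AddCommGroup V] [Module F V] [FiniteDimensional F V]

/-- The pure tensors of two spaces with forms inside a symplectic space. -/
structure Data (H : BilinForm F V) (f : BilinForm F U) (g : BilinForm F W) (T : U →ₗ[F] W →ₗ[F] V) : Prop where
  hH : H.Nondegenerate
  hA : H.IsAlt
  hf : f.Nondegenerate
  hg : g.Nondegenerate
  two : (2 : F) ≠ 0
  fswap : (∀ a b, f b a = f a b) ∨ ∀ a b, f b a = -f a b
  formT : ∀ a b y z, H (T a y) (T b z) = f a b * g y z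
  span : Submodule.span F (Set.range fun p : U × W => T p.1 p.2) = ⊤

variable {H : BilinForm F V} {f : BilinForm F U} {g : BilinForm F W} {T : U →ₗ[F] W →ₗ[F] V}

/-- An element mapping pure tensors to pure tensors. -/
def Kr (T : U →ₗ[F] W →ₗ[F] V) (k : Sp H) : Prop :=
  ∃ A : U →ₗ[F] U, ∀ y, ∃ r, ∀ a, (k : V ≃ₗ[F] V) (T a y) = T (A a) r

theorem Kr.mul {k k' : Sp H} (h : Kr T k) (h' : Kr T k') : Kr T (k * k') := by
  obtain ⟨A, hA⟩ := h
  obtain ⟨A', hA'⟩ := h'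
  refine ⟨A ∘ₗ A', fun y => ?_⟩
  obtain ⟨r', hr'⟩ := hA' y
  obtain ⟨r, hr⟩ := hA r'
  exact ⟨r, fun a => by
    show (k : V ≃ₗ[F] V) ((k' : V ≃ₗ[F] V) (T a y)) = _
    rw [hr', hr, LinearMap.comp_apply]⟩

/-- A linear map is induced by an element of the subgroup. -/
def Mem (K : Subgroup (Sp H)) (L : V →ₗ[F] V) : Prop := ∃ k ∈ K, ∀ v, (k : V ≃ₗ[F] V) v = L v

variable {K : Subgroup (Sp H)}

theorem mem_id : Mem K LinearMap.id := ⟨1, K.one_mem, fun _ => rfl⟩

theorem Mem.comp {L M : V →ₗ[F] V} (hL : Mem K L) (hM : Mem K M) : Mem K (L ∘ₗ M) := by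
  obtain ⟨a, ha, ea⟩ := hL
  obtain ⟨b, hb, eb⟩ := hM
  refine ⟨a * b, K.mul_mem ha hb, fun v => ?_⟩
  show (a : V ≃ₗ[F] V) ((b : V ≃ₗ[F] V) v) = _
  rw [eb, ea, LinearMap.comp_apply]

theorem Mem.of_eq {L M : V →ₗ[F] V} (hL : Mem K L) (h : ∀ v, L v = M v) : Mem K M :=
  (LinearMap.ext h : L = M) ▸ hL

/-- The commutator of two induced maps. -/
theorem Mem.comm {L M S : V →ₗ[F] V} (hL : Mem K L) (hM : Mem K M) (h : ∀ v, L (M v) = S (M (L v))) :
    Mem K S := by
  obtain ⟨a, ha, ea⟩ := hL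
  obtain ⟨b, hb, eb⟩ := hM
  refine ⟨a * b * a⁻¹ * b⁻¹, K.mul_mem (K.mul_mem (K.mul_mem ha hb) (K.inv_mem ha)) (K.inv_mem hb), fun v => ?_⟩
  obtain ⟨x, rfl⟩ := (b * a : Sp H).1.surjective v
  have e : ((b * a : Sp H) : V ≃ₗ[F] V) x = M (L x) := by
    show (b : V ≃ₗ[F] V) ((a : V ≃ₗ[F] V) x) = _
    rw [ea, eb]
  rw [show ((a * b * a⁻¹ * b⁻¹ : Sp H) : V ≃ₗ[F] V) (((b * a : Sp H) : V ≃ₗ[F] V) x) =
    (((a * b * a⁻¹ * b⁻¹) * (b * a) : Sp H) : V ≃ₗ[F] V) x from rfl, show (a * b * a⁻¹ * b⁻¹) * (b * a) = a * b by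
      group]
  show (a : V ≃ₗ[F] V) ((b : V ≃ₗ[F] V) x) = _
  rw [eb, ea, e, h]

/-- Conjugation of an induced map. -/
theorem Mem.conj {L L' : V →ₗ[F] V} {k : Sp H} (hk : k ∈ K) (hL : Mem K L)
    (h : ∀ v, (k : V ≃ₗ[F] V) (L v) = L' ((k : V ≃ₗ[F] V) v)) : Mem K L' := by
  obtain ⟨a, ha, ea⟩ := hL
  refine ⟨k * a * k⁻¹, K.mul_mem (K.mul_mem hk ha) (K.inv_mem hk), fun v => ?_⟩
  obtain ⟨x, rfl⟩ := (k : V ≃ₗ[F] V).surjective v
  show (k : V ≃ₗ[F] V) ((a : V ≃ₗ[F] V) ((k : V ≃ₗ[F] V).symm ((k : V ≃ₗ[F] V) x))) = _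
  rw [LinearEquiv.symm_apply_apply, ea, h]

theorem sp_map (k : Sp H) (u v : V) : H ((k : V ≃ₗ[F] V) u) ((k : V ≃ₗ[F] V) v) = H u v := k.2 u v

namespace Data

variable (D : Data H f g T)
include D

/-- The adjoint of an endomorphism of the first factor. -/
noncomputable def adj (θ : U →ₗ[F] U) : U →ₗ[F] U := f.leftAdjointOfNondegenerate D.hf θ

theorem adj_left (θ : U →ₗ[F] U) (x y : U) : f (D.adj θ x) y = f x (θ y) :=
  LinearMap.BilinForm.isAdjointPairLeftAdjointOfNondegenerate f D.hf θ x y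

theorem adj_right (θ : U →ₗ[F] U) (x y : U) : f (θ x) y = f x (D.adj θ y) := by
  rcases D.fswap with h | h
  · rw [h y (θ x), ← D.adj_left, h]
  · rw [h y (θ x), ← D.adj_left, ← h]

theorem fext {u v : U} (h : ∀ a, f a u = f a v) : u = v :=
  sub_eq_zero.1 (D.hf.2 _ fun a => by rw [map_sub, h a, sub_self])

theorem gext {u v : W} (h : ∀ a, g a u = g a v) : u = v :=
  sub_eq_zero.1 (D.hg.2 _ fun a => by rw [map_sub, h a, sub_self])

theorem adj_eq {θ θ' : U →ₗ[F] U} (h : ∀ x y, f (θ' x) y = f x (θ y)) : D.adj θ = θ' :=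
  LinearMap.ext fun x => sub_eq_zero.1 (D.hf.1 _ fun y => by
    rw [map_sub, LinearMap.sub_apply, D.adj_left, h, sub_self])

theorem adj_adj (θ : U →ₗ[F] U) : D.adj (D.adj θ) = θ := D.adj_eq fun x y => D.adj_right θ x y

theorem adj_add (θ τ : U →ₗ[F] U) : D.adj (θ + τ) = D.adj θ + D.adj τ := D.adj_eq fun x y => by
  simp [D.adj_left]

theorem adj_sub (θ τ : U →ₗ[F] U) : D.adj (θ - τ) = D.adj θ - D.adj τ := D.adj_eq fun x y => by
  simp [D.adj_left]

theorem adj_smul (c : F) (θ : U →ₗ[F] U) : D.adj (c • θ) = c • D.adj θ := D.adj_eq fun x y => by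
  simp [D.adj_left]

theorem adj_zero : D.adj 0 = 0 := D.adj_eq fun x y => by simp

theorem adj_id : D.adj LinearMap.id = LinearMap.id := D.adj_eq fun x y => rfl

theorem adj_comp (θ τ : U →ₗ[F] U) : D.adj (θ ∘ₗ τ) = D.adj τ ∘ₗ D.adj θ := D.adj_eq fun x y => by
  simp [D.adj_left]

theorem Hswap (u v : V) : H v u = -H u v := Symp.swap D.hA u v

theorem flip_nondeg : (LinearMap.flip f : BilinForm F U).Nondegenerate := ⟨D.hf.2, D.hf.1⟩

/-- The functional of a vector against a line of pure tensors. -/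
def psi (_D : Data H f g T) : W →ₗ[F] V →ₗ[F] Module.Dual F U :=
  LinearMap.mk₂ F (fun z v => H.flip v ∘ₗ T.flip z)
    (fun z z' v => LinearMap.ext fun a => by simp) (fun c z v => LinearMap.ext fun a => by simp)
    (fun z v v' => LinearMap.ext fun a => by simp) (fun c z v => LinearMap.ext fun a => by simp)

/-- The contraction with a vector of the second factor. -/
noncomputable def C : W →ₗ[F] V →ₗ[F] U :=
  D.psi.compr₂ (LinearMap.BilinForm.toDual (LinearMap.flip f : BilinForm F U) D.flip_nondeg).symm.toLinearMap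

theorem f_C (a : U) (z : W) (v : V) : f a (D.C z v) = H (T a z) v :=
  LinearMap.BilinForm.apply_toDual_symm_apply (B := (LinearMap.flip f : BilinForm F U)) (hB := D.flip_nondeg) (D.psi z v) a

theorem C_T (z : W) (b : U) (r : W) : D.C z (T b r) = g z r • b := D.fext fun a => by
  rw [D.f_C, D.formT, map_smul, smul_eq_mul, mul_comm]

theorem hom_ext {M : Type*} [AddCommGroup M] [Module F M] {L L' : V →ₗ[F] M}
    (h : ∀ a y, L (T a y) = L' (T a y)) : L = L' :=
  LinearMap.ext_on D.span fun _ ⟨p, hp⟩ => hp ▸ h p.1 p.2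

theorem V_ext {u v : V} (h : ∀ z, D.C z u = D.C z v) : u = v := by
  refine sub_eq_zero.1 (D.hH.1 _ fun y => ?_)
  have e : H (u - v) = 0 := D.hom_ext fun a z => by
    rw [D.Hswap (T a z) (u - v), ← D.f_C, map_sub, h, sub_self, map_zero]
    simp
  exact LinearMap.congr_fun e y

theorem exists_sep {U' : Submodule F W} {x : W} (hx : x ∉ U') : ∃ a, g x a = 1 ∧ ∀ u ∈ U', g u a = 0 :=
  Bilin.exists_sep D.hg hx

theorem exists_partner {r : W} (hr : r ≠ 0) : ∃ z, g z r ≠ 0 := by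
  by_contra! hc
  exact hr (D.hg.2 r hc)

theorem exists_partner_one {r : W} (hr : r ≠ 0) : ∃ z, g z r = 1 := by
  obtain ⟨z, hz⟩ := D.exists_partner hr
  exact ⟨(g z r)⁻¹ • z, by simp [hz]⟩

theorem T_injective {r : W} (hr : r ≠ 0) {a b : U} (h : T a r = T b r) : a = b := by
  obtain ⟨z, hz⟩ := D.exists_partner_one hr
  have := congrArg (D.C z) h
  rwa [D.C_T, D.C_T, hz, one_smul, one_smul] at this

theorem T_eq_zero {r : W} (hr : r ≠ 0) {a : U} (h : T a r = 0) : a = 0 :=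
  D.T_injective hr (b := 0) (by rw [h, map_zero, LinearMap.zero_apply])

theorem T_eq_zero' {a : U} (ha : a ≠ 0) {r : W} (h : T a r = 0) : r = 0 := by
  by_contra hr
  exact ha (D.T_eq_zero hr h)

theorem C_apply (k : Sp H) (a : U) (z : W) (v : V) :
    H ((k : V ≃ₗ[F] V) (T a z)) ((k : V ≃ₗ[F] V) v) = f a (D.C z v) := by
  rw [D.f_C]; exact k.2 _ _

/-- A product of isometries transports the contractions. -/
theorem C_conj {k : Sp H} {A : U →ₗ[F] U} {B : W →ₗ[F] W} (hA : ∀ a b, f (A a) (A b) = f a b)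
    (hk : ∀ a y, (k : V ≃ₗ[F] V) (T a y) = T (A a) (B y)) (z : W) (v : V) :
    D.C (B z) ((k : V ≃ₗ[F] V) v) = A (D.C z v) := D.fext fun a => by
  obtain ⟨b, rfl⟩ : ∃ b, A b = a := by
    refine LinearMap.injective_iff_surjective.1 (fun p q e => sub_eq_zero.1 (D.hf.1 _ fun y => ?_)) a
    rw [map_sub, LinearMap.sub_apply, ← hA p, ← hA q, e, sub_self]
  rw [D.f_C, ← hk, D.C_apply, hA]

theorem exists_left_dual (φ : Module.Dual F W) : ∃ d, ∀ y, g d y = φ y :=
  ⟨(g.toDual D.hg).symm φ, fun y => LinearMap.BilinForm.apply_toDual_symm_apply (B := g) φ y⟩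

theorem exists_frame : ∃ (n : ℕ) (b d : Fin n → W), ∀ y, ∑ i, g (d i) y • b i = y := by
  choose d hd using fun i => D.exists_left_dual ((Module.finBasis F W).coord i)
  exact ⟨_, fun i => Module.finBasis F W i, d, fun y => by
    simp only [hd, Module.Basis.coord_apply]
    exact (Module.finBasis F W).sum_repr y⟩

/-- A product of two linear maps on the whole space. -/
theorem exists_tens (A : U →ₗ[F] U) (B : W →ₗ[F] W) :
    ∃ L : V →ₗ[F] V, ∀ a y, L (T a y) = T (A a) (B y) := by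
  obtain ⟨n, b, d, hbd⟩ := D.exists_frame
  refine ⟨∑ i, T.flip (B (b i)) ∘ₗ A ∘ₗ D.C (d i), fun a y => ?_⟩
  rw [LinearMap.sum_apply]
  conv_rhs => rw [← hbd y]
  simp [D.C_T]

/-- Two isometries give an isometry. -/
theorem exists_prod {A : U →ₗ[F] U} {B : W →ₗ[F] W} (hA : ∀ a b, f (A a) (A b) = f a b)
    (hB : ∀ y z, g (B y) (B z) = g y z) : ∃ k : Sp H, ∀ a y, (k : V ≃ₗ[F] V) (T a y) = T (A a) (B y) := by
  obtain ⟨L, hL⟩ := D.exists_tens A B
  have h1 : ∀ u v, H (L u) (L v) = H u v := fun u v => by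
    have e : H.compl₁₂ L L = H := D.hom_ext fun a y => D.hom_ext fun b z => by
      rw [LinearMap.compl₁₂_apply, hL, hL, D.formT, D.formT, hA, hB]
    exact LinearMap.congr_fun (LinearMap.congr_fun e u) v
  have hinj : Function.Injective L := fun u v e => sub_eq_zero.1 (D.hH.1 _ fun x => by
    rw [map_sub, LinearMap.sub_apply, ← h1 u, ← h1 v, e, sub_self])
  exact ⟨⟨LinearEquiv.ofInjectiveEndo L hinj, h1⟩, hL⟩

/-- The central map of a line of the second factor. -/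
noncomputable def E (w : W) (φ : U →ₗ[F] U) : V →ₗ[F] V := LinearMap.id + T.flip w ∘ₗ φ ∘ₗ D.C w

theorem E_apply (w : W) (φ : U →ₗ[F] U) (v : V) : D.E w φ v = v + T (φ (D.C w v)) w := rfl

theorem E_pure (w : W) (φ : U →ₗ[F] U) (a : U) (y : W) :
    D.E w φ (T a y) = T a y + g w y • T (φ a) w := by
  simp [D.E_apply, D.C_T]

theorem E_zero (w : W) : D.E w 0 = LinearMap.id := LinearMap.ext fun v => by simp [D.E_apply]

theorem E_zero_line (φ : U →ₗ[F] U) : D.E 0 φ = LinearMap.id := LinearMap.ext fun v => by simp [D.E_apply]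

theorem E_add {w : W} (hw : g w w = 0) (φ ψ : U →ₗ[F] U) : D.E w φ ∘ₗ D.E w ψ = D.E w (φ + ψ) :=
  LinearMap.ext fun v => by
    simp [D.E_apply, D.C_T, hw]
    abel

theorem E_smul_line (w : W) (c : F) (φ : U →ₗ[F] U) : D.E (c • w) φ = D.E w ((c * c) • φ) :=
  LinearMap.ext fun v => by simp [D.E_apply, smul_smul]

theorem E_eq_tr (w : W) (s : F) (e : U) (v : V) :
    D.E w (s • (f e).smulRight e) v = (tr D.hA (T e w) (-s) : V ≃ₗ[F] V) v := by
  rw [tr_apply, D.E_apply, LinearMap.smul_apply, LinearMap.smulRight_apply, map_smul, map_smul,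
    LinearMap.smul_apply, LinearMap.smul_apply, D.f_C, D.Hswap (T e w) v, neg_mul_neg, ← smul_smul]

end Data

/-- An overgroup of the stabiliser of the tensor decomposition. -/
structure Over (D : Data H f g T) (K : Subgroup (Sp H)) : Prop where
  base : ∀ (k : Sp H) (A : U →ₗ[F] U) (B : W →ₗ[F] W),
    (∀ a y, (k : V ≃ₗ[F] V) (T a y) = T (A a) (B y)) → k ∈ K

namespace Over

variable {D : Data H f g T} (O : Over D K)
include O

theorem exists_mem {A : U →ₗ[F] U} {B : W →ₗ[F] W} (hA : ∀ a b, f (A a) (A b) = f a b)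
    (hB : ∀ y z, g (B y) (B z) = g y z) : ∃ k ∈ K, ∀ a y, (k : V ≃ₗ[F] V) (T a y) = T (A a) (B y) := by
  obtain ⟨k, hk⟩ := D.exists_prod hA hB
  exact ⟨k, O.base k A B hk, hk⟩

theorem mem_map {A : U →ₗ[F] U} {B : W →ₗ[F] W} (hA : ∀ a b, f (A a) (A b) = f a b)
    (hB : ∀ y z, g (B y) (B z) = g y z) {L : V →ₗ[F] V} (hL : ∀ a y, L (T a y) = T (A a) (B y)) : Mem K L := by
  obtain ⟨k, hk, ek⟩ := O.exists_mem hA hB
  refine ⟨k, hk, fun v => ?_⟩
  exact LinearMap.congr_fun (D.hom_ext (L := ((k : V ≃ₗ[F] V) : V →ₗ[F] V)) fun a y => (ek a y).trans (hL a y).symm) v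

/-- The conjugate of a central map by a product of isometries. -/
theorem E_conj {A A' : U →ₗ[F] U} {B : W →ₗ[F] W} (hA : ∀ a b, f (A a) (A b) = f a b)
    (hA' : ∀ a, A' (A a) = a) (hB : ∀ y z, g (B y) (B z) = g y z) {w : W} {φ : U →ₗ[F] U}
    (h : Mem K (D.E w φ)) : Mem K (D.E (B w) (A ∘ₗ φ ∘ₗ A')) := by
  obtain ⟨k, hk, ek⟩ := O.exists_mem hA hB
  refine h.conj hk fun v => ?_
  rw [D.E_apply, D.E_apply, map_add, ek, D.C_conj hA ek, LinearMap.comp_apply, LinearMap.comp_apply, hA']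

end Over

end CfsgLib.Geo.MixTensor
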