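/-
Transvections at all pure tensors generate the symplectic group.
-/
import Cfsg.Agent.Lib.Geo.MixTensor.Basic

set_option autoImplicit false
set_option linter.unusedSectionVars false

namespace CfsgLib.Geo.MixTensor

open CfsgLib.Classical CfsgLib.Classical.Symp Module
open LinearMap (BilinForm)

variable {F : Type*} [Field F] {U W V : Type*} [AddCommGroup U] [Module F U] [FiniteDimensional F U]
  [AddCommGroup W] [Module F W] [FiniteDimensional F W] [AddCommGroup V] [Module F V] [FiniteDimensional F V]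
  {H : BilinForm F V} {f : BilinForm F U} {g : BilinForm F W} {T : U →ₗ[F] W →ₗ[F] V}

/-- The whole transvection group of a vector. -/
def Tr (hA : H.IsAlt) (K : Subgroup (Sp H)) (v : V) : Prop := ∀ c, tr hA v c ∈ K

variable {hA : H.IsAlt} {K : Subgroup (Sp H)}

theorem Tr.zero : Tr hA K 0 := fun c => by
  have e : tr hA (0 : V) c = 1 := by
    ext x
    simp [tr_apply]
  rw [e]; exact K.one_mem

theorem Tr.smul {v : V} (h : Tr hA K v) (a : F) : Tr hA K (a • v) := fun c => by
  rw [tr_smul_vec]; exact h _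

theorem Tr.add {u v : V} (hu : Tr hA K u) (hv : Tr hA K v) (h : H u v ≠ 0) : Tr hA K (u + v) := by
  have e : (tr hA v (H u v)⁻¹ : V ≃ₗ[F] V) u = u + v := by
    rw [tr_apply, inv_mul_cancel₀ h, one_smul]
  intro c
  rw [← e]
  exact SympMax.tr_mem_of_conj hA (hv _) hu c

namespace Data

variable (D : Data H f g T)
include D

/-- A pure tensor not orthogonal to three given non-zero vectors. -/
theorem exists_pure_three {x y z : V} (hx : x ≠ 0) (hy : y ≠ 0) (hz : z ≠ 0) :
    ∃ a r, H x (T a r) ≠ 0 ∧ H y (T a r) ≠ 0 ∧ H z (T a r) ≠ 0 := by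
  have hne : ∀ {x : V}, x ≠ 0 → LinearMap.ker (T.compr₂ (H x)) ≠ ⊤ := fun {x} hx0 htop => hx0 (by
    refine D.hH.1 x fun v => ?_
    have e : H x = 0 := D.hom_ext fun a r => by
      have h1 : T.compr₂ (H x) = 0 := LinearMap.ker_eq_top.1 htop
      exact LinearMap.congr_fun (LinearMap.congr_fun h1 a) r
    rw [e, LinearMap.zero_apply])
  obtain ⟨a, h1, h2, h3⟩ := exists_avoid_three D.two (hne hx) (hne hy) (hne hz)
  have hne' : ∀ {x : V}, a ∉ LinearMap.ker (T.compr₂ (H x)) → LinearMap.ker (T.compr₂ (H x) a) ≠ ⊤ :=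
    fun h htop => h (LinearMap.ker_eq_top.1 htop)
  obtain ⟨r, r1, r2, r3⟩ := exists_avoid_three D.two (hne' h1) (hne' h2) (hne' h3)
  exact ⟨a, r, r1, r2, r3⟩

/-- **Transvections at all pure tensors generate everything.** -/
theorem eq_top_of_pure (h : ∀ a r, Tr D.hA K (T a r)) : K = ⊤ := by
  refine SympMax.eq_top_of_tr D.hA D.hH fun v => ?_
  suffices Tr D.hA K v from this
  induction (D.span ▸ Submodule.mem_top : v ∈ Submodule.span F (Set.range fun p : U × W => T p.1 p.2))
    using Submodule.span_induction with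
  | mem z hz =>
    obtain ⟨⟨a, r⟩, rfl⟩ := hz
    exact h a r
  | zero => exact Tr.zero
  | smul d x _ hx => exact hx.smul d
  | add x y _ _ hx hy =>
    by_cases hs : x + y = 0
    · rw [hs]; exact Tr.zero
    by_cases hxy : H x y = 0
    swap
    · exact hx.add hy hxy
    by_cases hx0 : x = 0
    · rwa [hx0, zero_add]
    by_cases hy0 : y = 0
    · rwa [hy0, add_zero]
    obtain ⟨a, r, h1, h2, h3⟩ := D.exists_pure_three hx0 hy0 hs
    have s1 := hx.add (h a r) h1
    have s2 := s1.add hy (by
      rw [map_add, LinearMap.add_apply, hxy, zero_add, D.Hswap y (T a r)]; exact neg_ne_zero.2 h2)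
    have s3 := s2.add ((h a r).smul (-1)) (by
      rw [map_smul, smul_eq_mul, neg_one_mul, neg_ne_zero]
      simp only [map_add, LinearMap.add_apply, D.hA (T a r), add_zero] at h3 ⊢
      exact h3)
    convert s3 using 1
    module

end Data

end CfsgLib.Geo.MixTensor
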