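/-
A space of self-adjoint maps closed under reflections and Jordan products contains every rank one map.
-/
import Cfsg.Agent.Lib.Geo.MixTensor.Sym

set_option autoImplicit false
set_option linter.unusedSectionVars false

namespace CfsgLib.Geo.MixTensor

open CfsgLib.Classical Module
open LinearMap (BilinForm)

variable {F : Type*} [Field F] [Finite F] {U : Type*} [AddCommGroup U] [Module F U] [FiniteDimensional F U]
  {f : BilinForm F U}

/-- The rank one map of a vector. -/
def sq (f : BilinForm F U) (a : U) : U →ₗ[F] U := (f a).smulRight a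

@[simp] theorem sq_apply (a x : U) : sq f a x = f a x • a := rfl

/-- The symmetrised rank two map. -/
def sym2 (f : BilinForm F U) (a b : U) : U →ₗ[F] U := (f a).smulRight b + (f b).smulRight a

@[simp] theorem sym2_apply (a b x : U) : sym2 f a b x = f a x • b + f b x • a := rfl

/-- A space of self-adjoint maps with the required closure properties. -/
structure JordanInv (f : BilinForm F U) (Z : Submodule F (U →ₗ[F] U)) : Prop where
  form : SymForm f
  three : 3 ≤ finrank F U
  big : (∀ u : F, u = 0 ∨ u = 1 ∨ u = -1) → 4 ≤ finrank F U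
  one : LinearMap.id ∈ Z
  selfadj : ∀ φ ∈ Z, ∀ a b, f (φ a) b = f a (φ b)
  jordan : ∀ φ ∈ Z, ∀ ψ ∈ Z, φ ∘ₗ ψ + ψ ∘ₗ φ ∈ Z
  conj : ∀ e, f e e ≠ 0 → ∀ φ ∈ Z, refl f e ∘ₗ φ ∘ₗ refl f e ∈ Z

namespace JordanInv

variable {Z : Submodule F (U →ₗ[F] U)} (h : JordanInv f Z)
include h

theorem nontriv : Nontrivial U := Module.nontrivial_of_finrank_pos (R := F) (by have := h.three; omega)

/-- A map with all anisotropic vectors as eigenvectors is a scalar. -/
theorem scalar_of_aniso {φ : U →ₗ[F] U} (hφ : ∀ a b, f (φ a) b = f a (φ b))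
    (he : ∀ e, f e e ≠ 0 → ∃ t : F, φ e = t • e) : ∃ c : F, φ = c • LinearMap.id := by
  have := h.nontriv
  have hf := h.form
  obtain ⟨e₀, he₀⟩ := hf.exists_aniso
  obtain ⟨t₀, ht₀⟩ := he e₀ he₀
  have h1 : ∀ x, f x x ≠ 0 → f e₀ x ≠ 0 → φ x = t₀ • x := by
    intro x hx hex
    obtain ⟨t, ht⟩ := he x hx
    have h2 := hφ e₀ x
    rw [ht₀, ht, map_smul, map_smul, LinearMap.smul_apply, smul_eq_mul, smul_eq_mul] at h2
    rw [ht, mul_right_cancel₀ hex h2]
  have h2 : ∀ x, f e₀ x ≠ 0 → φ x = t₀ • x := by
    intro x hex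
    by_cases hx : f x x = 0
    swap
    · exact h1 x hx hex
    obtain ⟨d, hdP, hd⟩ : ∃ d ∈ LinearMap.ker ((f e₀).prod (f x)), f d d ≠ 0 := by
      by_contra! hc
      have hr : f.IsRefl := fun a b h' => by rw [hf.symm]; exact h'
      set P := Submodule.span F ({e₀, x} : Set U)
      have hPdim : finrank F P ≤ 2 := by
        classical
        have e2 : ({e₀, x} : Set U) = (({e₀, x} : Finset U) : Set U) := by simp
        show finrank F (Submodule.span F ({e₀, x} : Set U)) ≤ 2
        rw [e2]
        exact (finrank_span_finset_le_card _).trans Finset.card_le_two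
      have hle : f.orthogonal P ≤ f.orthogonal (f.orthogonal P) := fun a ha b hb => by
        have hk : ∀ u ∈ f.orthogonal P, u ∈ LinearMap.ker ((f e₀).prod (f x)) := fun u hu =>
          LinearMap.mem_ker.2 (Prod.ext (hu e₀ (Submodule.subset_span (Set.mem_insert _ _)))
            (hu x (Submodule.subset_span (Set.mem_insert_of_mem _ rfl))))
        have h1 := hc _ (hk _ (add_mem hb ha))
        simp only [map_add, LinearMap.add_apply, hc _ (hk _ hb), hc _ (hk _ ha), hf.symm b a, zero_add, add_zero] at h1
        exact (mul_eq_zero.1 (show (2 : F) * f b a = 0 by linear_combination h1)).resolve_left hf.two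
      rw [LinearMap.BilinForm.orthogonal_orthogonal hf.nd hr] at hle
      obtain ⟨d, hd, hd0⟩ := Submodule.exists_mem_ne_zero_of_ne_bot (p := f.orthogonal P) (fun e0 => by
        have h5 := congrArg (fun S : Submodule F U => finrank F S) e0
        simp only [LinearMap.BilinForm.finrank_orthogonal hf.nd, finrank_bot] at h5
        have := h.three
        omega)
      obtain ⟨α, β, rfl⟩ := Submodule.mem_span_pair.1 (hle hd)
      have h6 := hd x (Submodule.subset_span (Set.mem_insert_of_mem _ rfl))
      have h7 := hd e₀ (Submodule.subset_span (Set.mem_insert _ _))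
      simp only [map_add, map_smul, smul_eq_mul, hx, hf.symm e₀ x, mul_zero, add_zero, mul_eq_zero, hex,
        or_false] at h6
      rw [h6, zero_smul, zero_add, map_smul, smul_eq_mul, mul_eq_zero] at h7
      rw [h6, h7.resolve_right hex, zero_smul, zero_smul, add_zero] at hd0
      exact hd0 rfl
    obtain ⟨hde, hdx⟩ := Prod.ext_iff.1 (LinearMap.mem_ker.1 hdP)
    have h5 : ∀ s : F, s = 1 ∨ s = -1 → φ (x + s • d) = t₀ • (x + s • d) := fun s hs => by
      refine h1 _ ?_ ?_
      · simp only [map_add, map_smul, LinearMap.add_apply, LinearMap.smul_apply, smul_eq_mul, hx, hf.symm x d,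
          show f x d = 0 from hdx, mul_zero, add_zero, zero_add]
        rcases hs with rfl | rfl <;> simpa using hd
      · simpa [map_add, show f e₀ d = 0 from hde] using hex
    have e1 := h5 1 (Or.inl rfl)
    have e2 := h5 (-1) (Or.inr rfl)
    simp only [map_add, map_smul] at e1 e2
    have h2' : (2 : F) • φ x = (2 : F) • (t₀ • x) := by linear_combination (norm := module) e1 + e2
    exact smul_right_injective U hf.two h2'
  refine ⟨t₀, LinearMap.ext fun x => ?_⟩
  by_cases hx : f e₀ x = 0
  · have h3 := h2 (x + e₀) (by rwa [map_add, hx, zero_add])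
    rw [map_add, ht₀, smul_add] at h3
    exact add_right_cancel h3
  · exact h2 x hx

/-- Two rank one maps with non-orthogonal vectors give the rank one maps of their plane. -/
theorem combine {a b : U} (ha : sq f a ∈ Z) (hb : sq f b ∈ Z) (hab : f a b ≠ 0) (s t : F) :
    sq f (s • a + t • b) ∈ Z := by
  have h1 : sym2 f a b ∈ Z := by
    have h2 := h.jordan _ ha _ hb
    have e : sq f a ∘ₗ sq f b + sq f b ∘ₗ sq f a = f a b • sym2 f a b := LinearMap.ext fun x => by
      simp [smul_smul, h.form.symm a b]
      module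
    rw [e] at h2
    exact (Z.smul_mem_iff hab).1 h2
  convert Z.add_mem (Z.add_mem (Z.smul_mem (s * s) ha) (Z.smul_mem (t * t) hb)) (Z.smul_mem (s * t) h1) using 1
  refine LinearMap.ext fun x => ?_
  simp
  module

theorem sq_refl {e a : U} (he : f e e ≠ 0) (ha : sq f a ∈ Z) : sq f (refl f e a) ∈ Z := by
  convert h.conj e he _ ha using 1
  refine LinearMap.ext fun x => ?_
  conv_lhs => rw [sq_apply, ← h.form.refl_refl he x, h.form.refl_isometry he]
  simp

theorem sq_orbit {a b : U} (ha : sq f a ∈ Z) (hab : f a a = f b b) (hb : f b b ≠ 0) : sq f b ∈ Z := by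
  rcases h.form.sub_or_add hab (hab ▸ hb) with h1 | h1
  · rw [← h.form.refl_swap hab h1]
    exact h.sq_refl h1 ha
  · have h2 := h.sq_refl (e := a - -b) (by rwa [sub_neg_eq_add]) ha
    rw [h.form.refl_swap (b := -b) (by simpa using hab) (by rwa [sub_neg_eq_add])] at h2
    convert h2 using 1
    exact LinearMap.ext fun x => by simp

/-- Two rank one maps of a non-degenerate plane give all of them. -/
theorem all_of_plane {a b : U} (ha : sq f a ∈ Z) (hb : sq f b ∈ Z) (hab : f a b ≠ 0)
    (hdet : f a a * f b b - f a b * f a b ≠ 0) : ∀ x, sq f x ∈ Z := by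
  have := h.nontriv
  have hf := h.form
  have hnorm : ∀ c : F, c ≠ 0 → ∃ s t : F, f (s • a + t • b) (s • a + t • b) = c := by
    intro c hc
    have hexp : ∀ s t, f (s • a + t • b) (s • a + t • b) = f a a * s ^ 2 + 2 * f a b * s * t + f b b * t ^ 2 := by
      intro s t
      simp only [map_add, map_smul, LinearMap.add_apply, LinearMap.smul_apply, smul_eq_mul, hf.symm a b]
      ring
    by_cases haa : f a a = 0
    · refine ⟨(c - f b b) / (2 * f a b), 1, ?_⟩
      rw [hexp, haa, zero_mul, zero_add, mul_one, one_pow, mul_one, mul_div_cancel₀ _ (mul_ne_zero hf.two hab),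
        sub_add_cancel]
    · obtain ⟨x, y, hxy⟩ := Quad.exists_sum_two_squares hf.two haa (d₂ := (f a a * f b b - f a b * f a b) / f a a)
        (div_ne_zero hdet haa) c
      refine ⟨x - f a b / f a a * y, y, ?_⟩
      rw [hexp, ← hxy]
      field_simp
      ring
  have haniso : ∀ x, f x x ≠ 0 → sq f x ∈ Z := fun x hx => by
    obtain ⟨s, t, hst⟩ := hnorm _ hx
    exact h.sq_orbit (h.combine ha hb hab s t) hst hx
  intro y
  by_cases hy : f y y = 0
  swap
  · exact haniso y hy
  obtain ⟨e, heP, he⟩ := hf.exists_aniso_mem (LinearMap.ker (f y)) (by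
    have h3 := LinearMap.finrank_range_add_finrank_ker (f y)
    have h4 := Submodule.finrank_le (LinearMap.range (f y))
    rw [Module.finrank_self] at h4
    have := h.three
    omega)
  have hye : f y e = 0 := heP
  have h1 := h.combine (haniso (y - e) ?_) (haniso e he) ?_ 1 1
  · simpa using h1
  · simp only [map_sub, LinearMap.sub_apply, hy, hye, hf.symm y e, sub_zero, zero_sub, neg_neg]
    exact he
  · simp only [map_sub, LinearMap.sub_apply, hye, zero_sub]
    exact neg_ne_zero.2 he

theorem all_of_isotropic {a : U} (ha0 : a ≠ 0) (haa : f a a = 0) (ha : sq f a ∈ Z) : ∀ x, sq f x ∈ Z := by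
  have := h.nontriv
  obtain ⟨e, he, hea⟩ := h.form.exists_aniso_pairing ha0
  have h1 : f a (refl f e a) ≠ 0 := by
    rw [refl_apply, map_sub, haa, zero_sub, map_smul, smul_eq_mul, h.form.symm e a, neg_ne_zero]
    exact mul_ne_zero (mul_ne_zero (div_ne_zero h.form.two he) hea) hea
  refine h.all_of_plane ha (h.sq_refl he ha) h1 ?_
  rw [haa, zero_mul, zero_sub, neg_ne_zero]
  exact mul_ne_zero h1 h1

theorem all_of_one {a : U} (ha0 : a ≠ 0) (ha : sq f a ∈ Z) : ∀ x, sq f x ∈ Z := by
  have hf := h.form
  by_cases haa : f a a = 0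
  · exact h.all_of_isotropic ha0 haa ha
  have hperp : ∀ x ∈ Submodule.span F {a}, (∀ y ∈ Submodule.span F {a}, f y x = 0) → x = 0 := fun x hx hxa => by
    obtain ⟨c, rfl⟩ := Submodule.mem_span_singleton.1 hx
    have h1 := hxa a (Submodule.mem_span_singleton_self a)
    rw [map_smul, smul_eq_mul, mul_eq_zero] at h1
    rw [h1.resolve_right haa, zero_smul]
  by_cases hq : ∀ u : F, u = 0 ∨ u = 1 ∨ u = -1
  · have h4 := h.big hq
    have hr : f.IsRefl := fun x y h' => by rw [hf.symm]; exact h'
    obtain ⟨d, hd, hd0, hdd⟩ := hf.exists_isotropic (P := f.orthogonal (Submodule.span F {a})) (by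
      rw [LinearMap.BilinForm.finrank_orthogonal hf.nd, finrank_span_singleton ha0]; omega)
    have had : f a d = 0 := hd a (Submodule.mem_span_singleton_self a)
    have hbb : f a a = f (a + d) (a + d) := by simp [hdd, had, hf.symm a d]
    have hb := h.sq_orbit ha hbb (hbb ▸ haa)
    have h1 := h.combine ha hb (by rwa [map_add, had, add_zero]) (-1) 1
    rw [neg_one_smul, one_smul, neg_add_cancel_left] at h1
    exact h.all_of_isotropic hd0 hdd h1
  · push Not at hq
    obtain ⟨u, hu0, hu1, hum⟩ := hq
    have hsq : 1 - u * u ≠ 0 := fun e => by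
      rcases mul_eq_zero.1 (show (1 - u) * (1 + u) = 0 by linear_combination e) with e' | e'
      · exact hu1 (sub_eq_zero.1 e').symm
      · exact hum (eq_neg_of_add_eq_zero_right e')
    obtain ⟨d, hdd, hd⟩ := hf.exists_norm_perp (Submodule.span F {a}) hperp
      (by rw [finrank_span_singleton ha0]; have := h.three; omega) (mul_ne_zero hsq haa)
    have had : f a d = 0 := hd a (Submodule.mem_span_singleton_self a)
    have hbb : f a a = f (u • a + d) (u • a + d) := by
      simp only [map_add, map_smul, LinearMap.add_apply, LinearMap.smul_apply, smul_eq_mul, had, hf.symm a d, hdd]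
      ring
    have hab : f a (u • a + d) = u * f a a := by simp [had]
    refine h.all_of_plane ha (h.sq_orbit ha hbb (hbb ▸ haa)) (by rw [hab]; exact mul_ne_zero hu0 haa) ?_
    rw [hab, ← hbb, show f a a * f a a - u * f a a * (u * f a a) = f a a * f a a * (1 - u * u) by ring]
    exact mul_ne_zero (mul_ne_zero haa haa) hsq

/-- A non-scalar element gives a rank one element. -/
theorem exists_one {φ : U →ₗ[F] U} (hφ : φ ∈ Z) (hns : ∀ c : F, φ ≠ c • LinearMap.id) :
    ∃ a, a ≠ 0 ∧ sq f a ∈ Z := by
  have hf := h.form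
  obtain ⟨e, he, hne⟩ : ∃ e, f e e ≠ 0 ∧ ∀ t : F, φ e ≠ t • e := by
    by_contra! hc
    obtain ⟨c, hc⟩ := h.scalar_of_aniso (h.selfadj φ hφ) hc
    exact hns c hc
  set q := φ e - (f e (φ e) / f e e) • e with hqdef
  have hq : q ≠ 0 := fun h0 => hne _ (sub_eq_zero.1 h0)
  have heq : f e q = 0 := by simp [q, he]
  have hD : sym2 f e q ∈ Z := by
    have h1 := Z.sub_mem (h.conj e he φ hφ) hφ
    have e1 : refl f e ∘ₗ φ ∘ₗ refl f e - φ = (-(2 / f e e)) • sym2 f e q := LinearMap.ext fun x => by
      simp only [LinearMap.sub_apply, LinearMap.comp_apply, LinearMap.smul_apply, sym2_apply, refl_apply, map_sub,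
        map_smul, q, smul_eq_mul, h.selfadj φ hφ e x]
      match_scalars
      all_goals first
        | (field_simp; ring)
        | (field_simp)
        | ring
    rw [e1] at h1
    exact (Z.smul_mem_iff (neg_ne_zero.2 (div_ne_zero hf.two he))).1 h1
  have hD2 : f e e • sq f q + f q q • sq f e ∈ Z := by
    have h1 := h.jordan _ hD _ hD
    have e1 : sym2 f e q ∘ₗ sym2 f e q + sym2 f e q ∘ₗ sym2 f e q = (2 : F) • (f e e • sq f q + f q q • sq f e) :=
      LinearMap.ext fun x => by
        simp [heq, hf.symm e q]
        module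
    rw [e1] at h1
    exact (Z.smul_mem_iff hf.two).1 h1
  by_cases hqq : f q q = 0
  · rw [hqq, zero_smul, add_zero] at hD2
    exact ⟨q, hq, (Z.smul_mem_iff he).1 hD2⟩
  have he0 : e ≠ 0 := fun h0 => he (by simp [h0])
  set P := Submodule.span F ({e, q} : Set U)
  have hP2 : finrank F P ≤ 2 := by
    classical
    have e2 : ({e, q} : Set U) = (({e, q} : Finset U) : Set U) := by simp
    show finrank F (Submodule.span F ({e, q} : Set U)) ≤ 2
    rw [e2]
    exact (finrank_span_finset_le_card _).trans Finset.card_le_two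
  by_cases h4 : 4 ≤ finrank F U
  · obtain ⟨q', hq'q, hq'⟩ := hf.exists_norm_perp P (fun x hx hxP => by
        obtain ⟨a, b, rfl⟩ := Submodule.mem_span_pair.1 hx
        have h1 := hxP e (Submodule.subset_span (Set.mem_insert _ _))
        have h2 := hxP q (Submodule.subset_span (Set.mem_insert_of_mem _ rfl))
        simp only [map_add, map_smul, smul_eq_mul, heq, hf.symm e q, mul_zero, add_zero, zero_add, mul_eq_zero,
          he, hqq, or_false] at h1 h2
        simp [h1, h2])
      (by omega) hqq
    have heq' : f e q' = 0 := hq' e (Submodule.subset_span (Set.mem_insert _ _))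
    have hqq' : f q q' = 0 := hq' q (Submodule.subset_span (Set.mem_insert_of_mem _ rfl))
    have hne' : f (q - q') (q - q') ≠ 0 := by
      simp only [map_sub, LinearMap.sub_apply, hqq', hf.symm q q', hq'q, sub_zero, zero_sub, neg_neg]
      intro h0
      exact mul_ne_zero hf.two hqq (by linear_combination h0)
    have hsw := hf.refl_swap hq'q.symm hne'
    have hfix : refl f (q - q') e = e := hf.refl_fix (by
      simp [hf.symm e q, hf.symm e q', heq, heq'])
    have h2 := h.conj _ hne' _ hD2
    have e2 : refl f (q - q') ∘ₗ (f e e • sq f q + f q q • sq f e) ∘ₗ refl f (q - q') =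
        f e e • sq f q' + f q q • sq f e := LinearMap.ext fun x => by
      have c1 : f q (refl f (q - q') x) = f q' x := by
        conv_rhs => rw [← hsw, ← hf.refl_refl hne' x, hf.refl_isometry hne']
      have c2 : f e (refl f (q - q') x) = f e x := by
        conv_rhs => rw [← hfix, ← hf.refl_refl hne' x, hf.refl_isometry hne']
      simp only [LinearMap.comp_apply, LinearMap.add_apply, LinearMap.smul_apply, sq_apply, map_add, map_smul,
        c1, c2, hsw, hfix]
    rw [e2] at h2
    have h3 := h.jordan _ hD2 _ h2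
    have e3 : (f e e • sq f q + f q q • sq f e) ∘ₗ (f e e • sq f q' + f q q • sq f e) +
        (f e e • sq f q' + f q q • sq f e) ∘ₗ (f e e • sq f q + f q q • sq f e) =
        (2 * f q q * f q q * f e e) • sq f e := LinearMap.ext fun x => by
      simp [heq, heq', hqq', hf.symm e q, hf.symm e q', hf.symm q q']
      module
    rw [e3] at h3
    exact ⟨e, he0, (Z.smul_mem_iff (mul_ne_zero (mul_ne_zero (mul_ne_zero hf.two hqq) hqq) he)).1 h3⟩
  · have h3 : finrank F U = 3 := by have := h.three; omega
    have hr : f.IsRefl := fun x y h' => by rw [hf.symm]; exact h'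
    obtain ⟨d, hdP, hd0⟩ := Submodule.exists_mem_ne_zero_of_ne_bot (p := f.orthogonal P) (fun e0 => by
      have h5 := congrArg (fun S : Submodule F U => finrank F S) e0
      simp only [LinearMap.BilinForm.finrank_orthogonal hf.nd, finrank_bot] at h5
      omega)
    have hed : f e d = 0 := hdP e (Submodule.subset_span (Set.mem_insert _ _))
    have hqd : f q d = 0 := hdP q (Submodule.subset_span (Set.mem_insert_of_mem _ rfl))
    have hli : LinearIndependent F ![e, q, d] := by
      rw [Fintype.linearIndependent_iff]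
      intro c hc
      simp only [Fin.sum_univ_three, Matrix.cons_val_zero, Matrix.cons_val_one, Matrix.cons_val] at hc
      have c0 : c 0 = 0 := by
        have := congrArg (f e) hc
        simp only [map_add, map_smul, smul_eq_mul, heq, hed, mul_zero, add_zero, map_zero, mul_eq_zero, he,
          or_false] at this
        exact this
      have c1 : c 1 = 0 := by
        have := congrArg (f q) hc
        simp only [map_add, map_smul, smul_eq_mul, hf.symm e q, heq, hqd, mul_zero, add_zero, zero_add, map_zero,
          mul_eq_zero, hqq, or_false] at this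
        exact this
      rw [c0, c1, zero_smul, zero_smul, zero_add, zero_add, smul_eq_zero] at hc
      exact fun i => by fin_cases i <;> first | exact c0 | exact c1 | exact hc.resolve_right hd0
    have hspan : Submodule.span F (Set.range ![e, q, d]) = ⊤ :=
      hli.span_eq_top_of_card_eq_finrank (by rw [Fintype.card_fin, h3])
    have hdd : f d d ≠ 0 := fun h0 => hd0 (hf.nd.2 d fun x =>
      LinearMap.congr_fun (LinearMap.ext_on_range hspan (f := LinearMap.flip f d) (g := 0) fun i => by
        fin_cases i <;> simp [hed, hqd, h0]) x)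
    refine ⟨d, hd0, ?_⟩
    have h5 := Z.sub_mem (Z.smul_mem (f e e * f q q) h.one) hD2
    have e4 : (f e e * f q q) • LinearMap.id - (f e e • sq f q + f q q • sq f e) =
        (f e e * f q q / f d d) • sq f d := LinearMap.ext_on_range hspan fun i => by
      fin_cases i <;>
        simp [heq, hed, hqd, hf.symm e q, hf.symm e d, hf.symm q d, hdd, smul_smul, mul_comm, mul_div_cancel₀]
    rw [e4] at h5
    exact (Z.smul_mem_iff (div_ne_zero (mul_ne_zero he hqq) hdd)).1 h5

/-- **A non-scalar element gives every rank one map.** -/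
theorem all {φ : U →ₗ[F] U} (hφ : φ ∈ Z) (hns : ∀ c : F, φ ≠ c • LinearMap.id) : ∀ a, sq f a ∈ Z := by
  obtain ⟨a, ha, haZ⟩ := h.exists_one hφ hns
  exact h.all_of_one ha haZ

end JordanInv

end CfsgLib.Geo.MixTensor
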