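/-
Central maps of lines: either all coefficients are scalars or there are transvections at all pure tensors.
-/
import Cfsg.Agent.Lib.Geo.MixTensor.Closure
import Cfsg.Agent.Lib.Geo.MixTensor.Jordan

set_option autoImplicit false
set_option linter.unusedSectionVars false

namespace CfsgLib.Geo.MixTensor

open CfsgLib.Classical CfsgLib.Classical.Symp Module
open LinearMap (BilinForm)

variable {F : Type*} [Field F] [Finite F] {U W V : Type*} [AddCommGroup U] [Module F U] [FiniteDimensional F U]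
  [AddCommGroup W] [Module F W] [FiniteDimensional F W] [AddCommGroup V] [Module F V] [FiniteDimensional F V]
  {H : BilinForm F V} {f : BilinForm F U} {g : BilinForm F W} {T : U →ₗ[F] W →ₗ[F] V}

/-- The first factor is orthogonal and the second is symplectic, of dimension at least four unless the dimensions
are three and two. -/
structure Orth (D : Data H f g T) (K : Subgroup (Sp H)) : Prop extends Over D K where
  form : SymForm f
  gA : g.IsAlt
  three : 3 ≤ finrank F U
  thin : 4 ≤ finrank F W ∨ (finrank F W = 2 ∧ finrank F U = 3)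
  big : (∀ u : F, u = 0 ∨ u = 1 ∨ u = -1) → 4 ≤ finrank F U

/-- Every central map in the group has a scalar coefficient. -/
def NC (D : Data H f g T) (K : Subgroup (Sp H)) : Prop :=
  ∀ (w : W) (φ : U →ₗ[F] U), w ≠ 0 → Mem K (D.E w φ) → ∃ c : F, φ = c • LinearMap.id

namespace Data

variable (D : Data H f g T)
include D

/-- The short root map of two orthogonal lines. -/
noncomputable def sh (w z : W) (θ : U →ₗ[F] U) : V →ₗ[F] V :=
  LinearMap.id + T.flip w ∘ₗ θ ∘ₗ D.C z + T.flip z ∘ₗ D.adj θ ∘ₗ D.C w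

theorem sh_apply (w z : W) (θ : U →ₗ[F] U) (v : V) :
    D.sh w z θ v = v + T (θ (D.C z v)) w + T (D.adj θ (D.C w v)) z := rfl

theorem sh_pure (w z : W) (θ : U →ₗ[F] U) (a : U) (y : W) :
    D.sh w z θ (T a y) = T a y + g z y • T (θ a) w + g w y • T (D.adj θ a) z := by
  simp [D.sh_apply, D.C_T]

end Data

/-- A short root map up to a central factor. -/
def MemC (D : Data H f g T) (K : Subgroup (Sp H)) (w z : W) (θ : U →ₗ[F] U) : Prop :=
  ∃ φ, Mem K (D.sh w z θ ∘ₗ D.E w φ)

namespace Orth

variable {D : Data H f g T} {K : Subgroup (Sp H)} (O : Orth D K)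
include O

theorem gswap (y z : W) : g z y = -g y z := Symp.swap O.gA y z

theorem nontriv : Nontrivial U := Module.nontrivial_of_finrank_pos (R := F) (by have := O.three; omega)

theorem two_le : 2 ≤ finrank F W := by rcases O.thin with h | h <;> omega

theorem tvec_isometry (z : W) (c : F) (a b : W) :
    g ((LinearMap.id + c • (g z).smulRight z : W →ₗ[F] W) a)
      ((LinearMap.id + c • (g z).smulRight z : W →ₗ[F] W) b) = g a b := by
  simp [O.gA z, O.gswap z a]
  ring

/-- The transvections of the second factor. -/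
theorem trz_mem (z : W) (c : F) : Mem K (D.E z (c • LinearMap.id)) :=
  O.toOver.mem_map (A := LinearMap.id) (fun _ _ => rfl) (O.tvec_isometry z c) fun a y => by
    simp [D.E_pure, smul_smul, mul_comm]

theorem sh_one {w z : W} (h : g w z = 0) : Mem K (D.sh w z LinearMap.id) := by
  refine O.toOver.mem_map (A := LinearMap.id) (B := LinearMap.id + (g z).smulRight w + (g w).smulRight z)
    (fun _ _ => rfl) (fun a b => ?_) fun a y => by simp [D.sh_pure, D.adj_id]
  have h' : g z w = 0 := by rw [O.gswap w z, h, neg_zero]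
  simp [O.gA w, O.gA z, h, h', O.gswap w a, O.gswap z a]
  ring

theorem exists_orth (h4 : 4 ≤ finrank F W) {w : W} : ∃ y, g w y = 0 ∧ y ∉ Submodule.span F {w} := by
  by_contra! hc
  have h1 := Submodule.finrank_mono (s := LinearMap.ker (g w)) (t := Submodule.span F {w}) fun y hy => hc y hy
  have h2 := LinearMap.finrank_range_add_finrank_ker (g w)
  have h3 := Submodule.finrank_le (LinearMap.range (g w))
  have h4 : finrank F (Submodule.span F ({w} : Set W)) ≤ 1 := by
    classical
    have e : ({w} : Set W) = (({w} : Finset W) : Set W) := by simp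
    rw [e]
    exact (finrank_span_finset_le_card _).trans (le_of_eq (Finset.card_singleton w))
  rw [Module.finrank_self] at h3
  omega

theorem exists_frame (h4 : 4 ≤ finrank F W) {w : W} : ∃ y y', g w y = 0 ∧ g w y' = 0 ∧ g y y' = 1 := by
  obtain ⟨y, hwy, hy⟩ := O.exists_orth h4 (w := w)
  obtain ⟨y', hyy', hy'⟩ := D.exists_sep hy
  exact ⟨y, y', hwy, hy' w (Submodule.mem_span_singleton_self w), hyy'⟩

theorem selfadj {w : W} (hw : w ≠ 0) {φ : U →ₗ[F] U} (h : Mem K (D.E w φ)) : D.adj φ = φ := by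
  obtain ⟨k, -, ek⟩ := h
  obtain ⟨e, he⟩ := D.exists_partner_one hw
  have hwe : g w e = -1 := by rw [O.gswap e w, he]
  refine D.adj_eq fun a b => ?_
  have h1 := k.2 (T a e) (T b e)
  simp only [ek, D.E_pure, map_add, map_smul, LinearMap.add_apply, LinearMap.smul_apply, smul_eq_mul, D.formT,
    O.gA e, O.gA w, he, hwe] at h1
  linear_combination h1

/-- A central map on one line gives one on every line. -/
theorem all_lines {w : W} (hw : w ≠ 0) {φ : U →ₗ[F] U} (h : Mem K (D.E w φ)) (w' : W) :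
    Mem K (D.E w' φ) := by
  by_cases hw' : w' = 0
  · rw [hw', D.E_zero_line]; exact mem_id
  obtain ⟨t, -, ht⟩ := Symp.transitive_ne_zero O.gA (Symp.nondeg_top D.hg)
    (U := ⊤) (Submodule.mem_top (x := w)) (Submodule.mem_top (x := w')) hw hw'
  have h1 := O.toOver.E_conj (A := LinearMap.id) (A' := LinearMap.id) (B := ((t : W ≃ₗ[F] W) : W →ₗ[F] W))
    (fun _ _ => rfl) (fun _ => rfl) t.2 h
  rw [LinearEquiv.coe_coe, ht] at h1
  exact h1

/-- The coefficients of central maps present on every line. -/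
def centres : Submodule F (U →ₗ[F] U) where
  carrier := {φ | ∀ w, Mem K (D.E w φ)}
  zero_mem' w := by rw [D.E_zero]; exact mem_id
  add_mem' {φ ψ} hφ hψ w := by rw [← D.E_add (O.gA w)]; exact (hφ w).comp (hψ w)
  smul_mem' c φ hφ w := by
    obtain ⟨x, y, hxy⟩ := exists_two_squares D.two c
    have h1 := (hφ (x • w)).comp (hφ (y • w))
    rw [D.E_smul_line, D.E_smul_line, D.E_add (O.gA w), ← add_smul,
      show x * x + y * y = c by rw [← hxy]; ring] at h1
    exact h1

theorem mem_centres {φ : U →ₗ[F] U} : φ ∈ O.centres ↔ ∀ w, Mem K (D.E w φ) := Iff.rfl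

/-- The commutator of two short root maps on one line. -/
theorem commC {w z z' : W} (hz : g w z = 0) (hz' : g w z' = 0) {θ τ : U →ₗ[F] U}
    (h : MemC D K w z θ) (h' : MemC D K w z' τ) :
    Mem K (D.E w (g z z' • (θ ∘ₗ D.adj τ + τ ∘ₗ D.adj θ))) := by
  obtain ⟨φ, hφ⟩ := h
  obtain ⟨ψ, hψ⟩ := h'
  refine hφ.comm hψ fun v => ?_
  simp only [LinearMap.comp_apply, D.E_apply, D.sh_apply, map_add, D.C_T, O.gA w, hz, hz', O.gA z, O.gA z',
    O.gswap w z, O.gswap w z', O.gswap z z', neg_zero, zero_smul, map_zero, LinearMap.zero_apply, add_zero,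
    map_smul, map_neg, LinearMap.smul_apply, LinearMap.add_apply, LinearMap.neg_apply, smul_add, neg_smul]
  module

theorem memC_one {w z : W} (h : g w z = 0) : MemC D K w z LinearMap.id :=
  ⟨0, by rw [D.E_zero, LinearMap.comp_id]; exact O.sh_one h⟩

theorem memC_sh {w z : W} {θ : U →ₗ[F] U} (h : Mem K (D.sh w z θ)) : MemC D K w z θ :=
  ⟨0, by rw [D.E_zero, LinearMap.comp_id]; exact h⟩

/-- Conjugating a short root map by a product of isometries. -/
theorem memC_conj {w z : W} {θ : U →ₗ[F] U} (h : MemC D K w z θ) {A : U →ₗ[F] U} {B : W →ₗ[F] W}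
    (hA : ∀ a b, f (A a) (A b) = f a b) (hA' : ∀ a, A (A a) = a) (hB : ∀ y z, g (B y) (B z) = g y z) :
    MemC D K (B w) (B z) (A ∘ₗ θ ∘ₗ A) := by
  obtain ⟨φ, hφ⟩ := h
  obtain ⟨k, hk, ek⟩ := O.toOver.exists_mem hA hB
  have hadj : D.adj (A ∘ₗ θ ∘ₗ A) = A ∘ₗ D.adj θ ∘ₗ A := D.adj_eq fun a b => by
    simp only [LinearMap.comp_apply]
    conv_lhs => rw [← hA' b, hA, D.adj_left]
    conv_rhs => rw [← hA' a, hA]
  refine ⟨A ∘ₗ φ ∘ₗ A, hφ.conj hk fun v => ?_⟩
  simp only [LinearMap.comp_apply, D.sh_apply, D.E_apply, map_add, ek, D.C_conj hA ek, hA', hadj, D.C_T, hB,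
    map_smul, LinearMap.smul_apply, LinearMap.add_apply]

theorem centres_jordan (h4 : 4 ≤ finrank F W) {φ ψ : U →ₗ[F] U} (hφ : φ ∈ O.centres) (hψ : ψ ∈ O.centres) :
    φ ∘ₗ ψ + ψ ∘ₗ φ ∈ O.centres := by
  intro w
  by_cases hw : w = 0
  · rw [hw, D.E_zero_line]; exact mem_id
  have key : ∀ {χ : U →ₗ[F] U}, χ ∈ O.centres → D.adj χ = χ → ∀ {y}, g w y = 0 → MemC D K w y χ := by
    intro χ hχ hadj y hy
    refine O.memC_sh ?_
    have hy' : g y w = 0 := by rw [O.gswap w y, hy, neg_zero]
    refine (((O.centres.neg_mem hχ) w).comp (((O.centres.neg_mem hχ) y).comp (hχ (w + y)))).of_eq fun v => ?_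
    simp only [LinearMap.comp_apply, D.E_apply, D.sh_apply, hadj, map_add, LinearMap.add_apply, D.C_T, O.gA w,
      O.gA y, hy, hy', zero_smul, map_zero, LinearMap.zero_apply, add_zero, LinearMap.neg_apply, map_neg]
    abel
  obtain ⟨y, y', hy, hy', hyy⟩ := O.exists_frame h4 (w := w)
  have a1 := O.selfadj hw (hφ w)
  have a2 := O.selfadj hw (hψ w)
  have h1 := O.commC hy hy' (key hφ a1 hy) (key hψ a2 hy')
  rw [hyy, one_smul, a1, a2] at h1
  exact h1

theorem exists_ne_zero : ∃ w : W, w ≠ 0 := by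
  have : Nontrivial W := Module.nontrivial_of_finrank_pos (R := F) (by have := O.two_le; omega)
  exact exists_ne 0

theorem jordanInv (h4 : 4 ≤ finrank F W) : JordanInv f O.centres where
  form := O.form
  three := O.three
  big := O.big
  one w := by simpa using O.trz_mem w 1
  selfadj φ hφ a b := by
    obtain ⟨w, hw⟩ := O.exists_ne_zero
    rw [← D.adj_left, O.selfadj hw (hφ w)]
  jordan φ hφ ψ hψ := O.centres_jordan h4 hφ hψ
  conj e he φ hφ w := by
    have h1 := O.toOver.E_conj (A := refl f e) (A' := refl f e) (B := LinearMap.id)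
      (O.form.refl_isometry he) (O.form.refl_refl he) (fun _ _ => rfl) (hφ w)
    exact h1

/-- **A non-scalar central coefficient gives the whole symplectic group.** -/
theorem eq_top_of_not_NC_big (h4 : 4 ≤ finrank F W) (h : ¬ NC D K) : K = ⊤ := by
  simp only [NC, not_forall, not_exists] at h
  obtain ⟨w, φ, hw, hφ, hns⟩ := h
  have hall := (O.jordanInv h4).all (φ := φ) (O.all_lines hw hφ) hns
  refine D.eq_top_of_pure fun a r c => ?_
  obtain ⟨k, hk, ek⟩ := (O.centres.smul_mem (-c) (hall a)) r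
  convert hk
  ext v
  rw [ek, sq, D.E_eq_tr, neg_neg]

/-- Without non-scalar central coefficients every short root coefficient is a scalar. -/
theorem memC_scalar (hN : NC D K) {w z : W} (hw : w ≠ 0) (hz : g w z = 0) (hzw : z ∉ Submodule.span F {w})
    {θ : U →ₗ[F] U} (h : MemC D K w z θ) : ∃ c : F, θ = c • LinearMap.id := by
  obtain ⟨z', hzz', hz''⟩ := D.exists_sep hzw
  have hwz' : g w z' = 0 := hz'' w (Submodule.mem_span_singleton_self w)
  obtain ⟨s, hs⟩ := hN _ _ hw (O.commC hz hwz' h (O.memC_one hwz'))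
  rw [hzz', one_smul, D.adj_id, LinearMap.comp_id, LinearMap.id_comp] at hs
  -- moving the second line
  set B : W →ₗ[F] W := LinearMap.id + (1 : F) • (g z').smulRight z'
  have hBw : B w = w := by simp [B, O.gswap w z', hwz']
  have hBz : g z (B z) = -1 := by simp [B, O.gA z, O.gswap z z', hzz']
  have hwB : g w (B z) = 0 := by simp [B, hz, hwz']
  have hanti : ∀ e, f e e ≠ 0 ∨ e = 0 → ∃ c : F,
      θ ∘ₗ D.adj (refl f e ∘ₗ θ ∘ₗ refl f e) + (refl f e ∘ₗ θ ∘ₗ refl f e) ∘ₗ D.adj θ = c • LinearMap.id := by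
    intro e he
    have hA : ∀ a b, f (refl f e a) (refl f e b) = f a b := fun a b => by
      rcases he with he | he
      · exact O.form.refl_isometry he a b
      · simp [refl_apply, he]
    have hA' : ∀ a, refl f e (refl f e a) = a := fun a => by
      rcases he with he | he
      · exact O.form.refl_refl he a
      · simp [refl_apply, he]
    have h2 := O.memC_conj h hA hA' (B := B) (O.tvec_isometry z' 1)
    rw [hBw] at h2
    obtain ⟨c, hc⟩ := hN _ _ hw (O.commC hz hwB h h2)
    rw [hBz, neg_one_smul] at hc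
    exact ⟨-c, by rw [neg_smul, ← hc, neg_neg]⟩
  set θ₀ := θ - (2⁻¹ * s) • LinearMap.id with hθ₀
  have hθ : θ = (2⁻¹ * s) • LinearMap.id + θ₀ := by rw [hθ₀]; abel
  have hskew : D.adj θ₀ = -θ₀ := by
    rw [hθ₀, D.adj_sub, D.adj_smul, D.adj_id, eq_sub_of_add_eq' hs]
    refine LinearMap.ext fun x => ?_
    simp only [LinearMap.sub_apply, LinearMap.smul_apply, LinearMap.id_apply, LinearMap.neg_apply]
    match_scalars
    all_goals first
      | (field_simp [D.two]; ring)
      | (field_simp [D.two])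
      | ring
  have key : ∀ e, f e e ≠ 0 ∨ e = 0 → ∃ c : F,
      θ₀ ∘ₗ (refl f e ∘ₗ θ₀ ∘ₗ refl f e) + (refl f e ∘ₗ θ₀ ∘ₗ refl f e) ∘ₗ θ₀ = c • LinearMap.id := by
    intro e he
    obtain ⟨c, hc⟩ := hanti e he
    refine ⟨2 * (2⁻¹ * s) * (2⁻¹ * s) - c, ?_⟩
    have hA' : ∀ a, refl f e (refl f e a) = a := fun a => by
      rcases he with he | he
      · exact O.form.refl_refl he a
      · simp [refl_apply, he]
    have hA : ∀ a b, f (refl f e a) (refl f e b) = f a b := fun a b => by
      rcases he with he | he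
      · exact O.form.refl_isometry he a b
      · simp [refl_apply, he]
    have hadj : D.adj (refl f e ∘ₗ θ₀ ∘ₗ refl f e) = -(refl f e ∘ₗ θ₀ ∘ₗ refl f e) := D.adj_eq fun a b => by
      simp only [LinearMap.neg_apply, map_neg, LinearMap.comp_apply]
      conv_lhs => rw [← hA' b, hA]
      conv_rhs => rw [← hA' a, hA, ← D.adj_left, hskew]
      simp
    have e1 : refl f e ∘ₗ θ ∘ₗ refl f e = (2⁻¹ * s) • LinearMap.id + refl f e ∘ₗ θ₀ ∘ₗ refl f e :=
      LinearMap.ext fun x => by simp [hθ, hA']
    rw [e1, hθ, D.adj_add, D.adj_add, D.adj_smul, D.adj_id, hadj, hskew] at hc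
    refine LinearMap.ext fun x => ?_
    have h3 := LinearMap.congr_fun hc x
    simp only [LinearMap.add_apply, LinearMap.comp_apply, LinearMap.smul_apply, LinearMap.id_apply,
      LinearMap.neg_apply, map_add, map_smul, map_neg] at h3 ⊢
    linear_combination (norm := module) -h3
  obtain ⟨c, hc⟩ := key 0 (Or.inr rfl)
  have hc' : ∀ x, (2 : F) • θ₀ (θ₀ x) = c • x := fun x => by
    have := LinearMap.congr_fun hc x
    simpa [refl_apply, two_smul] using this
  have hsk : ∀ a b, f (θ₀ a) b = -f a (θ₀ b) := fun a b => by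
    rw [D.adj_right, hskew, LinearMap.neg_apply, map_neg]
  refine ⟨2⁻¹ * s, ?_⟩
  suffices θ₀ = 0 by rw [hθ, this, add_zero]
  refine LinearMap.ext fun x => ?_
  have := O.nontriv
  induction x using O.form.induction with
  | add x y hx hy => rw [map_add, hx, hy]; simp
  | smul c x hx => rw [map_smul, hx]; simp
  | aniso e he =>
    obtain ⟨d, hd⟩ := key e (Or.inl he)
    have hee : f e (θ₀ e) = 0 := by
      have h1 := hsk e e
      rw [O.form.symm e (θ₀ e)] at h1
      exact (mul_eq_zero.1 (show (2 : F) * f e (θ₀ e) = 0 by linear_combination h1)).resolve_left D.two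
    have hκ : (2 / f e e) ≠ 0 := div_ne_zero D.two he
    -- the correction has rank two
    have hform : ∀ x, (d - c) • x = (-(2 / f e e)) • (c * f e x) • e + (2 * (2 / f e e) * f (θ₀ e) x) • θ₀ e := fun x => by
      have h1 := LinearMap.congr_fun hd x
      simp only [LinearMap.add_apply, LinearMap.comp_apply, LinearMap.smul_apply, LinearMap.id_apply, refl_apply,
        map_sub, map_smul, hee, smul_eq_mul, mul_zero, sub_zero, show f e (θ₀ x) = -f (θ₀ e) x by rw [hsk, neg_neg],
        show f e (θ₀ (θ₀ x)) = -f (θ₀ e) (θ₀ x) by rw [hsk, neg_neg]] at h1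
      have h2 : f (θ₀ e) (θ₀ x) = -(2⁻¹ * c) * f e x := by
        have h5 := congrArg (f e) (hc' x)
        simp only [map_smul, smul_eq_mul] at h5
        rw [hsk]
        field_simp [D.two]
        linear_combination -h5
      rw [h2] at h1
      have h3 := hc' x
      have h4 := hc' e
      linear_combination (norm := (match_scalars <;> first | (field_simp [D.two, he]; ring; done) | (field_simp [D.two, he]; done) | (linear_combination (f e x / f e e) * (mul_inv_cancel₀ D.two) * 2) | (linear_combination (-(c * f e x / f e e)) * (mul_inv_cancel₀ D.two) * 2))) -h1 + h3 - (2 / f e e * f e x / 2) • h4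
    obtain ⟨x₀, hx₀, hx0⟩ := Submodule.exists_mem_ne_zero_of_ne_bot
      (p := LinearMap.ker ((f e).prod (f (θ₀ e)))) (fun e0 => by
        have h1 := LinearMap.finrank_range_add_finrank_ker ((f e).prod (f (θ₀ e)))
        have h2 := Submodule.finrank_le (LinearMap.range ((f e).prod (f (θ₀ e))))
        rw [Module.finrank_prod, Module.finrank_self] at h2
        rw [e0, finrank_bot] at h1
        have := O.three
        omega)
    obtain ⟨hx1, hx2⟩ := Prod.ext_iff.1 (LinearMap.mem_ker.1 hx₀)
    have hdc : d - c = 0 := by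
      have h1 := hform x₀
      rw [show f e x₀ = 0 from hx1, show f (θ₀ e) x₀ = 0 from hx2] at h1
      simp only [mul_zero, zero_smul, smul_zero, add_zero, smul_eq_zero] at h1
      exact h1.resolve_right hx0
    show θ₀ e = 0
    by_contra h0
    obtain ⟨y, hy⟩ : ∃ y, f (θ₀ e) y ≠ 0 := by
      by_contra! h'
      exact h0 (D.hf.1 _ h')
    have h1 := hform (y - (f e y / f e e) • e)
    rw [hdc, zero_smul] at h1
    simp only [map_sub, map_smul, smul_eq_mul, div_mul_cancel₀ _ he, sub_self, mul_zero, zero_smul, smul_zero,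
      zero_add, O.form.symm e (θ₀ e), hee, sub_zero] at h1
    exact h0 ((smul_eq_zero.1 h1.symm).resolve_left (mul_ne_zero (mul_ne_zero D.two hκ) hy))

/-- An element fixing a line yields scalars. -/
theorem extract (hN : NC D K) {w z : W} (hw : w ≠ 0) (hz : g w z = 0) (hzw : z ∉ Submodule.span F {w})
    {k : Sp H} (hk : k ∈ K) (N : W → (U →ₗ[F] U)) (h0 : ∀ a, (k : V ≃ₗ[F] V) (T a w) = T a w)
    (hNf : ∀ y, g w y = 0 → ∀ a, (k : V ≃ₗ[F] V) (T a y) = T a y + T (N y a) w) :
    ∃ c : F, N z = c • LinearMap.id := by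
  refine O.memC_scalar hN hw hz hzw ⟨N z ∘ₗ D.adj (N z), ?_⟩
  refine Mem.comm (L := ((k : V ≃ₗ[F] V) : V →ₗ[F] V)) ⟨k, hk, fun v => rfl⟩ (O.trz_mem z 1) fun v => ?_
  have hCw : D.C w ((k : V ≃ₗ[F] V) v) = D.C w v := D.fext fun a => by
    rw [D.f_C, ← h0 a, D.C_apply]
  have hCz : D.C z ((k : V ≃ₗ[F] V) v) = D.C z v - D.adj (N z) (D.C w v) := D.fext fun a => by
    rw [map_sub, ← D.adj_right, D.f_C, D.f_C]
    conv_lhs => rw [show T a z = (k : V ≃ₗ[F] V) (T a z) - (k : V ≃ₗ[F] V) (T (N z a) w) by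
      rw [hNf z hz, h0, add_sub_cancel_right]]
    rw [map_sub, LinearMap.sub_apply, D.C_apply, D.C_apply, D.f_C]
  simp only [LinearEquiv.coe_coe, LinearMap.comp_apply, D.E_apply, one_smul, LinearMap.id_apply, D.sh_apply,
    map_add, hCw, hCz, hNf z hz, D.C_T, O.gA w, O.gA z, hz, O.gswap w z, neg_zero, zero_smul, map_zero,
    LinearMap.zero_apply, add_zero, map_sub, LinearMap.sub_apply, sub_add_cancel]
  abel

end Orth

end CfsgLib.Geo.MixTensor
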