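/-
An orthogonal factor of dimension three and a symplectic factor of dimension two.
-/
import Cfsg.Agent.Lib.Geo.MixTensor.Central

set_option autoImplicit false
set_option linter.unusedSectionVars false

namespace CfsgLib.Geo.MixTensor

open CfsgLib.Classical CfsgLib.Classical.Symp Module
open LinearMap (BilinForm)

variable {F : Type*} [Field F] [Finite F] {U W V : Type*} [AddCommGroup U] [Module F U] [FiniteDimensional F U]
  [AddCommGroup W] [Module F W] [FiniteDimensional F W] [AddCommGroup V] [Module F V] [FiniteDimensional F V]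
  {H : BilinForm F V} {f : BilinForm F U} {g : BilinForm F W} {T : U →ₗ[F] W →ₗ[F] V}

namespace Orth

variable {D : Data H f g T} {K : Subgroup (Sp H)} (O : Orth D K)
include O

/-- The coordinates of a plane. -/
theorem plane (h2 : finrank F W = 2) {v v' : W} (hvv : g v v' = 1) (y : W) :
    y = g y v' • v + g v y • v' := by
  have hli : LinearIndependent F ![v, v'] := LinearIndependent.pair_iff.2 fun s t hst => by
    have e1 := congrArg (g v) hst
    have e2 := congrArg (fun u => g u v') hst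
    simp [O.gA v, hvv] at e1
    simp [O.gA v', hvv] at e2
    exact ⟨e2, e1⟩
  have hspan : Submodule.span F (Set.range ![v, v']) = ⊤ :=
    hli.span_eq_top_of_card_eq_finrank (by rw [Fintype.card_fin, h2])
  obtain ⟨c, hc⟩ := (Submodule.mem_span_range_iff_exists_fun F).1 (hspan.ge (Submodule.mem_top (x := y)))
  rw [Fin.sum_univ_two] at hc
  simp at hc
  subst hc
  simp [O.gA v, O.gA v', hvv]

/-- Vectors of `V` in coordinates. -/
theorem decomp (h2 : finrank F W = 2) {v v' : W} (hvv : g v v' = 1) (x : V) :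
    x = T (-(D.C v' x)) v + T (D.C v x) v' := D.V_ext fun z => by
  rw [O.plane h2 hvv z]
  simp [D.C_T, O.gA v, O.gA v', hvv, O.gswap v v']

/-- Conjugating a central map by an element sending its line to a line. -/
theorem E_line {x : Sp H} (hx : x ∈ K) {v z : W} {P φ : U →ₗ[F] U}
    (hP : ∀ a, (x : V ≃ₗ[F] V) (T a v) = T (P a) z) (h : Mem K (D.E v φ)) :
    Mem K (D.E z (P ∘ₗ φ ∘ₗ D.adj P)) := by
  refine h.conj hx fun y => ?_
  have e : D.adj P (D.C z ((x : V ≃ₗ[F] V) y)) = D.C v y := D.fext fun b => by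
    rw [← D.adj_right, D.f_C, ← hP, sp_map x, D.f_C]
  rw [D.E_apply, D.E_apply, map_add, hP, LinearMap.comp_apply, LinearMap.comp_apply, e]

/-- An element fixing a line of a plane is a central map. -/
theorem fix_line (h2 : finrank F W = 2) {x : Sp H} {v v' : W} (hvv : g v v' = 1)
    (h0 : ∀ a, (x : V ≃ₗ[F] V) (T a v) = T a v) :
    ∃ φ : U →ₗ[F] U, ∀ y, (x : V ≃ₗ[F] V) y = D.E v φ y := by
  set φ : U →ₗ[F] U := -(D.C v' ∘ₗ (((x : V ≃ₗ[F] V) : V →ₗ[F] V) ∘ₗ T.flip v')) with hφ
  refine ⟨φ, fun y => LinearMap.congr_fun (D.hom_ext (L := ((x : V ≃ₗ[F] V) : V →ₗ[F] V)) (L' := D.E v φ)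
    fun a y => ?_) y⟩
  have hC : D.C v ((x : V ≃ₗ[F] V) (T a v')) = a := D.fext fun b => by
    rw [D.f_C, ← h0 b, sp_map x, D.formT, hvv, mul_one]
  have hx' : (x : V ≃ₗ[F] V) (T a v') = T a v' + T (φ a) v := by
    rw [O.decomp h2 hvv ((x : V ≃ₗ[F] V) (T a v')), hC]
    simp [φ, add_comm]
  rw [O.plane h2 hvv y]
  simp [h0, hx', D.E_apply, D.C_T, O.gA v, hvv, map_add]
  module

/-- In a plane a line sent to a line gives a product. -/
theorem line_kr_thin (h2 : finrank F W = 2) (hN : NC D K) {x : Sp H} (hx : x ∈ K) {w w' : W} (hw : w ≠ 0)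
    {A₀ : U →ₗ[F] U} (hA : ∀ a, (x : V ≃ₗ[F] V) (T a w) = T (A₀ a) w') : Kr T x := by
  have := O.nontriv
  have hinj : Function.Injective A₀ := fun a b e =>
    D.T_injective hw ((x : V ≃ₗ[F] V).injective (by rw [hA, hA, e]))
  have hw' : w' ≠ 0 := by
    intro e
    obtain ⟨a, ha⟩ := exists_ne (0 : U)
    refine ha (D.T_eq_zero hw ((x : V ≃ₗ[F] V).injective ?_))
    rw [hA, e, map_zero, map_zero]
  obtain ⟨c, hc⟩ := hN _ _ hw' (O.E_line hx hA (by simpa using O.trz_mem w 1))
  rw [LinearMap.id_comp] at hc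
  obtain ⟨w₂, hw₂⟩ := D.exists_partner_one hw
  obtain ⟨w₂', hw₂'⟩ := D.exists_partner_one hw'
  have hc0 : c ≠ 0 := fun e => by
    obtain ⟨a, ha⟩ := exists_ne (0 : U)
    rw [e, zero_smul] at hc
    have h1 : D.adj A₀ a = 0 := hinj (by rw [map_zero]; exact LinearMap.congr_fun hc a)
    obtain ⟨b, rfl⟩ := LinearMap.injective_iff_surjective.1 hinj a
    exact ha (D.hf.1 _ fun y => by
      obtain ⟨y', rfl⟩ := LinearMap.injective_iff_surjective.1 hinj y
      rw [← D.adj_left, h1, map_zero, LinearMap.zero_apply])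
  have hsim : ∀ a b, f (A₀ a) (A₀ b) = c * f a b := fun a b => by
    obtain ⟨b', hb'⟩ := LinearMap.injective_iff_surjective.1
      (show Function.Injective (D.adj A₀) from fun p q e => by
        have e' := congrArg A₀ e
        have hp := LinearMap.congr_fun hc p
        have hq := LinearMap.congr_fun hc q
        simp only [LinearMap.comp_apply, LinearMap.smul_apply, LinearMap.id_apply] at hp hq
        rw [hp, hq] at e'
        exact smul_right_injective U hc0 e') b
    have h1 : A₀ b = c • b' := by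
      rw [← hb']
      exact LinearMap.congr_fun hc b'
    rw [h1, map_smul, smul_eq_mul, D.adj_right, hb']
  -- the product agreeing on the line
  let e₁ : W := -w₂
  have hwe : g w e₁ = 1 := by simp [e₁, O.gswap w₂ w, hw₂]
  let e₂ : W := -w₂'
  have hwe' : g w' e₂ = 1 := by simp [e₂, O.gswap w₂' w', hw₂']
  let B : W →ₗ[F] W := (g.flip e₁).smulRight w' + (c⁻¹ • g w).smulRight e₂
  have hB : ∀ y z, g (B y) (B z) = c⁻¹ * g y z := fun y z => by
    conv_rhs => rw [O.plane h2 hwe y, O.plane h2 hwe z]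
    simp [B, O.gA w, O.gA w', O.gA e₁, O.gA e₂, hwe, hwe', O.gswap w e₁, O.gswap w' e₂]
    ring
  obtain ⟨L, hL⟩ := D.exists_tens A₀ B
  have h1 : ∀ u v, H (L u) (L v) = H u v := fun u v => by
    have e : H.compl₁₂ L L = H := D.hom_ext fun a y => D.hom_ext fun b z => by
      rw [LinearMap.compl₁₂_apply, hL, hL, D.formT, D.formT, hsim, hB]
      field_simp
    exact LinearMap.congr_fun (LinearMap.congr_fun e u) v
  have hLinj : Function.Injective L := fun u v e => sub_eq_zero.1 (D.hH.1 _ fun x => by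
    rw [map_sub, LinearMap.sub_apply, ← h1 u, ← h1 v, e, sub_self])
  let k : Sp H := ⟨LinearEquiv.ofInjectiveEndo L hLinj, h1⟩
  have hk : k ∈ K := O.base k A₀ B hL
  have hBw : B w = w' := by simp [B, O.gA w, hwe]
  have hfix : ∀ a, ((k⁻¹ * x : Sp H) : V ≃ₗ[F] V) (T a w) = T a w := fun a => by
    show (k : V ≃ₗ[F] V).symm ((x : V ≃ₗ[F] V) (T a w)) = _
    rw [LinearEquiv.symm_apply_eq, hA]
    show _ = L (T a w)
    rw [hL, hBw]
  obtain ⟨φ, hφ⟩ := O.fix_line h2 hwe hfix
  obtain ⟨t, ht⟩ := hN w φ hw ⟨_, K.mul_mem (K.inv_mem hk) hx, hφ⟩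
  have hK1 : Kr T k := ⟨A₀, fun y => ⟨B y, fun a => hL a y⟩⟩
  have hK2 : Kr T (k⁻¹ * x) := ⟨LinearMap.id, fun y => ⟨y + (g w y * t) • w, fun a => by
    rw [hφ, ht, D.E_pure]
    simp [smul_smul]⟩⟩
  simpa using hK1.mul hK2

/-! ### A non-scalar central coefficient -/

theorem perp_aniso (h3 : finrank F U = 3) {a b y : U} (haa : f a a ≠ 0)
    (hdet : f a a * f b b - f a b * f a b ≠ 0) (hy : y ≠ 0) (hay : f a y = 0) (hby : f b y = 0) : f y y ≠ 0 := by
  intro h0
  obtain ⟨x, hx⟩ : ∃ x, f y x ≠ 0 := by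
    by_contra! hc
    exact hy (D.hf.1 y hc)
  have hya : f y a = 0 := by rw [O.form.symm a y, hay]
  have hyb : f y b = 0 := by rw [O.form.symm b y, hby]
  have hli : LinearIndependent F ![a, b, y, x] := by
    rw [Fintype.linearIndependent_iff]
    intro t ht
    simp [Fin.sum_univ_four] at ht
    have t3 : t 3 = 0 := by simpa [hya, hyb, h0, hx] using congrArg (f y) ht
    have e1 : t 0 * f a a + t 1 * f a b = 0 := by simpa [hay, t3] using congrArg (f a) ht
    have e2 : t 0 * f a b + t 1 * f b b = 0 := by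
      simpa [hby, t3, O.form.symm a b] using congrArg (f b) ht
    have t1 : t 1 = 0 := (mul_eq_zero.1
      (show t 1 * (f a a * f b b - f a b * f a b) = 0 by linear_combination f a a * e2 - f a b * e1)).resolve_right hdet
    have t0 : t 0 = 0 := by simpa [t1, haa] using e1
    simp [t0, t1, t3, hy] at ht
    exact fun i => by fin_cases i <;> assumption
  have := hli.fintype_card_le_finrank
  rw [Fintype.card_fin, h3] at this
  omega

theorem centres_one : (LinearMap.id : U →ₗ[F] U) ∈ O.centres := fun w => by simpa using O.trz_mem w 1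

theorem centres_conj {e : U} (he : f e e ≠ 0) {φ : U →ₗ[F] U} (hφ : φ ∈ O.centres) :
    refl f e ∘ₗ φ ∘ₗ refl f e ∈ O.centres := fun w =>
  O.toOver.E_conj (A := refl f e) (A' := refl f e) (B := LinearMap.id)
    (O.form.refl_isometry he) (O.form.refl_refl he) (fun _ _ => rfl) (hφ w)

theorem sym2_mem {e : U} (he : f e e ≠ 0) {φ : U →ₗ[F] U} (hφ : φ ∈ O.centres) :
    sym2 f e (φ e - (f e (φ e) / f e e) • e) ∈ O.centres := by
  have hs : ∀ a b, f (φ a) b = f a (φ b) := fun a b => by
    obtain ⟨w, hw⟩ := O.exists_ne_zero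
    rw [← D.adj_left, O.selfadj hw (hφ w)]
  have h1 := O.centres.sub_mem (O.centres_conj he hφ) hφ
  have e1 : refl f e ∘ₗ φ ∘ₗ refl f e - φ =
      (-(2 / f e e)) • sym2 f e (φ e - (f e (φ e) / f e e) • e) := LinearMap.ext fun x => by
    simp only [LinearMap.sub_apply, LinearMap.comp_apply, LinearMap.smul_apply, sym2_apply, refl_apply, map_sub,
      map_smul, smul_eq_mul, hs e x]
    match_scalars
    all_goals first
      | (field_simp; ring)
      | (field_simp)
      | ring
  rw [e1] at h1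
  exact (O.centres.smul_mem_iff (neg_ne_zero.2 (div_ne_zero D.two he))).1 h1

/-- Transvections of a vector orthogonal to the plane of a symmetrised rank two coefficient. -/
theorem sq_of_sym2 (h2 : finrank F W = 2) (h3 : finrank F U = 3) {e q : U} (he : f e e ≠ 0) (hq : f q q ≠ 0)
    (heq : f e q = 0) (hD : sym2 f e q ∈ O.centres) {d : U} (hed : f e d = 0) (hqd : f q d = 0) :
    sq f d ∈ O.centres := by
  classical
  by_cases hd0 : d = 0
  · convert O.centres.zero_mem using 1
    exact LinearMap.ext fun x => by simp [hd0]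
  have hqe : f q e = 0 := by rw [O.form.symm e q, heq]
  have hde : f d e = 0 := by rw [O.form.symm e d, hed]
  have hdq : f d q = 0 := by rw [O.form.symm q d, hqd]
  have hli : LinearIndependent F ![e, q, d] := by
    rw [Fintype.linearIndependent_iff]
    intro c hc
    simp only [Fin.sum_univ_three, Matrix.cons_val_zero, Matrix.cons_val_one, Matrix.cons_val] at hc
    have c0 : c 0 = 0 := by
      have := congrArg (f e) hc
      simpa [heq, hed, he] using this
    have c1 : c 1 = 0 := by
      have := congrArg (f q) hc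
      simpa [hqe, hqd, hq] using this
    rw [c0, c1, zero_smul, zero_smul, zero_add, zero_add, smul_eq_zero] at hc
    exact fun i => by fin_cases i <;> first | exact c0 | exact c1 | exact hc.resolve_right hd0
  have hspan : Submodule.span F (Set.range ![e, q, d]) = ⊤ :=
    hli.span_eq_top_of_card_eq_finrank (by rw [Fintype.card_fin, h3])
  have hdd : f d d ≠ 0 := O.perp_aniso h3 he (by simpa [heq] using mul_ne_zero he hq) hd0 hed hqd
  set κ := f e e * f q q
  have hκ : κ ≠ 0 := mul_ne_zero he hq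
  set π : U →ₗ[F] U := (f d d)⁻¹ • sq f d with hπ
  set S := sym2 f e q
  have hSS : ∀ x, S (S x) = κ • (x - π x) := fun x => by
    have := LinearMap.ext_on_range hspan (f := S ∘ₗ S) (g := κ • (LinearMap.id - π)) fun i => by
      fin_cases i <;> simp [S, π, κ, heq, hqe, hde, hdq, hed, hqd, hdd, smul_smul, mul_comm]
    exact LinearMap.congr_fun this x
  have hSπ : ∀ x, S (π x) = 0 := fun x => by simp [S, π, hed, hqd, map_smul]
  have hπS : ∀ x, π (S x) = 0 := fun x => by simp [S, π, hdq, hde]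
  have hππ : ∀ x, π (π x) = π x := fun x => by simp [π, hdd, smul_smul]
  have hSsa : ∀ a b, f (S a) b = f a (S b) := fun a b => by
    simp [S, O.form.symm a e, O.form.symm a q, O.form.symm b e, O.form.symm b q]
    ring
  have hπsa : ∀ a b, f (π a) b = f a (π b) := fun a b => by
    simp only [π, sq_apply, LinearMap.smul_apply, map_smul, smul_eq_mul, O.form.symm a d, O.form.symm b d]
    ring
  -- the basic element of each pair
  have basic : ∀ v v' : W, g v v' = 1 → ∀ c : F,
      Mem K (D.E v' ((-(c / κ)) • π) ∘ₗ D.E v (c • π)) := by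
    intro v v' hvv c
    have hv'v : g v' v = -1 := by rw [O.gswap v v', hvv]
    obtain ⟨a₁, ha₁, e₁⟩ := hD v
    obtain ⟨a₂, ha₂, e₂⟩ := (O.centres.smul_mem κ⁻¹ hD) v'
    set x := a₁ * a₂ * a₁
    have hx : ∀ a, (x : V ≃ₗ[F] V) (T a v) = T (π a) v + T ((-κ⁻¹) • S a) v' := fun a => by
      show (a₁ : V ≃ₗ[F] V) ((a₂ : V ≃ₗ[F] V) ((a₁ : V ≃ₗ[F] V) (T a v))) = _
      rw [e₁ (T a v), D.E_pure, O.gA v, zero_smul, add_zero, e₂, D.E_pure, hv'v, map_add, map_smul, e₁, e₁, D.E_pure,
        D.E_pure, O.gA v, hvv]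
      simp [hSS, smul_smul, inv_mul_cancel₀ hκ]
      module
    have hX : Mem K (LinearMap.id + c • (T.flip v ∘ₗ π ∘ₗ D.C v) +
        (c / κ) • (T.flip v' ∘ₗ (LinearMap.id - π) ∘ₗ D.C v')) := by
      refine (O.trz_mem v c).conj (show x ∈ K from K.mul_mem (K.mul_mem ha₁ ha₂) ha₁) fun y => ?_
      have e3 : D.C v y =
          π (D.C v ((x : V ≃ₗ[F] V) y)) + (-κ⁻¹) • S (D.C v' ((x : V ≃ₗ[F] V) y)) := D.fext fun b => by
        rw [D.f_C, ← sp_map x (T b v) y, hx, map_add, LinearMap.add_apply, ← D.f_C, ← D.f_C]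
        simp only [map_add, map_smul, LinearMap.smul_apply, smul_eq_mul, ← hπsa, ← hSsa]
      simp only [D.E_apply, LinearMap.smul_apply, LinearMap.id_apply, LinearMap.add_apply,
        LinearMap.comp_apply, LinearMap.sub_apply, LinearMap.flip_apply]
      rw [e3]
      simp only [map_add, map_smul, hx, LinearMap.add_apply, LinearMap.smul_apply, hπS, hSπ, hSS, hππ, smul_zero, map_zero, LinearMap.zero_apply, add_zero,
        zero_add, map_sub, LinearMap.smul_apply, LinearMap.sub_apply]
      match_scalars <;> field_simp <;> ring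
    refine ((O.trz_mem v' (-(c / κ))).comp hX).of_eq fun y => ?_
    simp [D.E_apply, D.C_T, O.gA v', hv'v, hππ]
    module
  -- differences of transvections
  have diff : ∀ z₁ z₂ : W, g z₂ z₁ ≠ 0 → ∀ c : F, Mem K (D.E z₁ (c • π) ∘ₗ D.E z₂ ((-c) • π)) := by
    intro z₁ z₂ hz c
    set m := g z₂ z₁
    set v := m⁻¹ • (z₂ - z₁) with hv
    have hvv : g v z₁ = 1 := by simp [v, O.gA z₁, m, hz]
    have hvv2 : g v z₂ = 1 := by
      simp [v, O.gA z₂, O.gswap z₂ z₁, m, hz]
    obtain ⟨A, hA, eA⟩ := basic v z₁ hvv (-(c * κ))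
    obtain ⟨B, hB, eB⟩ := basic v z₂ hvv2 (-(c * κ))
    refine ⟨A * B⁻¹, K.mul_mem hA (K.inv_mem hB), fun y => ?_⟩
    obtain ⟨u, rfl⟩ := (B : V ≃ₗ[F] V).surjective y
    show (A : V ≃ₗ[F] V) ((B : V ≃ₗ[F] V).symm ((B : V ≃ₗ[F] V) u)) = _
    rw [LinearEquiv.symm_apply_apply, eA, eB]
    rw [show -(-(c * κ) / κ) = c by field_simp]
    simp only [← LinearMap.comp_apply]
    rw [LinearMap.comp_assoc, ← LinearMap.comp_assoc (D.E v _) (D.E z₂ _) (D.E z₂ _), D.E_add (O.gA z₂),
      show (-c) • π + c • π = 0 by module, D.E_zero, LinearMap.id_comp]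
  -- a single transvection
  intro z
  by_cases hz : z = 0
  · rw [hz, D.E_zero_line]; exact mem_id
  obtain ⟨z₂, hz₂⟩ := D.exists_partner_one hz
  obtain ⟨ν, hν0, hν⟩ : ∃ ν : F, ν ≠ 0 ∧ ν * ν ≠ 1 := by
    by_contra! hu
    have := O.big fun u => by
      by_cases a : u = 0
      · exact Or.inl a
      exact Or.inr (mul_self_eq_one_iff.1 (hu u a))
    omega
  set c := (f d d) / (1 - ν * ν)
  have hν' : 1 - ν * ν ≠ 0 := sub_ne_zero.2 (Ne.symm hν)
  refine ((diff z z₂ (by rw [hz₂]; exact one_ne_zero) c).comp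
    (diff z₂ (ν • z) (by simp [O.gswap z₂ z, hz₂, hν0]) c)).of_eq fun y => ?_
  rw [LinearMap.comp_assoc, ← LinearMap.comp_assoc (D.E (ν • z) _) (D.E z₂ _) (D.E z₂ _), D.E_add (O.gA z₂),
    show (-c) • π + c • π = 0 by module, D.E_zero, LinearMap.id_comp, D.E_smul_line, D.E_add (O.gA z)]
  refine LinearMap.congr_fun (congrArg (D.E z) (LinearMap.ext fun a => ?_)) y
  simp [π, c]
  have hν2 : 1 - ν ^ 2 ≠ 0 := by rwa [_root_.sq]
  match_scalars
  field_simp
  ring

/-- A non-scalar coefficient gives an orthogonal pair with its symmetrised map. -/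
theorem exists_sym2 (h3 : finrank F U = 3) {φ : U →ₗ[F] U} (hφ : φ ∈ O.centres) (hns : ∀ c : F, φ ≠ c • LinearMap.id) :
    ∃ e q, f e e ≠ 0 ∧ f q q ≠ 0 ∧ f e q = 0 ∧ sym2 f e q ∈ O.centres := by
  have := O.nontriv
  have hJ : ∀ a b, f (φ a) b = f a (φ b) := fun a b => by
    obtain ⟨w, hw⟩ := O.exists_ne_zero
    rw [← D.adj_left, O.selfadj hw (hφ w)]
  obtain ⟨e, he, hne⟩ : ∃ e, f e e ≠ 0 ∧ ∀ t : F, φ e ≠ t • e := by
    by_contra! hc
    obtain ⟨e₀, he₀⟩ := O.form.exists_aniso
    obtain ⟨t₀, ht₀⟩ := hc e₀ he₀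
    refine hns t₀ (LinearMap.ext fun x => ?_)
    induction x using O.form.induction with
    | add x y hx hy => rw [map_add, hx, hy, map_add]
    | smul c x hx => rw [map_smul, hx, map_smul]
    | aniso x hx =>
      obtain ⟨t, ht⟩ := hc x hx
      show φ x = t₀ • x
      by_cases hxe : f e₀ x = 0
      · by_cases hs : f (e₀ + x) (e₀ + x) = 0
        · have hexp : f e₀ e₀ + f x x = 0 := by
            simpa [hxe, O.form.symm e₀ x] using hs
          obtain ⟨u, hu0, hu1⟩ : ∃ u : F, u ≠ 0 ∧ u * u ≠ 1 := by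
            by_contra! hu
            have := O.big fun u => by
              by_cases a : u = 0
              · exact Or.inl a
              exact Or.inr (mul_self_eq_one_iff.1 (hu u a))
            omega
          obtain ⟨s, hs'⟩ := hc (e₀ + u • x) (by
            simp [hxe, O.form.symm e₀ x]
            intro h0
            exact mul_ne_zero hx (sub_ne_zero.2 hu1) (by linear_combination h0 - hexp))
          rw [map_add, map_smul, ht₀, ht] at hs'
          have h1 := congrArg (f e₀) hs'
          have h2 := congrArg (f x) hs'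
          simp [hxe, O.form.symm e₀ x] at h1 h2
          rw [ht]
          congr 1
          rw [h1.resolve_right he₀]
          refine mul_left_cancel₀ hu0 (mul_right_cancel₀ hx ?_)
          linear_combination h2
        · obtain ⟨s, hs'⟩ := hc _ hs
          rw [map_add, ht₀, ht] at hs'
          have h1 := congrArg (f e₀) hs'
          have h2 := congrArg (f x) hs'
          simp [hxe, O.form.symm e₀ x] at h1 h2
          rcases h1 with h1 | h1
          · rcases h2 with h2 | h2
            · rw [ht, h1, ← h2]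
            · exact absurd h2 hx
          · exact absurd h1 he₀
      · have h2 := hJ e₀ x
        rw [ht₀, ht, map_smul, map_smul, LinearMap.smul_apply, smul_eq_mul, smul_eq_mul] at h2
        rw [ht, mul_right_cancel₀ hxe h2]
  have hS := O.sym2_mem he hφ
  set q := φ e - (f e (φ e) / f e e) • e with hqdef
  have hq0 : q ≠ 0 := fun h0 => hne _ (sub_eq_zero.1 h0)
  have heq : f e q = 0 := by simp [q, he]
  by_cases hqq : f q q = 0
  swap
  · exact ⟨e, q, he, hqq, heq, hS⟩
  obtain ⟨x, hx⟩ : ∃ x, f q x ≠ 0 := by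
    by_contra! h'
    exact hq0 (D.hf.1 q h')
  obtain ⟨e', he', hee', hqe'⟩ : ∃ e', f e' e' ≠ 0 ∧ f e e' = 0 ∧ f q e' ≠ 0 := by
    set e₁ := x - (f e x / f e e) • e
    have h1 : f e e₁ = 0 := by simp [e₁, he]
    have h2 : f q e₁ ≠ 0 := by simpa [e₁, O.form.symm e q, heq] using hx
    by_cases h3 : f e₁ e₁ = 0
    · refine ⟨e₁ + q, ?_, by simp [h1, heq], by simpa [hqq] using h2⟩
      simp [h3, hqq, O.form.symm q e₁]
      intro h0
      exact mul_ne_zero D.two h2 (by linear_combination h0)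
    · exact ⟨e₁, h3, h1, h2⟩
  have h2 := O.sym2_mem he' hS
  have e1 : sym2 f e q e' - (f e' (sym2 f e q e') / f e' e') • e' = f q e' • e := by
    simp [hee', O.form.symm e e']
  rw [e1] at h2
  refine ⟨e', f q e' • e, he', ?_, by simp [O.form.symm e e', hee'], h2⟩
  simp [hqe', he]

/-- Transvections at all pure tensors of a vector. -/
def SqMem (a : U) : Prop := sq f a ∈ O.centres

theorem SqMem.tr {a : U} (h : O.SqMem a) (r : W) : Tr D.hA K (T a r) := fun c => by
  obtain ⟨k, hk, ek⟩ := (O.centres.smul_mem (-c) h) r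
  convert hk
  ext v
  rw [ek, sq, D.E_eq_tr, neg_neg]

/-- A non-scalar coefficient gives the whole symplectic group. -/
theorem eq_top_thin (h2 : finrank F W = 2) (h3 : finrank F U = 3) (h : ¬ NC D K) : K = ⊤ := by
  classical
  have := O.nontriv
  simp only [NC, not_forall, not_exists] at h
  obtain ⟨w₀, φ, hw₀, hφ, hns⟩ := h
  -- an orthogonal vector with its rank one map
  have perp3 : ∀ e q : U, ∃ d, d ≠ 0 ∧ f e d = 0 ∧ f q d = 0 := by
    intro e q
    obtain ⟨d, hd, hd0⟩ := Submodule.exists_mem_ne_zero_of_ne_bot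
      (p := LinearMap.ker ((f e).prod (f q))) (fun e0 => by
        have h1 := LinearMap.finrank_range_add_finrank_ker ((f e).prod (f q))
        have h2 := Submodule.finrank_le (LinearMap.range ((f e).prod (f q)))
        rw [Module.finrank_prod, Module.finrank_self] at h2
        rw [e0, finrank_bot] at h1
        omega)
    obtain ⟨a, b⟩ := Prod.ext_iff.1 (LinearMap.mem_ker.1 hd)
    exact ⟨d, hd0, a, b⟩
  obtain ⟨e₀, q₀, he₀, hq₀, heq₀, hS₀⟩ := O.exists_sym2 h3 (O.all_lines hw₀ hφ) hns
  obtain ⟨d₀, hd₀0, hed₀, hqd₀⟩ := perp3 e₀ q₀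
  have hd₀ : O.SqMem d₀ := O.sq_of_sym2 h2 h3 he₀ hq₀ heq₀ hS₀ hed₀ hqd₀
  have hdd₀ : f d₀ d₀ ≠ 0 :=
    O.perp_aniso h3 he₀ (by simpa [heq₀] using mul_ne_zero he₀ hq₀) hd₀0 hed₀ hqd₀
  -- the other orthogonal anisotropic vectors
  have next_vec : ∀ {a b : U}, O.SqMem a → f a a ≠ 0 → f a b = 0 → f b b ≠ 0 → O.SqMem b := by
    intro a b ha haa hab hbb
    obtain ⟨c, hc0, hac, hbc⟩ := perp3 a b
    have hcc : f c c ≠ 0 := O.perp_aniso h3 haa (by simpa [hab] using mul_ne_zero haa hbb) hc0 hac hbc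
    obtain ⟨s, hs0, hs⟩ : ∃ s : F, s ≠ 0 ∧ f a a + s * s * f c c ≠ 0 := by
      by_contra! hu
      have h1 := hu 1 one_ne_zero
      have := O.big fun u => by
        by_cases e : u = 0
        · exact Or.inl e
        refine Or.inr (mul_self_eq_one_iff.1 ?_)
        have h4 := hu u e
        refine mul_right_cancel₀ hcc ?_
        linear_combination h4 - h1
      omega
    set e := a + s • c with he'
    have hee : f e e = f a a + s * s * f c c := by simp [e, hac, O.form.symm a c]; ring
    have hS : sq f a ∈ O.centres := ha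
    have h1 := O.sym2_mem (e := e) (by rwa [hee]) hS
    have hq : sq f a e - (f e (sq f a e) / f e e) • e =
        (f a a * (f a a + s * s * f c c))⁻¹ • ((f a a * f a a * (s * s * f c c)) • a -
          (s * (f a a * f a a * f a a)) • c) := by
      rw [sq_apply, show f a e = f a a by simp [e, hac], map_smul, show f e a = f a a by
        simp [e, O.form.symm a c, hac], hee, smul_eq_mul]
      have hs2 : f a a + s ^ 2 * f c c ≠ 0 := by rwa [_root_.sq]
      rw [eq_inv_smul_iff₀ (mul_ne_zero haa hs)]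
      simp only [e]
      match_scalars <;> field_simp <;> ring
    rw [hq] at h1
    refine O.sq_of_sym2 h2 h3 (by rwa [hee]) ?_ ?_ h1 (by simp [e, hab, O.form.symm b c, hbc])
      (by simp [hab, O.form.symm b c, hbc])
    · simp [hac, O.form.symm a c]
      refine ⟨⟨hs, haa⟩, fun h0 => ?_⟩
      refine mul_ne_zero (mul_ne_zero (mul_ne_zero (mul_ne_zero (mul_ne_zero haa haa) haa) haa) hcc)
        (mul_ne_zero (mul_ne_zero hs0 hs0) (mul_ne_zero haa hs)) ?_
      linear_combination h0
    · simp [e, hac, O.form.symm a c]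
      right
      ring
  have all_aniso : ∀ a, f a a ≠ 0 → O.SqMem a := by
    intro a haa
    by_cases hz : f d₀ a = 0
    · exact next_vec hd₀ hdd₀ hz haa
    by_cases hdet : f d₀ d₀ * f a a - f d₀ a * f d₀ a = 0
    swap
    · obtain ⟨x, hx0, hdx, hax⟩ := perp3 d₀ a
      have hxx := O.perp_aniso h3 hdd₀ hdet hx0 hdx hax
      exact next_vec (next_vec hd₀ hdd₀ hdx hxx) hxx (by rw [O.form.symm a x, hax]) haa
    -- a neighbour of the first vector spanning a non-degenerate plane with the given one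
    set a' := a - (f d₀ a / f d₀ d₀) • d₀ with ha'
    have hda' : f d₀ a' = 0 := by simp [a', hdd₀]
    have ha'a : f a a' = 0 := by
      simp [a', O.form.symm d₀ a]
      field_simp
      linear_combination hdet
    have ha'a' : f a' a' = 0 := by
      have e : f a' a' = f a a' - (f d₀ a / f d₀ d₀) * f d₀ a' := by
        rw [← smul_eq_mul, ← LinearMap.smul_apply, ← map_smul, ← LinearMap.sub_apply, ← map_sub]
      rw [e, ha'a, hda', mul_zero, sub_zero]
    by_cases ha'0 : a' = 0
    · have e : a = (f d₀ a / f d₀ d₀) • d₀ := sub_eq_zero.1 ha'0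
      show sq f a ∈ O.centres
      convert O.centres.smul_mem ((f d₀ a / f d₀ d₀) * (f d₀ a / f d₀ d₀)) hd₀ using 1
      refine LinearMap.ext fun x => ?_
      conv_lhs => rw [e]
      simp [smul_smul]
      ring_nf
    obtain ⟨x, hx⟩ : ∃ x, f a' x ≠ 0 := by
      by_contra! hc
      exact ha'0 (D.hf.1 a' hc)
    set x' := x - (f d₀ x / f d₀ d₀) • d₀ with hx'
    have hdx' : f d₀ x' = 0 := by simp [x', hdd₀]
    have ha'x' : f a' x' ≠ 0 := by
      simpa [x', O.form.symm d₀ a', hda'] using hx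
    set b := x' - (f x' x' / (2 * f a' x')) • a'
    have hdb : f d₀ b = 0 := by simp [b, hdx', hda']
    have ha'b : f a' b = f a' x' := by simp [b, ha'a']
    have hbb : f b b = 0 := by
      simp [b, ha'a', O.form.symm a' x']
      field_simp [D.two]
      ring
    set c := a' + (f a a / f a' x') • b with hc'
    have hcc : f c c = 2 * f a a := by
      simp [c, ha'a', hbb, ha'b, O.form.symm a' b]
      field_simp
      ring
    have hac : f a c = f a a := by
      have e : a = a' + (f d₀ a / f d₀ d₀) • d₀ := by simp [a']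
      have e1 : f a b = f a' x' := by
        conv_lhs => rw [e]
        simp [hdb, ha'b]
      rw [hc', map_add, map_smul, ha'a, e1, zero_add, smul_eq_mul, div_mul_cancel₀ _ ha'x']
    have hdc : f d₀ c = 0 := by simp [c, hda', hdb]
    have hcne : f c c ≠ 0 := by rw [hcc]; exact mul_ne_zero D.two haa
    obtain ⟨y, hy0, hcy, hay⟩ := perp3 c a
    have hyy := O.perp_aniso h3 hcne (b := a) (by
      rw [O.form.symm a c, hac, hcc]
      intro h0
      exact mul_ne_zero haa haa (by linear_combination h0)) hy0 hcy hay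
    exact next_vec (next_vec (next_vec hd₀ hdd₀ hdc hcne) hcne hcy hyy) hyy
      (by rw [O.form.symm a y, hay]) haa
  refine D.eq_top_of_pure fun a r => ?_
  by_cases haa : f a a = 0
  swap
  · exact SqMem.tr O (all_aniso a haa) r
  by_cases hr : r = 0
  · rw [hr, map_zero]; exact Tr.zero
  by_cases ha : a = 0
  · rw [ha, map_zero, LinearMap.zero_apply]; exact Tr.zero
  obtain ⟨e, he, hea⟩ := O.form.exists_aniso_pairing ha
  obtain ⟨z, hz⟩ := D.exists_partner_one hr
  have hrz : g r z = -1 := by rw [O.gswap z r, hz]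
  obtain ⟨u, hu0, hu1⟩ : ∃ u : F, u ≠ 0 ∧ u * u ≠ 1 := by
    by_contra! hu
    have := O.big fun u => by
      by_cases e : u = 0
      · exact Or.inl e
      exact Or.inr (mul_self_eq_one_iff.1 (hu u e))
    omega
  set ν := 1 + u
  have hν0 : ν ≠ 0 := fun h0 => hu1 (by linear_combination (u - 1) * h0)
  have hν1 : ν - 1 ≠ 0 := by simpa [ν] using hu0
  have hν2 : ν - 2 ≠ 0 := fun h0 => hu1 (by linear_combination (u + 1) * h0)
  set κ := f e a
  set t := ν * κ / f e e with ht
  have ht0 : t ≠ 0 := div_ne_zero (mul_ne_zero hν0 hea) he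
  set w := t • e
  set v := a - w
  have hww : f w w = ν * ν * κ * κ / f e e := by simp [w, t]; field_simp
  have haw : f a w = ν * κ * κ / f e e := by
    simp [w, t, O.form.symm e a, κ]
    field_simp
  have hvw : f v w = -(ν * (ν - 1) * κ * κ / f e e) := by
    simp only [v, map_sub, LinearMap.sub_apply, haw, hww]
    field_simp
    ring
  have hvv : f v v = ν * (ν - 2) * κ * κ / f e e := by
    simp only [v, map_sub, LinearMap.sub_apply, haa, O.form.symm a w, haw, hww]
    field_simp
    ring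
  have h1 : Tr D.hA K (T v r) := SqMem.tr O (all_aniso v (by
    rw [hvv]; exact div_ne_zero (mul_ne_zero (mul_ne_zero (mul_ne_zero hν0 hν2) hea) hea) he)) r
  have hwa : f w w ≠ 0 := by
    rw [hww]; exact div_ne_zero (mul_ne_zero (mul_ne_zero (mul_ne_zero hν0 hν0) hea) hea) he
  have hTw : ∀ s, Tr D.hA K (T w s) := fun s => SqMem.tr O (all_aniso w hwa) s
  have s1 := h1.add (hTw z) (by
    rw [D.formT, hrz, hvw]
    simp [hν0, hν1, hea, he])
  have s2 := s1.add (hTw r) (by
    simp [D.formT, O.gA r, hz, hwa])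
  have s3 := s2.add ((hTw z).smul (-1)) (by
    simp [D.formT, O.gA z, hrz, hvw, hww]
    rw [mul_comm] at *
    intro h0
    refine mul_ne_zero (mul_ne_zero hν0 hea) hea ?_
    field_simp at h0
    linear_combination h0)
  convert s3 using 1
  simp [v]
  abel

end Orth

end CfsgLib.Geo.MixTensor
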