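/-
Without non-scalar central coefficients, an element sending a line to a line is a product of two maps.
-/
import Cfsg.Agent.Lib.Geo.MixTensor.Thin

set_option autoImplicit false
set_option linter.unusedSectionVars false

namespace CfsgLib.Geo.MixTensor

open CfsgLib.Classical CfsgLib.Classical.Symp Module
open LinearMap (BilinForm)

variable {F : Type*} [Field F] [Finite F] {U W V : Type*} [AddCommGroup U] [Module F U] [FiniteDimensional F U]
  [AddCommGroup W] [Module F W] [FiniteDimensional F W] [AddCommGroup V] [Module F V] [FiniteDimensional F V]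
  {H : BilinForm F V} {f : BilinForm F U} {g : BilinForm F W} {T : U →ₗ[F] W →ₗ[F] V}

namespace Orth

variable {D : Data H f g T} {K : Subgroup (Sp H)} (O : Orth D K)
include O

theorem line_core (hN : NC D K) {x : Sp H} (hx : x ∈ K) {w w' : W} (hw : w ≠ 0) {A₀ : U →ₗ[F] U}
    (hA : ∀ a, (x : V ≃ₗ[F] V) (T a w) = T (A₀ a) w') :
    ∀ y, g w y = 0 → ∃ r, ∀ a, (x : V ≃ₗ[F] V) (T a y) = T (A₀ a) r := by
  have hA0inj : Function.Injective A₀ := fun a b e =>
    D.T_injective hw ((x : V ≃ₗ[F] V).injective (by rw [hA, hA, e]))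
  have hA0surj := LinearMap.injective_iff_surjective.1 hA0inj
  have hw' : w' ≠ 0 := by
    intro e
    have : Nontrivial U := O.nontriv
    obtain ⟨a, ha⟩ := exists_ne (0 : U)
    refine ha (D.T_eq_zero hw ((x : V ≃ₗ[F] V).injective ?_))
    rw [hA, e, map_zero, map_zero]
  obtain ⟨A₀i, hA₀i⟩ : ∃ A : U →ₗ[F] U, ∀ a, A₀ (A a) = a :=
    ⟨(LinearEquiv.ofBijective A₀ ⟨hA0inj, hA0surj⟩).symm.toLinearMap,
      fun a => (LinearEquiv.ofBijective A₀ ⟨hA0inj, hA0surj⟩).apply_symm_apply a⟩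
  set xi : V → V := fun v => (x : V ≃ₗ[F] V).symm v
  have hxi : ∀ v, (x : V ≃ₗ[F] V) (xi v) = v := fun v => (x : V ≃ₗ[F] V).apply_symm_apply v
  have hxw : ∀ a, xi (T a w') = T (A₀i a) w := fun a => (x : V ≃ₗ[F] V).injective (by rw [hxi, hA, hA₀i])
  have hCw : ∀ a y', g w' y' = 0 → D.C w (xi (T a y')) = 0 := fun a y' hy' => D.fext fun c => by
    rw [D.f_C, ← sp_map x, hxi, hA, D.formT, hy', mul_zero, map_zero]
  set A₁ := D.adj A₀i with hA₁
  -- the middle part
  have hmid : ∀ y, g w y = 0 → ∀ y', g w' y' = 0 →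
      ∃ μ : F, (∀ a, D.C y (xi (T a y')) = μ • A₀i a) ∧
        ∀ c, D.C y' ((x : V ≃ₗ[F] V) (T c y)) = -μ • A₁ c := by
    intro y hy y' hy'
    obtain ⟨μ, hμ⟩ : ∃ μ : F, ∀ a, A₀ (D.C y (xi (T a y'))) = μ • a := by
      by_cases hm : y' ∈ Submodule.span F {w'}
      · obtain ⟨c, rfl⟩ := Submodule.mem_span_singleton.1 hm
        refine ⟨0, fun a => ?_⟩
        rw [map_smul, ← LinearMap.smul_apply, ← map_smul, hxw, D.C_T, O.gswap w y, hy]
        simp
      obtain ⟨s, hs, es⟩ := O.sh_one hy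
      have es' : ∀ a y'', g w' y'' = 0 → ((x * s * x⁻¹ : Sp H) : V ≃ₗ[F] V) (T a y'') =
          T a y'' + T (A₀ (D.C y (xi (T a y'')))) w' := fun a y'' h'' => by
        show (x : V ≃ₗ[F] V) ((s : V ≃ₗ[F] V) (xi (T a y''))) = _
        rw [es, D.sh_apply, hCw a y'' h'', map_zero, map_zero, LinearMap.zero_apply, add_zero, map_add, hxi,
          LinearMap.id_apply, hA]
      let N : W → (U →ₗ[F] U) := fun y'' =>
        A₀ ∘ₗ D.C y ∘ₗ (x : V ≃ₗ[F] V).symm.toLinearMap ∘ₗ T.flip y''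
      obtain ⟨μ, hμ⟩ := O.extract hN hw' hy' hm (K.mul_mem (K.mul_mem hx hs) (K.inv_mem hx)) N
        (fun a => by
          rw [es' a w' (O.gA w'), hxw, D.C_T, O.gswap w y, hy]
          simp)
        (fun y'' h'' a => es' a y'' h'')
      exact ⟨μ, fun a => LinearMap.congr_fun hμ a⟩
    refine ⟨μ, fun a => hA0inj (by rw [hμ, map_smul, hA₀i]), fun c => D.fext fun a => ?_⟩
    have h1 : H ((x : V ≃ₗ[F] V) (T c y)) (T a y') = f c (D.C y (xi (T a y'))) := by
      rw [D.f_C, ← sp_map x (T c y) (xi (T a y')), hxi]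
    have h2 : D.C y (xi (T a y')) = μ • A₀i a := hA0inj (by rw [hμ, map_smul, hA₀i])
    rw [D.f_C, D.Hswap, h1, h2, map_smul, map_smul, smul_eq_mul, smul_eq_mul,
      O.form.symm (A₁ c) a, hA₁, D.adj_left]
    ring
  have hA₁inj : Function.Injective A₁ := fun p q e => D.fext fun a => by
    have h1 : ∀ p, f p a = f (A₁ p) (A₀ a) := fun p => by
      rw [hA₁, D.adj_left, show A₀i (A₀ a) = a from hA0inj (hA₀i (A₀ a))]
    rw [O.form.symm p a, O.form.symm q a, h1, h1, e]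
  obtain ⟨w'', hw'', -⟩ := D.exists_sep (U' := ⊥) (x := w') (by simpa using hw')
  have hCww : ∀ c y, g w y = 0 → D.C w' ((x : V ≃ₗ[F] V) (T c y)) = 0 := fun c y hy => D.fext fun a => by
    obtain ⟨b, rfl⟩ := hA0surj a
    rw [D.f_C, ← hA, sp_map x, D.formT, hy, mul_zero, map_zero]
  -- decomposition
  have hdec : ∀ y, g w y = 0 → ∃ (r : W) (θ : U →ₗ[F] U), g w' r = 0 ∧
      ∀ c, (x : V ≃ₗ[F] V) (T c y) = T (A₁ c) r + T (θ c) w' := by
    intro y hy
    have : Nontrivial U := O.nontriv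
    obtain ⟨c₀, hc₀⟩ := exists_ne (0 : U)
    obtain ⟨χ, hχ⟩ := Module.Projective.exists_dual_ne_zero F
      (show A₁ c₀ ≠ 0 from fun e => hc₀ (hA₁inj (by rw [e, map_zero])))
    let ψ₀ : W →ₗ[F] F := ((χ (A₁ c₀))⁻¹ • χ) ∘ₗ D.C.flip ((x : V ≃ₗ[F] V) (T c₀ y))
    obtain ⟨r, hr⟩ := Bilin.exists_right_dual D.hg ψ₀
    have hwr : g w' r = 0 := by
      rw [hr]; simp [ψ₀, hCww c₀ y hy]
    let L : U →ₗ[F] V := (x : V ≃ₗ[F] V).toLinearMap ∘ₗ T.flip y - T.flip r ∘ₗ A₁
    refine ⟨r, -(D.C w'' ∘ₗ L), hwr, fun c => D.V_ext fun z => ?_⟩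
    have hd : ∀ y', g w' y' = 0 → D.C y' (L c) = 0 := fun y' hy' => by
      obtain ⟨μ, -, hμ⟩ := hmid y hy y' hy'
      have e : g y' r = -μ := by
        rw [hr]
        simp [ψ₀, hμ c₀, mul_comm μ, ← mul_assoc, inv_mul_cancel₀ hχ]
      simp [L, hμ c, D.C_T, e]
    have hz : g w' (z - g w' z • w'') = 0 := by rw [map_sub, map_smul, hw'', smul_eq_mul, mul_one, sub_self]
    have h1 := hd _ hz
    simp only [map_sub, map_smul, LinearMap.sub_apply, LinearMap.smul_apply, sub_eq_zero] at h1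
    have hgz : g z w' = -g w' z := O.gswap w' z
    have e1 : D.C z ((x : V ≃ₗ[F] V) (T c y)) = D.C z (L c) + D.C z (T (A₁ c) r) := by
      rw [← map_add]
      congr 1
      simp [L]
    rw [e1, h1, map_add, D.C_T, D.C_T, LinearMap.neg_apply, LinearMap.comp_apply, hgz]
    module
  intro y hy
  by_cases hyw : y ∈ Submodule.span F {w}
  · obtain ⟨c, rfl⟩ := Submodule.mem_span_singleton.1 hyw
    exact ⟨c • w', fun a => by rw [map_smul, map_smul, hA, map_smul]⟩
  obtain ⟨s, hys, hs⟩ := D.exists_sep hyw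
  have hws := hs w (Submodule.mem_span_singleton_self w)
  obtain ⟨r, θ, hr, e⟩ := hdec y hy
  obtain ⟨r₂, θ₂, hr₂, e₂⟩ := hdec s hws
  -- the isometry property
  have hiso : ∀ c c', g r r₂ * f (A₁ c) (A₁ c') = f c c' := fun c c' => by
    have h1 := sp_map x (T c y) (T c' s)
    rw [e, e₂] at h1
    simp only [map_add, LinearMap.add_apply, D.formT, hr₂, O.gA w', O.gswap w' r, hr, hys] at h1
    linear_combination h1
  have hν : g r r₂ ≠ 0 := fun e0 => by
    have : Nontrivial U := O.nontriv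
    obtain ⟨c, hc⟩ := exists_ne (0 : U)
    exact hc (D.hf.1 c fun c' => by rw [← hiso, e0, zero_mul])
  have hA10 : ∀ c, A₁ c = (g r r₂)⁻¹ • A₀ c := by
    intro c
    obtain ⟨b, hb⟩ : ∃ b, A₀i b = c := ⟨A₀ c, hA0inj (hA₀i (A₀ c))⟩
    refine D.fext fun a => ?_
    obtain ⟨c', rfl⟩ := LinearMap.injective_iff_surjective.1 hA₁inj a
    refine mul_left_cancel₀ hν ?_
    rw [hiso, map_smul, smul_eq_mul, ← mul_assoc, mul_inv_cancel₀ hν, one_mul, hA₁, D.adj_left, ← hb, hA₀i]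
  set ν := g r r₂
  have hrw : r ∉ Submodule.span F {w'} := fun hm => hν (by
    obtain ⟨c, rfl⟩ := Submodule.mem_span_singleton.1 hm
    simp [ν, hr₂])
  obtain ⟨y', hry', hy'⟩ := D.exists_sep hrw
  have hw'y' := hy' w' (Submodule.mem_span_singleton_self w')
  have hy'w : y' ∉ Submodule.span F {w'} := fun hm => by
    obtain ⟨c, rfl⟩ := Submodule.mem_span_singleton.1 hm
    rw [map_smul, O.gswap w' r, hr, neg_zero, smul_zero] at hry'
    exact zero_ne_one hry'
  obtain ⟨u, hu, eu⟩ := O.trz_mem y 1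
  obtain ⟨u', hu', eu'⟩ := O.trz_mem r (-ν⁻¹)
  have eψ : ∀ a y'', g w' y'' = 0 → ((u' * (x * u * x⁻¹) : Sp H) : V ≃ₗ[F] V) (T a y'') =
      T a y'' + T ((g r y'' • (θ ∘ₗ A₀i)) a) w' := fun a y'' h'' => by
    show (u' : V ≃ₗ[F] V) ((x : V ≃ₗ[F] V) ((u : V ≃ₗ[F] V) (xi (T a y'')))) = _
    obtain ⟨μ, hμ, hμ'⟩ := hmid y hy y'' h''
    rw [eu, D.E_apply, LinearMap.smul_apply, LinearMap.id_apply, one_smul, map_add, hxi, e, hμ a]
    have hA1i : A₁ (A₀i a) = ν⁻¹ • a := by rw [hA10, hA₀i]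
    have hμg : μ = g r y'' := by
      have h1 := hμ' (A₀i a)
      rw [e, map_add, D.C_T, D.C_T, O.gswap w' y'', h'', neg_zero, zero_smul, add_zero, hA1i,
        O.gswap r y''] at h1
      by_cases ha : a = 0
      · obtain ⟨c₀, hc₀⟩ : ∃ c₀ : U, c₀ ≠ 0 := by
          have : Nontrivial U := O.nontriv
          exact exists_ne 0
        have h2 := hμ' c₀
        rw [e, map_add, D.C_T, D.C_T, O.gswap w' y'', h'', neg_zero, zero_smul, add_zero,
          O.gswap r y''] at h2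
        exact (neg_injective (smul_left_injective F
          (fun e' => hc₀ (hA₁inj (by rw [e', map_zero]))) h2)).symm
      · exact (neg_injective (smul_left_injective F (smul_ne_zero (inv_ne_zero hν) ha) h1)).symm
    rw [eu', D.E_apply, map_smul, map_smul, hA1i, hμg]
    simp only [LinearMap.smul_apply, map_smul, map_add, LinearMap.add_apply, D.C_T, O.gA r,
      O.gswap w' r, hr, LinearMap.comp_apply]
    module
  obtain ⟨κ, hκ⟩ := O.extract hN hw' hw'y' hy'w
    (K.mul_mem hu' (K.mul_mem (K.mul_mem hx hu) (K.inv_mem hx))) (fun y'' => g r y'' • (θ ∘ₗ A₀i))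
    (fun a => by rw [eψ a w' (O.gA w'), LinearMap.smul_apply, O.gswap w' r, hr]; simp)
    (fun y'' h'' a => eψ a y'' h'')
  rw [hry', one_smul] at hκ
  refine ⟨ν⁻¹ • r + κ • w', fun a => ?_⟩
  have hθ : θ a = κ • A₀ a := by
    have h1 := LinearMap.congr_fun hκ (A₀ a)
    rwa [LinearMap.comp_apply, show A₀i (A₀ a) = a from hA0inj (hA₀i (A₀ a))] at h1
  rw [e, hA10, hθ]
  simp only [map_add, map_smul, LinearMap.smul_apply]


/-- **An element sending one line of pure tensors to another is a product.** -/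
theorem line_kr (hN : NC D K) {x : Sp H} (hx : x ∈ K) {w w' : W} (hw : w ≠ 0) {A₀ : U →ₗ[F] U}
    (hA : ∀ a, (x : V ≃ₗ[F] V) (T a w) = T (A₀ a) w') : Kr T x := by
  rcases O.thin with h4 | ⟨h2, -⟩
  swap
  · exact O.line_kr_thin h2 hN hx hw hA
  have h1 := O.line_core hN hx hw hA
  obtain ⟨u, hwu0, hu⟩ := O.exists_orth h4 (w := w)
  have hu0 : u ≠ 0 := fun e => hu (by rw [e]; exact zero_mem _)
  have hwu : w ∉ Submodule.span F {u} := fun hm => hu (by
    obtain ⟨c, hc⟩ := Submodule.mem_span_singleton.1 hm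
    have hc0 : c ≠ 0 := fun e => hw (by rw [← hc, e, zero_smul])
    exact Submodule.mem_span_singleton.2 ⟨c⁻¹, by rw [← hc, inv_smul_smul₀ hc0]⟩)
  obtain ⟨ru, hru⟩ := h1 u hwu0
  have h2 := O.line_core hN hx hu0 hru
  obtain ⟨w'', hww'', hw''⟩ := D.exists_sep hwu
  obtain ⟨rw'', hrw''⟩ := h2 w'' (hw'' u (Submodule.mem_span_singleton_self u))
  refine ⟨A₀, fun y => ?_⟩
  obtain ⟨r, hr⟩ := h1 (y - g w y • w'') (by rw [map_sub, map_smul, hww'', smul_eq_mul, mul_one, sub_self])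
  refine ⟨r + g w y • rw'', fun a => ?_⟩
  conv_lhs => rw [← sub_add_cancel y (g w y • w'')]
  rw [map_add, map_add, hr, map_smul, map_smul, hrw'', map_add, map_smul]

/-- **A non-scalar central coefficient gives the whole symplectic group.** -/
theorem eq_top_of_not_NC (h : ¬ NC D K) : K = ⊤ := by
  rcases O.thin with h4 | ⟨h2, h3⟩
  · exact O.eq_top_of_not_NC_big h4 h
  · exact O.eq_top_thin h2 h3 h

end Orth

end CfsgLib.Geo.MixTensor
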