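/-
A conjugate of a transvection of the second factor which is a product comes from a product.
-/
import Cfsg.Agent.Lib.Geo.MixTensor.Line
import Cfsg.Agent.Lib.Geo.SympTensor.Line

set_option autoImplicit false
set_option linter.unusedSectionVars false

namespace CfsgLib.Geo.MixTensor

open CfsgLib.Classical CfsgLib.Classical.Symp Module
open LinearMap (BilinForm)

variable {F : Type*} [Field F] [Finite F] {U W V : Type*} [AddCommGroup U] [Module F U] [FiniteDimensional F U]
  [AddCommGroup W] [Module F W] [FiniteDimensional F W] [AddCommGroup V] [Module F V] [FiniteDimensional F V]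
  {H : BilinForm F V} {f : BilinForm F U} {g : BilinForm F W} {T : U →ₗ[F] W →ₗ[F] V}

theorem Data.kr_inv (D : Data H f g T) [Nontrivial U] [Nontrivial W] {k : Sp H} (h : Kr T k) : Kr T k⁻¹ := by
  obtain ⟨A, hA⟩ := h
  choose R hR using hA
  obtain ⟨a₀, ha₀⟩ := exists_ne (0 : U)
  obtain ⟨w, hw0⟩ := exists_ne (0 : W)
  have hAinj : Function.Injective A := fun a b e =>
    D.T_injective hw0 ((k : V ≃ₗ[F] V).injective (by rw [hR, hR, e]))
  let Ae := LinearEquiv.ofBijective A ⟨hAinj, LinearMap.injective_iff_surjective.1 hAinj⟩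
  have hRlin : IsLinearMap F R := by
    have key : ∀ p q, (∀ a, T (A a) p = T (A a) q) → p = q := fun p q h => sub_eq_zero.1
      (D.T_eq_zero' (a := A a₀) (fun e => ha₀ (hAinj (e.trans (map_zero A).symm))) (by rw [map_sub, h, sub_self]))
    refine ⟨fun p q => key _ _ fun a => ?_, fun c p => key _ _ fun a => ?_⟩
    · rw [← hR, map_add, map_add, hR, hR, map_add]
    · rw [← hR, map_smul, map_smul, hR, map_smul]
  let B := IsLinearMap.mk' R hRlin
  have hBinj : Function.Injective B := (injective_iff_map_eq_zero B).2 fun y hy => by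
    by_contra hy0
    refine ha₀ (D.T_eq_zero hy0 ((k : V ≃ₗ[F] V).injective ?_))
    rw [hR, show R y = 0 from hy, map_zero, map_zero]
  let Be := LinearEquiv.ofBijective B ⟨hBinj, LinearMap.injective_iff_surjective.1 hBinj⟩
  refine ⟨Ae.symm, fun y => ⟨Be.symm y, fun a => ?_⟩⟩
  show (k : V ≃ₗ[F] V).symm (T a y) = _
  rw [LinearEquiv.symm_apply_eq, hR]
  congr 1
  · congr 1
    exact (Ae.apply_symm_apply a).symm
  · exact (Be.apply_symm_apply y).symm

namespace Orth

variable {D : Data H f g T} {K : Subgroup (Sp H)} (O : Orth D K)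
include O

theorem nontrivW : Nontrivial W := Module.nontrivial_of_finrank_pos (R := F) (by have := O.two_le; omega)

/-- **A product conjugate to a transvection of the second factor comes from a product.** -/
theorem kr_of_trz (hN : NC D K) {h u : Sp H} (hh : h ∈ K) {z : W} (hz : z ≠ 0)
    (eu : ∀ v, (u : V ≃ₗ[F] V) v = D.E z LinearMap.id v) (hk : Kr T (h * u * h⁻¹)) : Kr T h := by
  have := O.nontriv
  obtain ⟨A, hA⟩ := hk
  choose R hR using hA
  set hm : V →ₗ[F] V := ((h : V ≃ₗ[F] V) : V →ₗ[F] V)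
  set η : V →ₗ[F] V := hm ∘ₗ T.flip z ∘ₗ D.C z ∘ₗ (h : V ≃ₗ[F] V).symm.toLinearMap
  set x := h * u * h⁻¹
  have hx : ∀ v, (x : V ≃ₗ[F] V) v = v + η v := fun v => by
    show (h : V ≃ₗ[F] V) ((u : V ≃ₗ[F] V) ((h : V ≃ₗ[F] V).symm v)) = _
    rw [eu, D.E_apply, map_add, LinearEquiv.apply_symm_apply]
    rfl
  have hηη : ∀ v, η (η v) = 0 := fun v => by
    simp [η, hm, D.C_T, O.gA z]
  have hη : ∀ a y, η (T a y) = T (A a) (R y) - T a y := fun a y => by
    rw [← hR, hx, add_sub_cancel_left]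
  set L : U →ₗ[F] V := hm ∘ₗ T.flip z
  have hrange : LinearMap.range η ≤ LinearMap.range L := by
    rintro _ ⟨v, rfl⟩
    exact ⟨D.C z ((h : V ≃ₗ[F] V).symm v), rfl⟩
  have hquad : ∀ z' a y, g z' (R (R y)) • A (A a) - (2 * g z' (R y)) • A a + g z' y • a = 0 := by
    intro z' a y
    have h1 : (x : V ≃ₗ[F] V) ((x : V ≃ₗ[F] V) (T a y)) = T a y + η (T a y) + η (T a y) := by
      rw [hx, hx, map_add, hηη, add_zero]
    rw [hR, hR, hη] at h1
    have h2 := congrArg (D.C z') h1
    simp only [map_add, map_sub, D.C_T] at h2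
    linear_combination (norm := module) h2
  by_cases hsc : ∃ ν : F, A = ν • LinearMap.id
  · obtain ⟨ν, hν⟩ := hsc
    obtain ⟨a₁, ha₁⟩ := exists_ne (0 : U)
    obtain ⟨y, hy⟩ : ∃ y, ν • R y - y ≠ 0 := by
      by_contra! hall
      have hη0 : η = 0 := D.hom_ext fun a y => by
        rw [hη, hν, LinearMap.smul_apply, LinearMap.id_apply, map_smul, LinearMap.smul_apply,
          ← map_smul, ← map_sub, hall, map_zero, LinearMap.zero_apply]
      obtain ⟨z', hz', -⟩ := D.exists_sep (U' := ⊥) (x := z) (by simpa using hz)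
      have h1 := LinearMap.congr_fun hη0 ((h : V ≃ₗ[F] V) (T a₁ z'))
      simp [η, hm, D.C_T, hz'] at h1
      exact ha₁ (D.T_eq_zero hz h1)
    set d := ν • R y - y
    have hmem : LinearMap.range (T.flip d) ≤ LinearMap.range L := by
      rintro _ ⟨a, rfl⟩
      refine hrange ⟨T a y, ?_⟩
      rw [hη, hν, LinearMap.smul_apply, LinearMap.id_apply, map_smul, LinearMap.smul_apply]
      simp [d]
    have heq := Submodule.eq_of_le_of_finrank_le hmem ((LinearMap.finrank_range_le L).trans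
      (LinearMap.finrank_range_of_inj (f := T.flip d) fun a b e => D.T_injective hy e).ge)
    obtain ⟨d', hd'⟩ := D.exists_partner_one hy
    refine O.line_kr hN hh hz (w' := d) (A₀ := D.C d' ∘ₗ L) fun a => ?_
    obtain ⟨b, hb⟩ := heq.ge ⟨a, rfl⟩
    have hb' : T b d = L a := hb
    show L a = T (D.C d' (L a)) d
    rw [← hb', D.C_T, hd', one_smul]
  exfalso
  obtain ⟨a₀, ha₀⟩ : ∃ a₀, ∀ t : F, A a₀ ≠ t • a₀ := by
    by_contra! hc
    exact hsc (SympTensor.scalar_of_eigen hc)
  have ha0 : a₀ ≠ 0 := fun e => ha₀ 0 (by simp [e])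
  have hind : ∀ s t : F, s • A a₀ + t • a₀ = 0 → s = 0 ∧ t = 0 := fun s t e => by
    by_cases hs : s = 0
    · subst hs
      rw [zero_smul, zero_add, smul_eq_zero] at e
      exact ⟨rfl, e.resolve_right ha0⟩
    · refine absurd ?_ (ha₀ (-(s⁻¹ * t)))
      rw [neg_smul, mul_smul, eq_neg_of_add_eq_zero_right e, smul_neg, inv_smul_smul₀ hs, neg_neg]
  have := O.nontrivW
  obtain ⟨y₀, hy₀⟩ := exists_ne (0 : W)
  obtain ⟨z₀, hz₀⟩ := D.exists_partner_one hy₀
  have h0 := hquad z₀ a₀ y₀
  rw [hz₀, one_smul] at h0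
  set γ := g z₀ (R y₀)
  set δ := g z₀ (R (R y₀))
  have hδ : δ ≠ 0 := fun e => by
    rw [e, zero_smul, zero_sub] at h0
    exact one_ne_zero (hind (-(2 * γ)) 1 (by linear_combination (norm := module) h0)).2
  set α := δ⁻¹ * (2 * γ)
  set β := -δ⁻¹
  have hβ : β ≠ 0 := neg_ne_zero.2 (inv_ne_zero hδ)
  have hA2 : A (A a₀) = α • A a₀ + β • a₀ := by
    have e1 : δ • A (A a₀) = (2 * γ) • A a₀ - a₀ := by linear_combination (norm := module) h0
    rw [← inv_smul_smul₀ hδ (A (A a₀)), e1]
    simp only [α, β]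
    module
  set b := -(α / (2 * β))
  have hRy : ∀ y, R y = b • y := fun y => D.gext fun z' => by
    have h1 := hquad z' a₀ y
    rw [hA2] at h1
    obtain ⟨e1, e2⟩ := hind (g z' (R (R y)) * α - 2 * g z' (R y)) (g z' (R (R y)) * β + g z' y)
      (by linear_combination (norm := module) h1)
    rw [map_smul, smul_eq_mul]
    have := D.two
    simp only [b]
    field_simp
    linear_combination (-β) * e1 + α * e2
  set N : U →ₗ[F] U := b • A - LinearMap.id
  have hηN : ∀ a y, η (T a y) = T (N a) y := fun a y => by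
    rw [hη, hRy]; simp [N]
  have hNN : ∀ a, N (N a) = 0 := fun a => D.T_eq_zero hy₀ (by rw [← hηN, ← hηN, hηη])
  have hiso : ∀ a a', f (a + N a) (a' + N a') = f a a' := fun a a' => by
    have h1 := x.2 (T a z₀) (T a' y₀)
    simp only [hx, hηN, map_add, LinearMap.add_apply, D.formT, hz₀, mul_one] at h1 ⊢
    linear_combination h1
  have htot : ∀ a a', f (N a) (N a') = 0 := fun a a' => by
    have h1 := hiso a (N a')
    simp only [hNN, add_zero, map_add, LinearMap.add_apply] at h1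
    linear_combination h1
  have hskew : ∀ a, f (N a) a = 0 := fun a => by
    have h1 := hiso a a
    simp only [map_add, LinearMap.add_apply, htot, add_zero, O.form.symm (N a) a] at h1
    exact (mul_eq_zero.1 (show (2 : F) * f (N a) a = 0 by linear_combination h1)).resolve_left D.two
  set r := finrank F (LinearMap.range N)
  have hr2 : 2 ≤ r := by
    by_contra hlt
    obtain ⟨a₁, ha₁⟩ : ∃ a, N a ≠ 0 := by
      by_contra! hall
      refine hsc ⟨b⁻¹, ?_⟩
      have hb : b ≠ 0 := fun e => by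
        have h2 := hall a₀
        simp [N, e] at h2
        exact ha0 h2
      exact LinearMap.ext fun a => by
        have h2 := sub_eq_zero.1 (hall a : b • A a - a = 0)
        show A a = b⁻¹ • a
        exact ((inv_smul_eq_iff₀ hb).2 h2.symm).symm
    obtain ⟨a, h1, h2, -⟩ := exists_avoid_three D.two (A := LinearMap.ker N) (B := LinearMap.ker (f (N a₁)))
      (C := LinearMap.ker N) (fun e => ha₁ (LinearMap.mem_ker.1 (e.ge trivial)))
      (fun e => ha₁ (D.hf.1 _ fun y => LinearMap.mem_ker.1 (e.ge (x := y) trivial)))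
      (fun e => ha₁ (LinearMap.mem_ker.1 (e.ge trivial)))
    have hspan : Submodule.span F {N a₁} = LinearMap.range N := Submodule.eq_of_le_of_finrank_le
      ((Submodule.span_singleton_le_iff_mem _ _).2 ⟨a₁, rfl⟩)
      (by rw [finrank_span_singleton ha₁]; omega)
    obtain ⟨c, hc⟩ := Submodule.mem_span_singleton.1 (hspan.ge ⟨a, rfl⟩)
    have h3 := hskew a
    rw [← hc, map_smul, LinearMap.smul_apply, smul_eq_mul, mul_eq_zero] at h3
    rcases h3 with h3 | h3
    · exact h1 (LinearMap.mem_ker.2 (by rw [← hc, h3, zero_smul]))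
    · exact h2 (LinearMap.mem_ker.2 h3)
  have hrn : r * finrank F W ≤ finrank F U := by
    let bs := Module.finBasis F (LinearMap.range N)
    let ι : (Fin r → W) →ₗ[F] V := ∑ i, T (bs i : U) ∘ₗ LinearMap.proj i
    have hinj : Function.Injective ι := (injective_iff_map_eq_zero ι).2 fun c hc => funext fun i => D.gext fun z' => by
      have h1 := congrArg (D.C z') hc
      simp only [ι, LinearMap.sum_apply, LinearMap.comp_apply, LinearMap.proj_apply, map_sum, D.C_T, map_zero] at h1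
      have h2 : ∑ i, g z' (c i) • bs i = 0 := Subtype.ext (by simpa using h1)
      simpa using Fintype.linearIndependent_iff.1 bs.linearIndependent _ h2 i
    have hle : LinearMap.range ι ≤ LinearMap.range η := by
      rintro _ ⟨c, rfl⟩
      simp only [ι, LinearMap.sum_apply, LinearMap.comp_apply, LinearMap.proj_apply]
      refine Submodule.sum_mem _ fun i _ => ?_
      obtain ⟨a, ha⟩ := (bs i).2
      exact ⟨T a (c i), by rw [hηN, ha]⟩
    have h1 := Submodule.finrank_mono (hle.trans hrange)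
    rw [LinearMap.finrank_range_of_inj hinj, Module.finrank_pi_fintype, Finset.sum_const, Finset.card_univ,
      Fintype.card_fin, smul_eq_mul] at h1
    exact h1.trans (LinearMap.finrank_range_le L)
  have h4 : 4 ≤ finrank F W := O.thin.resolve_right fun hh => by
    rw [hh.1, hh.2] at hrn
    omega
  have h8 : 4 * r ≤ finrank F U := le_trans (by rw [mul_comm]; exact Nat.mul_le_mul_left r h4) hrn
  obtain ⟨e, heP, he⟩ := O.form.exists_aniso_mem (f.orthogonal (LinearMap.range N)) (by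
    rw [LinearMap.BilinForm.finrank_orthogonal D.hf]
    omega)
  obtain ⟨ρ, hρ, eρ⟩ := O.toOver.exists_mem (A := refl f e) (B := LinearMap.id) (O.form.refl_isometry he)
    (fun _ _ => rfl)
  set x' := h⁻¹ * ρ * h
  have hx' : x' ∈ K := K.mul_mem (K.mul_mem (K.inv_mem hh) hρ) hh
  have hρη : ∀ v, (ρ : V ≃ₗ[F] V) (η v) = η v := fun v => by
    have e1 : ((ρ : V ≃ₗ[F] V) : V →ₗ[F] V) ∘ₗ η = η := D.hom_ext fun a y => by
      rw [LinearMap.comp_apply, hηN]
      show (ρ : V ≃ₗ[F] V) (T (N a) y) = _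
      rw [eρ, O.form.refl_fix, LinearMap.id_apply]
      rw [O.form.symm (N a) e]
      exact heP (N a) ⟨a, rfl⟩
    exact LinearMap.congr_fun e1 v
  obtain ⟨z', hz', -⟩ := D.exists_sep (U' := ⊥) (x := z) (by simpa using hz)
  have hfix : ∀ a, (x' : V ≃ₗ[F] V) (T a z) = T a z := fun a => by
    show (h : V ≃ₗ[F] V).symm ((ρ : V ≃ₗ[F] V) ((h : V ≃ₗ[F] V) (T a z))) = _
    have e1 : (h : V ≃ₗ[F] V) (T a z) = η ((h : V ≃ₗ[F] V) (T a z')) := by simp [η, hm, D.C_T, hz']
    rw [e1, hρη, ← e1, LinearEquiv.symm_apply_apply]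
  obtain ⟨A', hA'⟩ := O.line_kr hN hx' hz (w' := z) (A₀ := LinearMap.id) hfix
  choose R' hR' using hA'
  obtain ⟨z'', hz''⟩ := D.exists_partner_one hz
  set τ := g z'' (R' z)
  have hA'1 : ∀ a, a = τ • A' a := fun a => by
    have h1 := congrArg (D.C z'') ((hfix a).symm.trans (hR' z a))
    rwa [D.C_T, D.C_T, hz'', one_smul] at h1
  have hτ : τ ≠ 0 := fun e0 => ha0 (by rw [hA'1 a₀, e0, zero_smul])
  have hB : ∀ a y, (x' : V ≃ₗ[F] V) (T a y) = T a (τ⁻¹ • R' y) := fun a y => by
    rw [hR', map_smul, ← LinearMap.smul_apply, ← map_smul]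
    conv_rhs => rw [hA'1 a, inv_smul_smul₀ hτ]
  obtain ⟨y₁, hy₁⟩ : ∃ y, τ⁻¹ • R' y - y ≠ 0 := by
    by_contra! hall
    have e1 : ((x' : V ≃ₗ[F] V) : V →ₗ[F] V) = LinearMap.id := D.hom_ext fun a y => by
      show (x' : V ≃ₗ[F] V) (T a y) = _
      rw [hB, sub_eq_zero.1 (hall y)]; rfl
    have h1 : (ρ : V ≃ₗ[F] V) (T e y₀) = T e y₀ := by
      have h2 := LinearMap.congr_fun e1 ((h : V ≃ₗ[F] V).symm (T e y₀))
      replace h2 := congrArg (h : V ≃ₗ[F] V) h2
      rw [show ((x' : V ≃ₗ[F] V) : V →ₗ[F] V) ((h : V ≃ₗ[F] V).symm (T e y₀)) = (h : V ≃ₗ[F] V).symm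
        ((ρ : V ≃ₗ[F] V) ((h : V ≃ₗ[F] V) ((h : V ≃ₗ[F] V).symm (T e y₀)))) from rfl] at h2
      simpa using h2
    rw [eρ, LinearMap.id_apply] at h1
    have h3 := D.T_injective hy₀ h1
    rw [refl_apply, sub_eq_self, smul_eq_zero, div_mul_cancel₀ _ he] at h3
    exact h3.elim D.two (fun e0 => he (by simp [e0]))
  have hle : LinearMap.range (T.flip (τ⁻¹ • R' y₁ - y₁)) ≤
      LinearMap.range ((h : V ≃ₗ[F] V).symm.toLinearMap ∘ₗ T e) := by
    have hr : ∀ v, (ρ : V ≃ₗ[F] V) v - v ∈ LinearMap.range (T e) := fun v => by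
      induction (D.span ▸ Submodule.mem_top : v ∈ Submodule.span F (Set.range fun p : U × W => T p.1 p.2))
        using Submodule.span_induction with
      | mem z hz =>
        obtain ⟨⟨a, y⟩, rfl⟩ := hz
        refine ⟨(-(2 / f e e * f e a)) • y, ?_⟩
        simp [eρ, refl_apply]
      | zero => simp
      | add a b _ _ ha hb => rw [map_add, add_sub_add_comm]; exact add_mem ha hb
      | smul c a _ ha => rw [map_smul, ← smul_sub]; exact Submodule.smul_mem _ c ha
    rintro _ ⟨a, rfl⟩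
    obtain ⟨c, hc⟩ := hr ((h : V ≃ₗ[F] V) (T a y₁))
    refine ⟨c, ?_⟩
    show (h : V ≃ₗ[F] V).symm (T e c) = _
    rw [hc, map_sub, LinearEquiv.symm_apply_apply,
      show (h : V ≃ₗ[F] V).symm ((ρ : V ≃ₗ[F] V) ((h : V ≃ₗ[F] V) (T a y₁))) = (x' : V ≃ₗ[F] V) (T a y₁) from rfl,
      hB, LinearMap.flip_apply, map_sub]
  have h5 := Submodule.finrank_mono hle
  rw [LinearMap.finrank_range_of_inj (f := T.flip (τ⁻¹ • R' y₁ - y₁)) fun a b e => D.T_injective hy₁ e] at h5
  have h6 := h5.trans (LinearMap.finrank_range_le _)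
  have h7 : 2 * finrank F W ≤ finrank F U := le_trans (Nat.mul_le_mul_right _ hr2) hrn
  omega

end Orth

end CfsgLib.Geo.MixTensor
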