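/-
Products of two unipotent matrices over polynomials having a prescribed shape modulo an irreducible polynomial.
-/
import Cfsg.Agent.Lib.Classical.Dickson.TwoTransvections

set_option autoImplicit false
set_option linter.unusedSectionVars false

namespace CfsgLib.Geo.MixTensor

open Matrix Polynomial

variable {F : Type*} [Field F]

/-- The lower generator. -/
noncomputable def genK (F : Type*) [Field F] : Matrix (Fin 2) (Fin 2) F[X] := !![1, 0; 1, 1]

/-- The upper generator. -/
noncomputable def genS (r : F) : Matrix (Fin 2) (Fin 2) F[X] := !![1, C r * X; 0, 1]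

/-- The monoid of words in the generators. -/
noncomputable def words (F : Type*) [Field F] : Submonoid (Matrix (Fin 2) (Fin 2) F[X]) :=
  Submonoid.closure ({genK F} ∪ Set.range (genS (F := F)))

variable [Finite F]

/-- **A word which is triangular modulo an irreducible polynomial with a non-constant diagonal.** -/
theorem exists_word (h2 : (2 : F) ≠ 0) {p : F[X]} (hp : Irreducible p) (hdeg : 2 ≤ p.natDegree) :
    ∃ M ∈ words F, p ∣ M 1 0 ∧ ∀ c : F, ¬ p ∣ M 0 0 - C c := by
  classical
  have := Fact.mk hp
  set E := AdjoinRoot p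
  have hp0 : p ≠ 0 := hp.ne_zero
  have : Module.Finite F E := (AdjoinRoot.powerBasis hp0).finite
  have : Finite E := Module.finite_of_finite F
  set θ : E := AdjoinRoot.root p
  set ev : F[X] →+* E := AdjoinRoot.mk p
  have hevX : ev X = θ := AdjoinRoot.mk_X
  have hevC : ∀ c : F, ev (C c) = algebraMap F E c := fun c => AdjoinRoot.mk_C c
  have hθ : ∀ c : F, θ ≠ algebraMap F E c := fun c hc => by
    have hd : p ∣ X - C c := AdjoinRoot.mk_eq_zero.1 (by
      show ev (X - C c) = 0
      rw [map_sub, hevX, hevC, hc, sub_self])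
    have := Polynomial.natDegree_le_of_dvd hd (X_sub_C_ne_zero c)
    rw [natDegree_X_sub_C] at this
    omega
  have h2E : (2 : E) ≠ 0 := fun h => h2 ((algebraMap F E).injective (by rw [map_ofNat, h, map_zero]))
  suffices ∃ M ∈ words F, ev (M 1 0) = 0 ∧ ∀ c : F, ev (M 0 0) ≠ algebraMap F E c by
    obtain ⟨M, hM, h10, h00⟩ := this
    exact ⟨M, hM, AdjoinRoot.mk_eq_zero.1 h10, fun c hc => h00 c (sub_eq_zero.1 (by
      rw [← hevC, ← map_sub]; exact AdjoinRoot.mk_eq_zero.2 hc))⟩
  have hθ0 : θ ≠ 0 := by simpa using hθ 0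
  have hgK : genK F ∈ words F := Submonoid.subset_closure (Or.inl rfl)
  have hgS : ∀ r, genS r ∈ words F := fun r => Submonoid.subset_closure (Or.inr ⟨r, rfl⟩)
  by_cases hc : ∃ r : F, r ≠ 0 ∧ (algebraMap F E r * θ) ^ 2 ≠ -1
  · obtain ⟨r, hr, hr1⟩ := hc
    set lam := algebraMap F E r * θ
    have hlamF : ∀ c : F, lam ≠ algebraMap F E c := fun c h => hθ (c / r) (by
      have hr' : algebraMap F E r ≠ 0 := by simpa using hr
      rw [map_div₀, ← h]
      rw [eq_div_iff hr']
      exact mul_comm _ _)
    have hlam : lam ≠ 0 := by simpa using hlamF 0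
    set S := Subfield.closure ({lam} : Set E)
    let lam' : S := ⟨lam, Subfield.subset_closure rfl⟩
    have hgen : Subfield.closure ({lam'} : Set S) = ⊤ := by
      rw [eq_top_iff]
      intro x _
      have hle : S ≤ (Subfield.closure ({lam'} : Set S)).map S.subtype := by
        refine Subfield.closure_le.2 ?_
        rintro y rfl
        exact ⟨lam', Subfield.subset_closure rfl, rfl⟩
      obtain ⟨y, hy, hyx⟩ := hle x.2
      rwa [← Subtype.ext (show (y : E) = x from hyx)]
    have : Fintype S := Fintype.ofFinite S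
    have hS2 : (2 : S) ≠ 0 := fun h => h2E (by simpa [map_ofNat] using congrArg S.subtype h)
    have hlam' : lam' ≠ 0 := fun h => hlam (congrArg S.subtype h)
    rcases CfsgLib.Classical.Dickson.two_transvections hS2 lam' hlam' hgen with ⟨htop, -⟩ | ⟨-, hbad, -⟩
    swap
    · exact absurd (by simpa using congrArg S.subtype hbad) hr1
    let d : SpecialLinearGroup (Fin 2) S := ⟨!![lam', 0; 0, lam'⁻¹], by simp [Matrix.det_fin_two_of, hlam']⟩
    have hd : d ∈ Submonoid.closure {g : SpecialLinearGroup (Fin 2) S |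
        (g : Matrix (Fin 2) (Fin 2) S) = !![1, 0; 1, 1] ∨ (g : Matrix (Fin 2) (Fin 2) S) = !![1, lam'; 0, 1]} := by
      rw [← Subgroup.closure_toSubmonoid_of_finite, htop]
      trivial
    have key : ∀ g ∈ Submonoid.closure {g : SpecialLinearGroup (Fin 2) S |
        (g : Matrix (Fin 2) (Fin 2) S) = !![1, 0; 1, 1] ∨ (g : Matrix (Fin 2) (Fin 2) S) = !![1, lam'; 0, 1]},
        ∃ M ∈ words F, ev.mapMatrix M = S.subtype.mapMatrix (g : Matrix (Fin 2) (Fin 2) S) := by
      intro g hg
      induction hg using Submonoid.closure_induction with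
      | mem g hg =>
        rcases hg with hg | hg
        · refine ⟨_, hgK, ?_⟩
          rw [hg]
          ext i j
          fin_cases i <;> fin_cases j <;> simp [genK]
        · refine ⟨_, hgS r, ?_⟩
          rw [hg]
          ext i j
          fin_cases i <;> fin_cases j <;> simp [genS, hevX, hevC, lam', lam]
      | one => exact ⟨1, one_mem _, by simp⟩
      | mul a b _ _ ha hb =>
        obtain ⟨M, hM, eM⟩ := ha
        obtain ⟨N, hN, eN⟩ := hb
        exact ⟨M * N, mul_mem hM hN, by rw [map_mul, eM, eN]; exact (map_mul _ _ _).symm⟩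
    obtain ⟨M, hM, eM⟩ := key d hd
    refine ⟨M, hM, ?_, fun c => ?_⟩
    · simpa [d] using congrFun (congrFun eM 1) 0
    · have h00 : ev (M 0 0) = lam := by simpa [d, lam'] using congrFun (congrFun eM 0) 0
      rw [h00]
      exact hlamF c
  · push Not at hc
    have h1 : θ ^ 2 = -1 := by simpa using hc 1 one_ne_zero
    have h3 : (3 : E) = 0 := by
      have h := hc 2 h2
      rw [mul_pow, h1, map_ofNat] at h
      linear_combination -h
    refine ⟨genK F * genS 1 * (genK F * genK F) * (genS 1 * genS 1) * genK F,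
      mul_mem (mul_mem (mul_mem (mul_mem hgK (hgS 1)) (mul_mem hgK hgK)) (mul_mem (hgS 1) (hgS 1))) hgK, ?_,
      fun c h => ?_⟩
    · simp [genK, genS, Matrix.mul_apply, Fin.sum_univ_two, hevX, hevC]
      linear_combination 4 * h1 + 3 * θ * h3
    · refine hθ (-c) ?_
      rw [map_neg, ← h]
      simp [genK, genS, Matrix.mul_apply, Fin.sum_univ_two, hevX, hevC]
      linear_combination 4 * h1 + (2 * θ - 1) * h3

end CfsgLib.Geo.MixTensor
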