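/-
The self-pairing of a translated line of maximal degeneracy is a scalar on its image.
-/
import Cfsg.Agent.Lib.Geo.MixTensor.Conj
import Cfsg.Agent.Lib.Geo.MixTensor.Words

set_option autoImplicit false
set_option linter.unusedSectionVars false

namespace CfsgLib.Geo.MixTensor

open CfsgLib.Classical CfsgLib.Classical.Symp Module
open LinearMap (BilinForm)
open Polynomial

variable {F : Type*} [Field F] {U : Type*} [AddCommGroup U] [Module F U]

theorem aeval_ker (Θ : U →ₗ[F] U) {a : U} (h : Θ a = 0) (q : F[X]) :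
    (aeval Θ q : U →ₗ[F] U) a = q.eval 0 • a := by
  induction q using Polynomial.induction_on' with
  | add p q hp hq => rw [map_add, LinearMap.add_apply, hp, hq, eval_add, add_smul]
  | monomial n c =>
    rw [aeval_monomial, eval_monomial, ← Algebra.smul_def, LinearMap.smul_apply]
    cases n with
    | zero => simp
    | succ n => simp [pow_succ, Module.End.mul_apply, h]

theorem dvd_of_common_root (Θ : U →ₗ[F] U) {p q : F[X]} (hp : Irreducible p) {a : U} (ha : a ≠ 0)
    (hpa : (aeval Θ p : U →ₗ[F] U) a = 0) (hqa : (aeval Θ q : U →ₗ[F] U) a = 0) : p ∣ q := by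
  by_contra h
  obtain ⟨x, y, hxy⟩ := (hp.coprime_iff_not_dvd.2 h)
  refine ha ?_
  have h1 := LinearMap.congr_fun (congrArg (aeval Θ) hxy) a
  simp only [map_add, map_mul, map_one, LinearMap.add_apply, Module.End.mul_apply, hpa, hqa, map_zero, add_zero,
    Module.End.one_apply] at h1
  exact h1.symm

variable [Finite F] [FiniteDimensional F U] {W V : Type*}
  [AddCommGroup W] [Module F W] [FiniteDimensional F W] [AddCommGroup V] [Module F V] [FiniteDimensional F V]
  {H : BilinForm F V} {f : BilinForm F U} {g : BilinForm F W} {T : U →ₗ[F] W →ₗ[F] V}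

/-- The pairing of two lines through an element. -/
noncomputable def Data.pair (D : Data H f g T) (x : Sp H) (v w : W) : U →ₗ[F] U :=
  D.C w ∘ₗ ((x : V ≃ₗ[F] V) : V →ₗ[F] V) ∘ₗ T.flip v

theorem Data.pair_apply (D : Data H f g T) (x : Sp H) (v w : W) (a : U) :
    D.pair x v w a = D.C w ((x : V ≃ₗ[F] V) (T a v)) := rfl

namespace Orth

variable {D : Data H f g T} {K : Subgroup (Sp H)} (O : Orth D K)
include O

/-- A half-dimensional subspace meeting its image trivially. -/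
theorem exists_half {A : U →ₗ[F] U} {c : F} (hA : ∀ a, A (A a) = c • a) (hc : ∀ s : F, c ≠ s * s) :
    ∃ U₀ : Submodule F U, Disjoint U₀ (U₀.map A) ∧ finrank F U ≤ 2 * finrank F U₀ := by
  let S : Set ℕ := {r | ∃ U₀ : Submodule F U, Disjoint U₀ (U₀.map A) ∧ finrank F U₀ = r}
  have hbd : BddAbove S := ⟨finrank F U, by rintro r ⟨U₀, -, rfl⟩; exact Submodule.finrank_le _⟩
  obtain ⟨U₀, hdis, hr⟩ := Nat.sSup_mem (s := S) ⟨0, ⊥, disjoint_bot_left, finrank_bot F U⟩ hbd
  refine ⟨U₀, hdis, ?_⟩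
  by_contra hlt
  set S' := U₀ ⊔ U₀.map A
  obtain ⟨u, hu⟩ : ∃ u, u ∉ S' := by
    by_contra! hall
    have h1 := Submodule.finrank_mono (s := ⊤) (t := S') fun x _ => hall x
    have h2 := Submodule.finrank_add_le_finrank_add_finrank U₀ (U₀.map A)
    have h3 := Submodule.finrank_map_le A U₀
    rw [finrank_top] at h1
    have : finrank F S' ≤ finrank F U₀ + finrank F (U₀.map A) := h2
    omega
  have hinv : ∀ x ∈ S', A x ∈ S' := by
    intro x hx
    obtain ⟨p, hp, q, hq, rfl⟩ := Submodule.mem_sup.1 hx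
    obtain ⟨b, hb, rfl⟩ := hq
    rw [map_add, hA]
    exact add_mem (Submodule.mem_sup_right ⟨p, hp, rfl⟩) (Submodule.mem_sup_left (U₀.smul_mem c hb))
  have hkey : ∀ s t : F, s • A u + t • u ∈ S' → s = 0 ∧ t = 0 := by
    intro s t h
    by_cases hs : s = 0
    · subst hs
      rw [zero_smul, zero_add] at h
      by_contra ht
      exact hu ((S'.smul_mem_iff (fun e => ht ⟨rfl, e⟩)).1 h)
    exfalso
    have h1 := hinv _ h
    rw [map_add, map_smul, map_smul, hA] at h1
    have h2 := S'.sub_mem (S'.smul_mem s h1) (S'.smul_mem t h)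
    have e : s • (s • c • u + t • A u) - t • (s • A u + t • u) = (s * s * c - t * t) • u := by module
    rw [e] at h2
    refine hu ((S'.smul_mem_iff ?_).1 h2)
    intro h0
    exact hc (t / s) (by field_simp; linear_combination h0)
  have h1 : finrank F U₀ + 1 ≤ finrank F (U₀ ⊔ Submodule.span F {u} : Submodule F U) := by
    refine Submodule.finrank_lt_finrank_of_lt (lt_of_le_of_ne le_sup_left fun e => hu ?_)
    exact Submodule.mem_sup_left (e.ge (Submodule.mem_sup_right (Submodule.mem_span_singleton_self u)))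
  have h2 : Disjoint (U₀ ⊔ Submodule.span F {u}) ((U₀ ⊔ Submodule.span F {u}).map A) := by
    rw [Submodule.disjoint_def]
    intro y hy hy'
    obtain ⟨a, ha, b, hb, rfl⟩ := Submodule.mem_sup.1 hy
    obtain ⟨t, rfl⟩ := Submodule.mem_span_singleton.1 hb
    obtain ⟨z, hz, e⟩ := hy'
    obtain ⟨a', ha', b', hb', rfl⟩ := Submodule.mem_sup.1 hz
    obtain ⟨s, rfl⟩ := Submodule.mem_span_singleton.1 hb'
    rw [map_add, map_smul] at e
    obtain ⟨hs, ht⟩ := hkey s (-t) (by
      have e' : s • A u + -t • u = a - A a' := by linear_combination (norm := module) e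
      rw [e']
      exact sub_mem (Submodule.mem_sup_left ha) (Submodule.mem_sup_right ⟨a', ha', rfl⟩))
    rw [neg_eq_zero] at ht
    rw [hs, ht, zero_smul, zero_smul, add_zero, add_zero] at e
    rw [ht, zero_smul, add_zero]
    exact Submodule.disjoint_def.1 hdis a ha ⟨a', ha', e⟩
  have h3 := le_csSup hbd (show finrank F (U₀ ⊔ Submodule.span F {u} : Submodule F U) ∈ S from ⟨_, h2, rfl⟩)
  omega

/-- **At maximal degeneracy the self-pairing is a multiple of a projection.** -/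
theorem pairing_scalar (hN : NC D K) {h : Sp H} {v w : W} (hh : h ∈ K) (hnk : ¬ Kr T h) (hv : v ≠ 0)
    (hw : w ≠ 0) (hlt : finrank F (LinearMap.ker (D.pair h v w)) < finrank F U)
    (hmax : ∀ x v' w', x ∈ K → ¬ Kr T x → v' ≠ 0 → w' ≠ 0 →
      finrank F (LinearMap.ker (D.pair x v' w')) ≤ finrank F (LinearMap.ker (D.pair h v w))) :
    ∃ (k : Sp H) (L : U →ₗ[F] V) (μ : F), k ∈ K ∧ ¬ Kr T k ∧ μ ≠ 0 ∧
      (∀ a, (k : V ≃ₗ[F] V) (T a v) = T a v + L a) ∧
      (∀ a, D.pair h v w a = 0 → L a = 0) ∧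
      (∀ a b, f b (D.C v (L a)) = -f (D.pair h v w b) (D.pair h v w a)) ∧
      (∀ a, D.C v (L a) = 0 ↔ D.pair h v w a = 0) ∧
      (∀ a, D.C v (L (D.C v (L a))) = μ • D.C v (L a)) ∧
      (∀ a, (h : V ≃ₗ[F] V) (L a) = T (D.pair h v w a) w) := by
  have := O.nontriv
  have := O.nontrivW
  set M := D.pair h v w
  obtain ⟨u, hu, eu⟩ := O.trz_mem w 1
  have eu' : ∀ x, (u : V ≃ₗ[F] V) x = D.E w LinearMap.id x := fun x => by rw [eu, one_smul]
  set k := h⁻¹ * u * h
  have hk : k ∈ K := K.mul_mem (K.mul_mem (K.inv_mem hh) hu) hh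
  have hkapp : ∀ x, (k : V ≃ₗ[F] V) x =
      x + (h : V ≃ₗ[F] V).symm (T (D.C w ((h : V ≃ₗ[F] V) x)) w) := fun x => by
    show (h : V ≃ₗ[F] V).symm ((u : V ≃ₗ[F] V) ((h : V ≃ₗ[F] V) x)) = _
    rw [eu', D.E_apply, map_add, LinearEquiv.symm_apply_apply, LinearMap.id_apply]
  have hnk1 : ¬ Kr T k := fun e => hnk (by
    simpa using D.kr_inv (O.kr_of_trz hN (K.inv_mem hh) hw eu' (by rwa [inv_inv])))
  set L : U →ₗ[F] V := (h : V ≃ₗ[F] V).symm.toLinearMap ∘ₗ T.flip w ∘ₗ M
  have hk1 : ∀ a, (k : V ≃ₗ[F] V) (T a v) = T a v + L a := fun a => hkapp _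
  have hk2 : ∀ a, (k : V ≃ₗ[F] V) (L a) = L a := fun a => by
    rw [hkapp]; simp [L, D.C_T, O.gA w]
  set Θ : U →ₗ[F] U := D.C v ∘ₗ L
  have hΘ : ∀ a b, f b (Θ a) = -f (M b) (M a) := fun a b => by
    show f b (D.C v ((h : V ≃ₗ[F] V).symm (T (M a) w))) = _
    rw [D.f_C, ← sp_map h, LinearEquiv.apply_symm_apply, D.Hswap, ← D.f_C]
    show -f (M a) (M b) = _
    rw [O.form.symm (M b) (M a)]
  have hsa : ∀ a b, f (Θ a) b = f a (Θ b) := fun a b => by
    rw [O.form.symm b (Θ a), hΘ, hΘ, O.form.symm (M a) (M b)]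
  have hL0 : ∀ a, M a = 0 → L a = 0 := fun a ha => by simp [L, ha]
  have hpk : ∀ a, D.pair k v v a = Θ a := fun a => by
    rw [D.pair_apply, hk1, map_add, D.C_T, O.gA v, zero_smul, zero_add]; rfl
  have hle : LinearMap.ker M ≤ LinearMap.ker Θ := fun a ha => by
    rw [LinearMap.mem_ker] at ha ⊢
    show D.C v (L a) = 0
    rw [hL0 a ha, map_zero]
  have hkerΘ : LinearMap.ker M = LinearMap.ker Θ := Submodule.eq_of_le_of_finrank_le hle (by
    have h1 := hmax k v v hk hnk1 hv hv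
    rwa [show D.pair k v v = Θ from LinearMap.ext hpk] at h1)
  have hker : ∀ a, Θ a = 0 ↔ M a = 0 := fun a => by
    rw [← LinearMap.mem_ker, ← hkerΘ, LinearMap.mem_ker]
  -- a second translation
  obtain ⟨s, hs, es⟩ := O.trz_mem v 1
  have es' : ∀ x, (s : V ≃ₗ[F] V) x = D.E v LinearMap.id x := fun x => by rw [es, one_smul]
  set k' := k⁻¹ * s * k
  have hnk' : ¬ Kr T k' := fun e => hnk1 (by
    simpa using D.kr_inv (O.kr_of_trz hN (K.inv_mem hk) hv es' (by rwa [inv_inv])))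
  have hk'p : ∀ a, D.pair k' v v a = -Θ (Θ a) := fun a => by
    have hinv : ∀ b, (k : V ≃ₗ[F] V).symm (T b v) = T b v - L b := fun b => by
      rw [LinearEquiv.symm_apply_eq, map_sub, hk1, hk2, add_sub_cancel_right]
    have hinv2 : ∀ b, (k : V ≃ₗ[F] V).symm (L b) = L b := fun b => by rw [LinearEquiv.symm_apply_eq, hk2]
    rw [D.pair_apply]
    show D.C v ((k : V ≃ₗ[F] V).symm ((s : V ≃ₗ[F] V) ((k : V ≃ₗ[F] V) (T a v)))) = _
    rw [hk1, es', D.E_apply, map_add (D.C v) (T a v) (L a), D.C_T, O.gA v, zero_smul, zero_add,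
      LinearMap.id_apply]
    simp only [map_add, hinv, hinv2, map_sub, D.C_T, O.gA v, zero_smul]
    simp [Θ]
  have hker2 : ∀ a, Θ (Θ a) = 0 → Θ a = 0 := fun a ha => by
    have h1 := hmax k' v v (K.mul_mem (K.mul_mem (K.inv_mem hk) hs) hk) hnk' hv hv
    rw [hkerΘ, show D.pair k' v v = -(Θ ∘ₗ Θ) from LinearMap.ext hk'p, LinearMap.ker_neg] at h1
    have h2 : LinearMap.ker Θ = LinearMap.ker (Θ ∘ₗ Θ) :=
      Submodule.eq_of_le_of_finrank_le (LinearMap.ker_le_ker_comp Θ Θ) h1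
    exact h2.ge (show a ∈ LinearMap.ker (Θ ∘ₗ Θ) from ha)
  refine ⟨k, L, ?_⟩
  suffices ∃ μ : F, μ ≠ 0 ∧ ∀ a, Θ (Θ a) = μ • Θ a by
    obtain ⟨μ, hμ, hμΘ⟩ := this
    exact ⟨μ, hk, hnk1, hμ, hk1, hL0, hΘ, hker, hμΘ, fun a => (h : V ≃ₗ[F] V).apply_symm_apply _⟩
  -- words
  have hrel : ∀ P ∈ words F, ∃ x ∈ K,
      (∀ a, (x : V ≃ₗ[F] V) (T a v) =
        T ((aeval Θ (P 0 0) : U →ₗ[F] U) a) v + L ((aeval Θ (P 1 0) : U →ₗ[F] U) a)) ∧
      (∀ a, (x : V ≃ₗ[F] V) (L a) =
        T ((aeval Θ (P 0 1) : U →ₗ[F] U) a) v + L ((aeval Θ (P 1 1) : U →ₗ[F] U) a)) ∧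
      (P 0 0).eval 0 = 1 ∧ (P 0 1).eval 0 = 0 ∧
      ∀ y, D.C v y = 0 → D.C w ((h : V ≃ₗ[F] V) y) = 0 → (x : V ≃ₗ[F] V) y = y := by
    intro P hP
    induction hP using Submonoid.closure_induction with
    | mem P hP =>
      rcases hP with hP | ⟨r, rfl⟩
      · rw [Set.mem_singleton_iff] at hP
        subst hP
        refine ⟨k, hk, fun a => ?_, fun a => ?_, by simp [genK], by simp [genK], fun y _ hy => ?_⟩
        · simp [genK, hk1]
        · simp [genK, hk2]
        · rw [hkapp, hy]; simp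
      · obtain ⟨sr, hsr, esr⟩ := O.trz_mem v r
        refine ⟨sr, hsr, fun a => ?_, fun a => ?_, by simp [genS], by simp [genS], fun y hy _ => ?_⟩
        · rw [esr, D.E_pure, O.gA v]; simp [genS]
        · rw [esr, D.E_apply]
          simp [genS, Θ, Module.End.mul_apply, add_comm]
        · rw [esr, D.E_apply, hy]; simp
    | one => exact ⟨1, K.one_mem, fun a => by simp, fun a => by simp, by simp, by simp, fun _ _ _ => rfl⟩
    | mul P Q _ _ hP hQ =>
      obtain ⟨x, hx, x1, x2, x3, x4, x5⟩ := hP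
      obtain ⟨y, hy, y1, y2, y3, y4, y5⟩ := hQ
      refine ⟨x * y, K.mul_mem hx hy, fun a => ?_, fun a => ?_, ?_, ?_, fun z hz hz' => ?_⟩
      · show (x : V ≃ₗ[F] V) ((y : V ≃ₗ[F] V) (T a v)) = _
        rw [y1, map_add, x1, x2]
        simp [Matrix.mul_apply, Fin.sum_univ_two, Module.End.mul_apply]
        abel
      · show (x : V ≃ₗ[F] V) ((y : V ≃ₗ[F] V) (L a)) = _
        rw [y2, map_add, x1, x2]
        simp [Matrix.mul_apply, Fin.sum_univ_two, Module.End.mul_apply]
        abel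
      · simp [Matrix.mul_apply, Fin.sum_univ_two, x3, x4, y3]
      · simp [Matrix.mul_apply, Fin.sum_univ_two, x3, x4, y4]
      · show (x : V ≃ₗ[F] V) ((y : V ≃ₗ[F] V) z) = z
        rw [y5 z hz hz', x5 z hz hz']
  -- a word with a degenerate pairing is a product
  have hstep : ∀ (x : Sp H) (P : Matrix (Fin 2) (Fin 2) F[X]) (a₀ : U), x ∈ K →
      (∀ a, (x : V ≃ₗ[F] V) (T a v) =
        T ((aeval Θ (P 0 0) : U →ₗ[F] U) a) v + L ((aeval Θ (P 1 0) : U →ₗ[F] U) a)) →
      Θ a₀ ≠ 0 → (aeval Θ (P 1 0) : U →ₗ[F] U) a₀ = 0 →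
      Kr T x ∧ (∀ a, Θ ((aeval Θ (P 1 0) : U →ₗ[F] U) a) = 0) ∧
        ∀ a, (x : V ≃ₗ[F] V) (T a v) = T ((aeval Θ (P 0 0) : U →ₗ[F] U) a) v := by
    intro x P a₀ hx x1 ha₀ hp
    have hpair : ∀ a, D.pair x v v a = Θ ((aeval Θ (P 1 0) : U →ₗ[F] U) a) := fun a => by
      rw [D.pair_apply, x1, map_add, D.C_T, O.gA v, zero_smul, zero_add]; rfl
    have hcomm : ∀ a, Θ ((aeval Θ (P 1 0) : U →ₗ[F] U) a) = (aeval Θ (P 1 0) : U →ₗ[F] U) (Θ a) := fun a => by
      have e := LinearMap.congr_fun (congrArg (aeval Θ) (mul_comm X (P 1 0))) a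
      simpa [Module.End.mul_apply] using e
    have hkr : Kr T x := by
      by_contra hnx
      have h1 : LinearMap.ker M < LinearMap.ker (D.pair x v v) := by
        refine lt_of_le_of_ne (fun a ha => ?_) fun e => ha₀ ?_
        · rw [LinearMap.mem_ker] at ha ⊢
          rw [hpair, hcomm, (hker a).2 ha, map_zero]
        · rw [hker, ← LinearMap.mem_ker, e, LinearMap.mem_ker, hpair, hp, map_zero]
      have h2 := Submodule.finrank_lt_finrank_of_lt h1
      have h3 := hmax x v v hx hnx hv hv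
      omega
    obtain ⟨A, hA⟩ := hkr
    obtain ⟨r, hr⟩ := hA v
    have hp' : ∀ a, g v r • A a = Θ ((aeval Θ (P 1 0) : U →ₗ[F] U) a) := fun a => by
      rw [← hpair, D.pair_apply, hr, D.C_T]
    have hgr : g v r = 0 := by
      by_contra hne
      have h1 := hp' a₀
      rw [hp, map_zero, smul_eq_zero] at h1
      have h2 := hr a₀
      rw [h1.resolve_left hne, map_zero, LinearMap.zero_apply] at h2
      exact ha₀ (by rw [D.T_eq_zero hv (LinearEquiv.map_eq_zero_iff _ |>.1 h2), map_zero])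
    have h0 : ∀ a, Θ ((aeval Θ (P 1 0) : U →ₗ[F] U) a) = 0 := fun a => by rw [← hp', hgr, zero_smul]
    exact ⟨⟨A, hA⟩, h0, fun a => by rw [x1, hL0 _ ((hker _).1 (h0 a)), add_zero]⟩
  by_cases heig : ∃ (μ : F) (a : U), μ ≠ 0 ∧ a ≠ 0 ∧ Θ a = μ • a
  · obtain ⟨μ, a₀, hμ, ha₀, hΘa⟩ := heig
    refine ⟨μ, hμ, fun a => ?_⟩
    set r := -2 / μ
    obtain ⟨x, hx, x1, -⟩ := hrel (genK F * genS r * genK F)
      (mul_mem (mul_mem (Submonoid.subset_closure (Or.inl rfl)) (Submonoid.subset_closure (Or.inr ⟨r, rfl⟩)))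
        (Submonoid.subset_closure (Or.inl rfl)))
    have e10 : (genK F * genS r * genK F) 1 0 = 2 + C r * X := by
      simp [genK, genS, Matrix.mul_apply, Fin.sum_univ_two]
      ring
    have hev : ∀ a, (aeval Θ ((genK F * genS r * genK F) 1 0) : U →ₗ[F] U) a = (2 : F) • a + r • Θ a := fun a => by
      rw [e10, ← C_ofNat]
      simp [Module.End.mul_apply]
    obtain ⟨-, h0, -⟩ := hstep x _ a₀ hx x1 (by rw [hΘa]; exact smul_ne_zero hμ ha₀) (by
      rw [hev, hΘa, smul_smul, ← add_smul, show (2 : F) + r * μ = 0 by simp [r, div_mul_cancel₀ _ hμ], zero_smul])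
    have h1 := h0 a
    rw [hev, map_add, map_smul, map_smul] at h1
    have h2 : (r * μ) • Θ (Θ a) = -((2 * μ) • Θ a) := by linear_combination (norm := module) μ • h1
    rw [show r * μ = -2 from div_mul_cancel₀ _ hμ, neg_smul, neg_inj, mul_smul] at h2
    exact smul_right_injective U D.two h2
  exfalso
  push Not at heig
  -- an irreducible polynomial of degree at least two
  obtain ⟨p, a₀, hp, hdeg, ha₀, hpa⟩ : ∃ (p : F[X]) (a₀ : U),
      Irreducible p ∧ 2 ≤ p.natDegree ∧ Θ a₀ ≠ 0 ∧ (aeval Θ p : U →ₗ[F] U) a₀ = 0 := by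
    classical
    have hex : ∃ n, ∃ q : F[X], q ≠ 0 ∧ (∀ a, (aeval Θ q : U →ₗ[F] U) (Θ a) = 0) ∧ q.natDegree = n :=
      ⟨_, minpoly F (Θ : Module.End F U), minpoly.ne_zero (Algebra.IsIntegral.isIntegral _),
        fun a => by simp [minpoly.aeval], rfl⟩
    obtain ⟨m, hm0, hmΘ, hmn⟩ := Nat.find_spec hex
    have hmu : ¬ IsUnit m := fun hu => by
      obtain ⟨c, hc, rfl⟩ := Polynomial.isUnit_iff.1 hu
      have h1 : LinearMap.ker M = ⊤ := LinearMap.ker_eq_top.2 (LinearMap.ext fun a => (hker a).1 (by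
        simpa [hc.ne_zero] using hmΘ a))
      rw [h1, finrank_top] at hlt
      exact lt_irrefl _ hlt
    obtain ⟨p, hp, q, rfl⟩ := WfDvdMonoid.exists_irreducible_factor hmu hm0
    have hq0 : q ≠ 0 := right_ne_zero_of_mul hm0
    obtain ⟨b, hb⟩ : ∃ b, (aeval Θ q : U →ₗ[F] U) (Θ b) ≠ 0 := by
      by_contra! hall
      have h1 := Nat.find_min' hex ⟨q, hq0, hall, rfl⟩
      have h2 := hp.natDegree_pos
      rw [← hmn, Polynomial.natDegree_mul hp.ne_zero hq0] at h1
      omega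
    set a := (aeval Θ q : U →ₗ[F] U) (Θ b)
    have hpa : (aeval Θ p : U →ₗ[F] U) a = 0 := by simpa [a, Module.End.mul_apply] using hmΘ b
    have ha : Θ a ≠ 0 := fun h0 => hb (by
      have e := LinearMap.congr_fun (congrArg (aeval Θ) (mul_comm X q)) b
      have e' : Θ ((aeval Θ q : U →ₗ[F] U) b) = a := by simpa [a, Module.End.mul_apply] using e
      rw [← e'] at h0 ⊢
      exact hker2 _ h0)
    refine ⟨p, a, hp, ?_, ha, hpa⟩
    by_contra hlt2
    have hd1 : p.natDegree = 1 := by have := hp.natDegree_pos; omega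
    obtain ⟨c1, hc1, c0, rfl⟩ := Polynomial.natDegree_eq_one.1 hd1
    simp [Module.End.mul_apply] at hpa
    have he : Θ a = (-(c1⁻¹ * c0)) • a := by
      rw [neg_smul, mul_smul, eq_neg_of_add_eq_zero_right hpa, smul_neg, inv_smul_smul₀ hc1, neg_neg]
    by_cases hc0 : c0 = 0
    · exact ha (by rw [he, hc0, mul_zero, neg_zero, zero_smul])
    · exact heig _ a (neg_ne_zero.2 (mul_ne_zero (inv_ne_zero hc1) hc0)) hb he
  have ha00 : a₀ ≠ 0 := fun e => ha₀ (by rw [e, map_zero])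
  obtain ⟨P, hP, hP10, hP00⟩ := exists_word D.two hp hdeg
  obtain ⟨x, hx, x1, -, x3, -, x5⟩ := hrel P hP
  obtain ⟨hkr, -, hxT⟩ := hstep x P a₀ hx x1 ha₀ (by
    obtain ⟨q, hq⟩ := hP10
    rw [hq, mul_comm, map_mul, Module.End.mul_apply, hpa, map_zero])
  set A' : U →ₗ[F] U := aeval Θ (P 0 0)
  have hA'sa : ∀ a b, f (A' a) b = f a (A' b) := by
    have key : ∀ q : F[X], ∀ a b, f ((aeval Θ q : U →ₗ[F] U) a) b = f a ((aeval Θ q : U →ₗ[F] U) b) := by
      intro q
      induction q using Polynomial.induction_on' with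
      | add p q hp hq => intro a b; simp [hp, hq]
      | monomial n c =>
        intro a b
        simp only [aeval_monomial, ← Algebra.smul_def, LinearMap.smul_apply, map_smul, smul_eq_mul]
        congr 1
        induction n generalizing a b with
        | zero => simp
        | succ n ih =>
          conv_lhs => rw [pow_succ, Module.End.mul_apply, ih, hsa, ← Module.End.mul_apply, ← pow_succ']
    exact key _
  obtain ⟨A, hA⟩ := hkr
  choose R hR using hA
  obtain ⟨z, hz⟩ := D.exists_partner_one hv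
  set β := g z (R v)
  have hA'β : ∀ a, A' a = β • A a := fun a => by
    have h1 := congrArg (D.C z) ((hxT a).symm.trans (hR v a))
    rwa [D.C_T, D.C_T, hz, one_smul] at h1
  set γ := g v (R (-z))
  have hfγ : ∀ a b, f a b = f (A' a) (A b) * γ := fun a b => by
    have h1 := sp_map x (T a v) (T b (-z))
    have hvz : g v (-z) = 1 := by rw [map_neg, O.gswap z v, hz, neg_neg]
    rw [hR (-z) b, hxT a, D.formT, D.formT, hvz, mul_one] at h1
    exact h1.symm
  have hγ : γ ≠ 0 := fun e0 => by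
    obtain ⟨a, ha⟩ := exists_ne (0 : U)
    exact ha (D.hf.1 a fun b => by rw [hfγ, e0, mul_zero])
  set c := β * γ⁻¹
  have hA'2 : ∀ a, A' (A' a) = c • a := fun a => D.fext fun b => by
    rw [← hA'sa, map_smul, smul_eq_mul, hA'β a, map_smul, smul_eq_mul]
    rw [hfγ b a]
    simp only [c]
    field_simp
  have hsq : ∀ s : F, c ≠ s * s := fun s e => by
    have hd : p ∣ (P 0 0 - C s) * (P 0 0 - C (-s)) := by
      refine dvd_of_common_root Θ hp ha00 hpa ?_
      rw [map_mul, map_sub, map_sub, aeval_C, aeval_C, Module.End.mul_apply]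
      simp only [LinearMap.sub_apply, Module.algebraMap_end_apply, map_sub, map_smul]
      change A' (A' a₀) - s • A' a₀ - -s • (A' a₀ - s • a₀) = 0
      rw [hA'2, e]
      module
    rcases hp.prime.dvd_mul.1 hd with h1 | h1
    · exact hP00 s h1
    · exact hP00 (-s) h1
  have hc0 : c ≠ 0 := fun e => hsq 0 (by rw [e, mul_zero])
  have hP0 : LinearMap.ker M = ⊥ := (Submodule.eq_bot_iff _).2 fun a ha => by
    by_contra ha0
    have hΘa : Θ a = 0 := (hker a).2 ha
    have h1 : A' a = a := by rw [aeval_ker Θ hΘa, x3, one_smul]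
    have h2 := hA'2 a
    rw [h1, h1] at h2
    exact hsq 1 (by rw [one_mul]; exact (smul_left_injective F ha0 ((one_smul F a).trans h2)).symm)
  have hβ : β ≠ 0 := fun e => hc0 (by simp [c, e])
  obtain ⟨U₀, hdis, hdim⟩ := O.exists_half hA'2 hsq
  let bs := Module.finBasis F U₀
  let ι : (Fin (finrank F U₀) → LinearMap.ker (g v)) →ₗ[F] V :=
    ∑ i, T (bs i : U) ∘ₗ (LinearMap.ker (g v)).subtype ∘ₗ LinearMap.proj i
  have hι : ∀ c', ι c' = ∑ i, T (bs i : U) (c' i : W) := fun c' => by simp [ι, LinearMap.sum_apply]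
  have hinj : Function.Injective (D.C w ∘ₗ ((h : V ≃ₗ[F] V) : V →ₗ[F] V) ∘ₗ ι) := by
    refine (injective_iff_map_eq_zero _).2 fun c' hc' => funext fun i => Subtype.ext (D.gext fun z' => ?_)
    have hfix : (x : V ≃ₗ[F] V) (ι c') = ι c' := by
      refine x5 _ ?_ hc'
      rw [hι, map_sum]
      refine Finset.sum_eq_zero fun j _ => ?_
      rw [D.C_T, show g v (c' j : W) = 0 from LinearMap.mem_ker.1 (c' j).2, zero_smul]
    have hxT' : ∀ j, (x : V ≃ₗ[F] V) (T (bs j : U) (c' j : W)) = T (A' (bs j : U)) (β⁻¹ • R (c' j : W)) :=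
      fun j => by
        rw [hR, hA'β, map_smul, map_smul, LinearMap.smul_apply, inv_smul_smul₀ hβ]
    rw [hι, map_sum, Finset.sum_congr rfl fun j _ => hxT' j] at hfix
    have h1 := congrArg (D.C z') hfix
    simp only [map_sum, D.C_T] at h1
    set p' := ∑ j, g z' (β⁻¹ • R (c' j : W)) • (bs j : U)
    set q' := ∑ j, g z' (c' j : W) • (bs j : U)
    have hq' : q' ∈ U₀ := Submodule.sum_mem _ fun j _ => U₀.smul_mem _ (bs j).2
    have hq0 : q' = 0 := Submodule.disjoint_def.1 hdis q' hq'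
      ⟨p', Submodule.sum_mem _ fun j _ => U₀.smul_mem _ (bs j).2, by
        rw [map_sum]; simpa [map_smul] using h1⟩
    have h2 : ∑ j, g z' (c' j : W) • bs j = 0 := Subtype.ext (by simpa using hq0)
    simpa using Fintype.linearIndependent_iff.1 bs.linearIndependent _ h2 i
  have h1 := LinearMap.finrank_le_finrank_of_injective hinj
  rw [Module.finrank_pi_fintype, Finset.sum_const, Finset.card_univ, Fintype.card_fin, smul_eq_mul] at h1
  have h2 := LinearMap.finrank_range_add_finrank_ker (g v)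
  have h3 := (Submodule.finrank_le (LinearMap.range (g v))).trans_eq (Module.finrank_self F)
  have h4' : 4 ≤ finrank F W := O.thin.resolve_right fun hh => by
    have e1 := Submodule.finrank_sup_add_finrank_inf_eq U₀ (U₀.map A')
    rw [hdis.eq_bot, finrank_bot] at e1
    have e2 := Submodule.finrank_le (U₀ ⊔ U₀.map A')
    have e3 : finrank F (U₀.map A') = finrank F U₀ :=
      (Submodule.equivMapOfInjective A' (fun p q e => by
        have e' := congrArg A' e
        rw [hA'2, hA'2] at e'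
        exact smul_right_injective U hc0 e') U₀).finrank_eq.symm
    have := hh.2
    omega
  have h4 : finrank F U₀ * 3 ≤ finrank F U₀ * finrank F (LinearMap.ker (g v)) :=
    Nat.mul_le_mul_left _ (by omega)
  have := O.three
  omega

end Orth

end CfsgLib.Geo.MixTensor
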