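/-
Without non-scalar central coefficients every element of the overgroup is a product.
-/
import Cfsg.Agent.Lib.Geo.MixTensor.Pairing

set_option autoImplicit false
set_option linter.unusedSectionVars false

namespace CfsgLib.Geo.MixTensor

open CfsgLib.Classical CfsgLib.Classical.Symp Module
open LinearMap (BilinForm)

variable {F : Type*} [Field F] [Finite F] {U W V : Type*} [AddCommGroup U] [Module F U] [FiniteDimensional F U]
  [AddCommGroup W] [Module F W] [FiniteDimensional F W] [AddCommGroup V] [Module F V] [FiniteDimensional F V]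
  {H : BilinForm F V} {f : BilinForm F U} {g : BilinForm F W} {T : U →ₗ[F] W →ₗ[F] V}

/-- A symmetric form on a space of dimension at least three has an isotropic vector. -/
theorem exists_null (h2 : (2 : F) ≠ 0) (B : BilinForm F W) (hB : ∀ a b, B b a = B a b) (h : 3 ≤ finrank F W) :
    ∃ z, z ≠ 0 ∧ B z z = 0 := by
  by_cases hn : ∀ x, (∀ y, B x y = 0) → x = 0
  · have hf : SymForm B := ⟨h2, ⟨hn, fun x hx => hn x fun y => by rw [hB]; exact hx y⟩, hB⟩
    obtain ⟨z, -, hz0, hz⟩ := hf.exists_isotropic (P := (⊤ : Submodule F W)) (by rwa [finrank_top])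
    exact ⟨z, hz0, hz⟩
  · push Not at hn
    obtain ⟨x, hx, hx0⟩ := hn
    exact ⟨x, hx0, hx x⟩

namespace Orth

variable {D : Data H f g T} {K : Subgroup (Sp H)} (O : Orth D K)
include O

/-- In a plane a scalar self-pairing forces a product. -/
theorem kr_thin (hN : NC D K) (hW2 : finrank F W = 2) {h : Sp H} {v w : W} (hh : h ∈ K) (hv : v ≠ 0) (hw : w ≠ 0)
    {L : U →ₗ[F] V} {μ : F} (hlt : finrank F (LinearMap.ker (D.pair h v w)) < finrank F U) (hμ : μ ≠ 0)
    (hL0 : ∀ a, D.pair h v w a = 0 → L a = 0)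
    (hΘ : ∀ a b, f b (D.C v (L a)) = -f (D.pair h v w b) (D.pair h v w a))
    (hker : ∀ a, D.C v (L a) = 0 ↔ D.pair h v w a = 0)
    (hμΘ : ∀ a, D.C v (L (D.C v (L a))) = μ • D.C v (L a))
    (hLM : ∀ a, (h : V ≃ₗ[F] V) (L a) = T (D.pair h v w a) w) : Kr T h := by
  classical
  have := O.nontriv
  have := O.nontrivW
  set M := D.pair h v w
  set Θ : U →ₗ[F] U := D.C v ∘ₗ L
  obtain ⟨lam, hlam, hlam2⟩ : ∃ u : F, u ≠ 0 ∧ u * u ≠ 1 := by
    by_contra! hu
    have := O.big fun u => by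
      by_cases e : u = 0
      · exact Or.inl e
      exact Or.inr (mul_self_eq_one_iff.1 (hu u e))
    have := O.thin.resolve_left (by omega)
    omega
  obtain ⟨v', hv'⟩ := D.exists_partner_one hv
  set v₁ := -v'
  have hvv : g v v₁ = 1 := by simp [v₁, O.gswap v' v, hv']
  -- the conjugates of the transvections of the second line
  have hfam : ∀ c : F, ∃ k ∈ K, ∀ y, (k : V ≃ₗ[F] V) y =
      y + c • (h : V ≃ₗ[F] V).symm (T (D.C w ((h : V ≃ₗ[F] V) y)) w) := fun c => by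
    obtain ⟨u, hu, eu⟩ := O.trz_mem w c
    refine ⟨h⁻¹ * u * h, K.mul_mem (K.mul_mem (K.inv_mem hh) hu) hh, fun y => ?_⟩
    show (h : V ≃ₗ[F] V).symm ((u : V ≃ₗ[F] V) ((h : V ≃ₗ[F] V) y)) = _
    rw [eu, D.E_apply]
    simp
  have hLs : ∀ a, (h : V ≃ₗ[F] V).symm (T (M a) w) = L a := fun a => by
    rw [LinearEquiv.symm_apply_eq, hLM]
  set r := (lam - 1) / μ
  obtain ⟨k₁, hk₁, e₁⟩ := hfam 1
  obtain ⟨k₂, hk₂, e₂⟩ := hfam (-lam⁻¹)
  obtain ⟨s, hs, es⟩ := O.trz_mem v r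
  have kv : ∀ (k : Sp H) (c : F), (∀ y, (k : V ≃ₗ[F] V) y =
      y + c • (h : V ≃ₗ[F] V).symm (T (D.C w ((h : V ≃ₗ[F] V) y)) w)) →
      ∀ a, (k : V ≃ₗ[F] V) (T a v) = T a v + c • L a := fun k c e a => by
    rw [e, show D.C w ((h : V ≃ₗ[F] V) (T a v)) = M a from rfl, hLs]
  have kL : ∀ (k : Sp H) (c : F), (∀ y, (k : V ≃ₗ[F] V) y =
      y + c • (h : V ≃ₗ[F] V).symm (T (D.C w ((h : V ≃ₗ[F] V) y)) w)) →
      ∀ a, (k : V ≃ₗ[F] V) (L a) = L a := fun k c e a => by
    rw [e, hLM, D.C_T, O.gA w]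
    simp
  have hLΘ : ∀ a, L (Θ a) = μ • L a := fun a => by
    have h1 : Θ (Θ a - μ • a) = 0 := by
      rw [map_sub, map_smul, show Θ (Θ a) = μ • Θ a from hμΘ a, sub_self]
    have h2 := hL0 _ ((hker _).1 h1)
    rwa [map_sub, map_smul, sub_eq_zero] at h2
  set x := k₂ * (s * k₁)
  have hxK : x ∈ K := K.mul_mem hk₂ (K.mul_mem hs hk₁)
  set P : U →ₗ[F] U := LinearMap.id + r • Θ
  have hxv : ∀ a, (x : V ≃ₗ[F] V) (T a v) = T (P a) v := fun a => by
    show (k₂ : V ≃ₗ[F] V) ((s : V ≃ₗ[F] V) ((k₁ : V ≃ₗ[F] V) (T a v))) = _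
    rw [kv k₁ 1 e₁, one_smul, map_add, es, es, D.E_pure, O.gA v, zero_smul, add_zero, D.E_apply]
    simp only [LinearMap.smul_apply, LinearMap.id_apply, map_add, kv k₂ _ e₂, kL k₂ _ e₂]
    simp only [show D.C v (L a) = Θ a from rfl, map_smul, LinearMap.smul_apply, hLΘ]
    simp only [P, LinearMap.add_apply, LinearMap.smul_apply, LinearMap.id_apply, map_add, map_smul]
    simp only [r]
    match_scalars <;> field_simp <;> ring
  have hxL : ∀ a, (x : V ≃ₗ[F] V) (L a) = T (r • Θ a) v + lam⁻¹ • L a := fun a => by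
    show (k₂ : V ≃ₗ[F] V) ((s : V ≃ₗ[F] V) ((k₁ : V ≃ₗ[F] V) (L a))) = _
    rw [kL k₁ 1 e₁, es, D.E_apply]
    simp only [LinearMap.smul_apply, LinearMap.id_apply, map_add, kv k₂ _ e₂, kL k₂ _ e₂]
    simp only [show D.C v (L a) = Θ a from rfl, map_smul, LinearMap.smul_apply, hLΘ]
    simp only [r]
    match_scalars <;> field_simp <;> ring
  have hsa : ∀ a b, f (Θ a) b = f a (Θ b) := fun a b => by
    rw [O.form.symm b (Θ a), show f b (Θ a) = _ from hΘ a b, show f a (Θ b) = _ from hΘ b a, O.form.symm (M a) (M b)]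
  have hPadj : D.adj P = P := D.adj_eq fun a b => by simp [P, hsa]
  obtain ⟨c₀, hc₀⟩ := hN v _ hv (O.E_line hxK hxv (by simpa using O.trz_mem v 1))
  rw [LinearMap.id_comp, hPadj] at hc₀
  have hΘne : ∃ a, Θ a ≠ 0 := by
    by_contra! hall
    rw [LinearMap.ker_eq_top.2 (LinearMap.ext fun a => (hker a).1 (hall a)), finrank_top] at hlt
    exact lt_irrefl _ hlt
  have hΘμ : ∀ a, Θ a = μ • a := by
    have h3 : ∀ a, ((lam * lam - 1) / μ) • Θ a = (c₀ - 1) • a := fun a => by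
      have h4 := LinearMap.congr_fun hc₀ a
      simp only [P, LinearMap.comp_apply, LinearMap.add_apply, LinearMap.smul_apply, LinearMap.id_apply, map_add,
        map_smul, show Θ (Θ a) = μ • Θ a from hμΘ a] at h4
      simp only [r] at h4
      linear_combination (norm := (match_scalars <;> field_simp <;> ring)) h4
    have hco : (lam * lam - 1) / μ ≠ 0 := div_ne_zero (sub_ne_zero.2 hlam2) hμ
    set ν := ((lam * lam - 1) / μ)⁻¹ * (c₀ - 1)
    have h5 : ∀ a, Θ a = ν • a := fun a => by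
      rw [← inv_smul_smul₀ hco (Θ a), h3, smul_smul]
    obtain ⟨a, ha⟩ := hΘne
    have hν : ν = μ := by
      have h6 : Θ (Θ a) = μ • Θ a := hμΘ a
      rw [h5 (Θ a)] at h6
      exact smul_left_injective F ha h6
    rwa [hν] at h5
  -- the element is a product fixing the line up to a scalar
  have hxv' : ∀ a, (x : V ≃ₗ[F] V) (T a v) = T a (lam • v) := fun a => by
    rw [hxv]
    simp only [P, r, LinearMap.add_apply, LinearMap.smul_apply, LinearMap.id_apply, hΘμ, map_add, map_smul]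
    match_scalars
    field_simp
    ring
  obtain ⟨A, hA⟩ := O.line_kr hN hxK hv (A₀ := LinearMap.id) hxv'
  choose R hR using hA
  obtain ⟨z, hz⟩ := D.exists_partner_one hv
  have hAsc : ∀ a, g z (R v) • A a = lam • a := fun a => by
    have h4 := congrArg (D.C z) ((hR v a).symm.trans (hxv' a))
    rwa [D.C_T, D.C_T, map_smul, hz, smul_eq_mul, mul_one] at h4
  have hR0 : g z (R v) ≠ 0 := fun e => by
    obtain ⟨a, ha⟩ := exists_ne (0 : U)
    have h4 := hAsc a
    rw [e, zero_smul] at h4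
    exact ha ((smul_eq_zero.1 h4.symm).resolve_left hlam)
  set d₁ := (lam / g z (R v)) • R v₁
  have hxv₁ : ∀ a, (x : V ≃ₗ[F] V) (T a v₁) = T a d₁ := fun a => by
    have e : A a = (lam / g z (R v)) • a := by
      rw [div_eq_inv_mul, mul_smul, ← hAsc, inv_smul_smul₀ hR0]
    rw [hR, e, map_smul, LinearMap.smul_apply]
    simp [d₁]
  have hLdec : ∀ a, L a = T (-(D.C v₁ (L a))) v + μ • T a v₁ := fun a => by
    conv_lhs => rw [O.decomp hW2 hvv (L a), show D.C v (L a) = μ • a from hΘμ a, map_smul, LinearMap.smul_apply]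
  obtain ⟨t, ht⟩ : ∃ t : F, ∀ a, -(D.C v₁ (L a)) = t • a := by
    have hne : lam - lam⁻¹ ≠ 0 := fun e => hlam2 (by
      field_simp at e
      linear_combination e)
    refine ⟨((lam - lam⁻¹))⁻¹ * (r * μ + μ * g v₁ d₁), fun a => ?_⟩
    have h4 := hxL a
    rw [hLdec a, map_add, map_smul, hxv', hxv₁] at h4
    have h5 := congrArg (D.C v₁) h4
    simp only [map_add, map_smul, map_neg, LinearMap.smul_apply, LinearMap.neg_apply, D.C_T, O.gA v₁, hΘμ,
      show g v₁ v = -1 by rw [O.gswap v v₁, hvv]] at h5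
    rw [mul_smul, eq_inv_smul_iff₀ hne]
    linear_combination (norm := module) -h5
  set d := t • v + μ • v₁
  have hLd : ∀ a, L a = T a d := fun a => by
    rw [hLdec a, ht]
    simp [d]
  have hd : d ≠ 0 := fun e => by
    obtain ⟨a, ha⟩ := exists_ne (0 : U)
    have h4 : Θ a = μ • a := hΘμ a
    rw [show Θ a = D.C v (L a) from rfl, hLd, e, map_zero, map_zero] at h4
    exact ha ((smul_eq_zero.1 h4.symm).resolve_left hμ)
  exact O.line_kr hN hh hd (A₀ := M) fun a => by rw [← hLd, hLM]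

/-- **Without non-scalar central coefficients everything is a product.** -/
theorem kr_of_NC (hN : NC D K) {h₀ : Sp H} (hh₀ : h₀ ∈ K) : Kr T h₀ := by
  classical
  by_contra hnk
  have := O.nontriv
  have := O.nontrivW
  obtain ⟨w₀, hw₀⟩ := exists_ne (0 : W)
  let S : Set ℕ := {j | ∃ x v w, x ∈ K ∧ ¬ Kr T x ∧ v ≠ 0 ∧ w ≠ 0 ∧ finrank F (LinearMap.ker (D.pair x v w)) = j}
  have hbd : BddAbove S := ⟨finrank F U, by
    rintro j ⟨x, v, w, -, -, -, -, rfl⟩
    exact Submodule.finrank_le _⟩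
  have hne : S.Nonempty := ⟨_, h₀, w₀, w₀, hh₀, hnk, hw₀, hw₀, rfl⟩
  obtain ⟨h, v, w, hh, hnh, hv, hw, hd⟩ := Nat.sSup_mem hne hbd
  have hmax : ∀ x v' w', x ∈ K → ¬ Kr T x → v' ≠ 0 → w' ≠ 0 →
      finrank F (LinearMap.ker (D.pair x v' w')) ≤ finrank F (LinearMap.ker (D.pair h v w)) :=
    fun x v' w' h1 h2 h3 h4 => hd.symm ▸ le_csSup hbd ⟨x, v', w', h1, h2, h3, h4, rfl⟩
  rcases (Submodule.finrank_le (LinearMap.ker (D.pair h v w))).eq_or_lt with htop | hlt
  · -- the pairing vanishes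
    obtain ⟨u, hu, eu⟩ := O.trz_mem w 1
    have eu' : ∀ x, (u : V ≃ₗ[F] V) x = D.E w LinearMap.id x := fun x => by rw [eu, one_smul]
    refine hnh ?_
    have h1 : Kr T (h⁻¹ * u * h) := by
      refine O.line_kr hN (K.mul_mem (K.mul_mem (K.inv_mem hh) hu) hh) hv (w' := v) (A₀ := LinearMap.id) fun a => ?_
      have hC : D.C w ((h : V ≃ₗ[F] V) (T a v)) = 0 :=
        LinearMap.mem_ker.1 ((Submodule.eq_top_of_finrank_eq htop).ge (Submodule.mem_top (x := a)))
      show (h : V ≃ₗ[F] V).symm ((u : V ≃ₗ[F] V) ((h : V ≃ₗ[F] V) (T a v))) = _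
      rw [eu', D.E_apply, hC, map_zero, map_zero, LinearMap.zero_apply, add_zero, LinearEquiv.symm_apply_apply,
        LinearMap.id_apply]
    simpa using D.kr_inv (O.kr_of_trz hN (K.inv_mem hh) hw eu' (by rwa [inv_inv]))
  obtain ⟨k, L, μ, hk, hnk', hμ, hk1, hL0, hΘ, hker, hμΘ, hLM⟩ := O.pairing_scalar hN hh hnh hv hw hlt hmax
  set Θ : U →ₗ[F] U := D.C v ∘ₗ L
  set M := D.pair h v w
  have hΘ' : ∀ a b, f b (Θ a) = -f (M b) (M a) := hΘ
  -- an anisotropic vector in the image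
  obtain ⟨b₀, hb₀⟩ : ∃ b, f (Θ b) (Θ b) ≠ 0 := by
    by_contra! hc
    have h1 : ∀ a b, f (Θ a) (Θ b) = 0 := fun a b => by
      have h1 := hc (a + b)
      simp only [map_add, LinearMap.add_apply, hc a, hc b, O.form.symm (Θ a) (Θ b), zero_add, add_zero] at h1
      exact (mul_eq_zero.1 (show (2 : F) * f (Θ a) (Θ b) = 0 by linear_combination h1)).resolve_left D.two
    have h2 : ∀ b, M (Θ b) = 0 := fun b => by
      refine (hker _).1 (D.fext fun a => ?_)
      show f a (Θ (Θ b)) = f a 0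
      rw [hΘ', map_zero, O.form.symm (M (Θ b)) (M a), ← hΘ', O.form.symm (Θ a) (Θ b), h1]
    have h3 : LinearMap.ker M = ⊤ := (eq_top_iff).2 fun a _ => by
      rw [LinearMap.mem_ker, ← hker]
      have h4 := hμΘ a
      rw [show D.C v (L (D.C v (L a))) = 0 from (hker _).2 (h2 a)] at h4
      exact (smul_eq_zero.1 h4.symm).resolve_left hμ
    rw [h3, finrank_top] at hlt
    exact lt_irrefl _ hlt
  set a₀ := Θ b₀
  rcases O.thin with h4 | ⟨hW2, hU3⟩
  swap
  · exact hnh (O.kr_thin hN hW2 hh hv hw hlt hμ hL0 hΘ' hker hμΘ hLM)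
  set ℓ : LinearMap.ker (g v) →ₗ[F] U := D.C.flip (L a₀) ∘ₗ (LinearMap.ker (g v)).subtype
  obtain ⟨⟨z, hzv⟩, hz0, hz⟩ := exists_null D.two (f.compl₁₂ ℓ ℓ)
    (fun a b => O.form.symm (ℓ a) (ℓ b)) (by
      have h2 := LinearMap.finrank_range_add_finrank_ker (g v)
      have h3 := (Submodule.finrank_le (LinearMap.range (g v))).trans_eq (Module.finrank_self F)
      omega)
  have hz' : f (D.C z (L a₀)) (D.C z (L a₀)) = 0 := hz
  have hzne : z ≠ 0 := fun e => hz0 (Subtype.ext e)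
  have hgzv : g z v = 0 := by rw [O.gswap v z, LinearMap.mem_ker.1 hzv, neg_zero]
  set G := D.pair k v z
  have hG : ∀ a, G a = D.C z (L a) := fun a => by
    rw [D.pair_apply, hk1, map_add, D.C_T, hgzv, zero_smul, zero_add]
  have hle : LinearMap.ker M ≤ LinearMap.ker G := fun a ha => by
    rw [LinearMap.mem_ker] at ha ⊢
    rw [hG, hL0 a ha, map_zero]
  have heq : LinearMap.ker M = LinearMap.ker G :=
    Submodule.eq_of_le_of_finrank_le hle (hmax k v z hk hnk' hv hzne)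
  obtain ⟨k₂, L₂, μ₂, -, -, hμ₂, -, -, hΘ₂, hker₂, hμΘ₂, -⟩ := O.pairing_scalar hN hk hnk' hv hzne
    (heq ▸ hlt) (fun x v' w' a b c d => by rw [← heq]; exact hmax x v' w' a b c d)
  set Θ₂ : U →ₗ[F] U := D.C v ∘ₗ L₂
  set p := Θ₂ a₀ - μ₂ • a₀
  have hp : M p = 0 := by
    rw [← LinearMap.mem_ker, heq, LinearMap.mem_ker, ← hker₂]
    show Θ₂ p = 0
    rw [map_sub, map_smul, show Θ₂ (Θ₂ a₀) = μ₂ • Θ₂ a₀ from hμΘ₂ a₀, sub_self]
  have h1 : f a₀ p = 0 := by
    rw [O.form.symm p a₀]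
    show f p (Θ b₀) = 0
    rw [hΘ', hp, map_zero, LinearMap.zero_apply, neg_zero]
  have hΘ₂' : ∀ a b, f b (Θ₂ a) = -f (G b) (G a) := hΘ₂
  rw [map_sub, map_smul, smul_eq_mul, hΘ₂', hG, hz', neg_zero, zero_sub, neg_eq_zero, mul_eq_zero] at h1
  exact h1.elim hμ₂ hb₀

end Orth

end CfsgLib.Geo.MixTensor
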