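/-
A two-dimensional symplectic factor: an element fixing an isotropic line is a product.
-/
import Cfsg.Agent.Lib.Geo.MixTensor.Closure
import Cfsg.Agent.Lib.Geo.SympTensor.Line

set_option autoImplicit false
set_option linter.unusedSectionVars false

namespace CfsgLib.Geo.MixTensor

open CfsgLib.Classical CfsgLib.Classical.Symp Module
open LinearMap (BilinForm)

variable {F : Type*} [Field F] [Finite F] {U W V : Type*} [AddCommGroup U] [Module F U] [FiniteDimensional F U]
  [AddCommGroup W] [Module F W] [FiniteDimensional F W] [AddCommGroup V] [Module F V] [FiniteDimensional F V]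
  {H : BilinForm F V} {f : BilinForm F U} {g : BilinForm F W} {T : U →ₗ[F] W →ₗ[F] V}

/-- The first factor is symplectic of dimension two, the second orthogonal of dimension at least four, of minus type if four. -/
structure Small (D : Data H f g T) (K : Subgroup (Sp H)) : Prop extends Over D K where
  fA : f.IsAlt
  form : SymForm g
  dim : finrank F U = 2
  four : 4 ≤ finrank F W
  minus : finrank F W = 4 → ∀ P : Submodule F W, 2 ≤ finrank F P → ∃ e ∈ P, g e e ≠ 0

/-- The only central maps of isotropic lines in the group are trivial. -/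
def NS (D : Data H f g T) (K : Subgroup (Sp H)) : Prop :=
  ∀ (w : W) (φ : U →ₗ[F] U), w ≠ 0 → g w w = 0 → Mem K (D.E w φ) → φ = 0

namespace Data

variable (D : Data H f g T)
include D

/-- The Siegel map of an isotropic line and an orthogonal vector. -/
noncomputable def sg (w y : W) : V →ₗ[F] V :=
  LinearMap.id + T.flip w ∘ₗ D.C y - T.flip y ∘ₗ D.C w - (2⁻¹ * g y y) • (T.flip w ∘ₗ D.C w)

theorem sg_apply (w y : W) (v : V) :
    D.sg w y v = v + T (D.C y v) w - T (D.C w v) y - (2⁻¹ * g y y) • T (D.C w v) w := rfl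

end Data

namespace Small

variable {D : Data H f g T} {K : Subgroup (Sp H)} (O : Small D K)
include O

theorem fswap (a b : U) : f b a = -f a b := Symp.swap O.fA a b

theorem nontriv : Nontrivial U := Module.nontrivial_of_finrank_pos (R := F) (by rw [O.dim]; omega)

theorem nontrivW : Nontrivial W := Module.nontrivial_of_finrank_pos (R := F) (by have := O.four; omega)

/-- Vectors of the plane orthogonal to a non-zero one are its multiples. -/
theorem exists_smul {a b : U} (ha : a ≠ 0) (h : f a b = 0) : ∃ t : F, b = t • a := by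
  have h1 : Submodule.span F {a} = LinearMap.ker (f a) := by
    refine Submodule.eq_of_le_of_finrank_le
      ((Submodule.span_singleton_le_iff_mem _ _).2 (LinearMap.mem_ker.2 (O.fA a))) ?_
    have h2 := LinearMap.finrank_range_add_finrank_ker (f a)
    have h3 : 1 ≤ finrank F (LinearMap.range (f a)) := Submodule.one_le_finrank_iff.2 fun e =>
      ha (D.hf.1 a fun x => LinearMap.congr_fun (LinearMap.range_eq_bot.1 e) x)
    rw [O.dim] at h2
    rw [finrank_span_singleton ha]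
    omega
  obtain ⟨t, ht⟩ := Submodule.mem_span_singleton.1 (h1.ge (LinearMap.mem_ker.2 h))
  exact ⟨t, ht.symm⟩

/-- A self-adjoint map of the plane is a scalar. -/
theorem scalar_of_quad {N : U →ₗ[F] U} (h : ∀ a, f a (N a) = 0) : ∃ c : F, N = c • LinearMap.id := by
  refine SympTensor.scalar_of_eigen fun a => ?_
  by_cases ha : a = 0
  · exact ⟨0, by simp [ha]⟩
  have h1 : LinearMap.ker (f a) = Submodule.span F {a} := by
    refine (Submodule.eq_of_le_of_finrank_le
      ((Submodule.span_singleton_le_iff_mem _ _).2 (LinearMap.mem_ker.2 (O.fA a))) ?_).symm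
    have h2 := LinearMap.finrank_range_add_finrank_ker (f a)
    have h3 : 1 ≤ finrank F (LinearMap.range (f a)) := Submodule.one_le_finrank_iff.2 fun e =>
      ha (D.hf.1 a fun x => LinearMap.congr_fun (LinearMap.range_eq_bot.1 e) x)
    rw [O.dim] at h2
    rw [finrank_span_singleton ha]
    omega
  obtain ⟨c, hc⟩ := Submodule.mem_span_singleton.1 (h1.le (LinearMap.mem_ker.2 (h a)))
  exact ⟨c, hc.symm⟩

theorem scalar_of_adj {N : U →ₗ[F] U} (h : D.adj N = N) : ∃ c : F, N = c • LinearMap.id := by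
  refine O.scalar_of_quad fun a => ?_
  have h1 : f a (N a) = f (N a) a := by rw [← D.adj_left, h]
  rw [O.fswap a (N a)] at h1
  exact (mul_eq_zero.1 (show (2 : F) * f a (N a) = 0 by linear_combination h1)).resolve_left D.two

theorem sg_mem {w y : W} (hw : g w w = 0) (hwy : g w y = 0) : Mem K (D.sg w y) := by
  refine O.toOver.mem_map (A := LinearMap.id)
    (B := LinearMap.id + (g y).smulRight w - (g w).smulRight y - (2⁻¹ * g y y) • (g w).smulRight w)
    (fun _ _ => rfl) (fun a b => ?_) fun a x => by simp [D.sg_apply, D.C_T]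
  simp only [LinearMap.sub_apply, LinearMap.add_apply, LinearMap.id_apply, LinearMap.smulRight_apply,
    LinearMap.smul_apply, map_sub, map_add, map_smul, smul_eq_mul, hw, hwy, O.form.symm w y, O.form.symm w a,
    O.form.symm y a]
  have := D.two
  field_simp
  ring

theorem skew {w : W} (hw : w ≠ 0) (hww : g w w = 0) {φ : U →ₗ[F] U} (h : Mem K (D.E w φ)) : D.adj φ = -φ := by
  obtain ⟨k, -, ek⟩ := h
  obtain ⟨e, he⟩ := D.exists_partner_one hw
  have hwe : g w e = 1 := by rw [O.form.symm e w, he]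
  refine D.adj_eq fun a b => ?_
  have h1 := k.2 (T a e) (T b e)
  simp only [ek, D.E_pure, map_add, map_smul, LinearMap.add_apply, LinearMap.smul_apply, smul_eq_mul, D.formT,
    hww, he, hwe] at h1
  rw [LinearMap.neg_apply, map_neg, LinearMap.neg_apply]
  linear_combination -h1

/-- The conjugate of a Siegel map by an element fixing its line. -/
theorem conj_sg_mem {x : Sp H} (hx : x ∈ K) {w y : W} (hw : g w w = 0) (hwy : g w y = 0)
    (h0 : ∀ a, (x : V ≃ₗ[F] V) (T a w) = T a w) :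
    ∃ k ∈ K, ∀ v, (k : V ≃ₗ[F] V) v = v + T (D.C y ((x : V ≃ₗ[F] V).symm v)) w -
      (x : V ≃ₗ[F] V) (T (D.C w v) y) - (2⁻¹ * g y y) • T (D.C w v) w := by
  obtain ⟨s, hs, es⟩ := O.sg_mem hw hwy
  refine ⟨x * s * x⁻¹, K.mul_mem (K.mul_mem hx hs) (K.inv_mem hx), fun v => ?_⟩
  obtain ⟨u, rfl⟩ := (x : V ≃ₗ[F] V).surjective v
  have hC : D.C w ((x : V ≃ₗ[F] V) u) = D.C w u := D.fext fun a => by
    rw [D.f_C, ← h0 a, D.C_apply]
  show (x : V ≃ₗ[F] V) ((s : V ≃ₗ[F] V) ((x : V ≃ₗ[F] V).symm ((x : V ≃ₗ[F] V) u))) = _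
  rw [LinearEquiv.symm_apply_apply, es, D.sg_apply, map_sub, map_sub, map_add, map_smul, h0, h0, hC]

theorem inner (hN : NS D K) {x : Sp H} (hx : x ∈ K) {w : W} (hw : w ≠ 0) (hww : g w w = 0)
    (h0 : ∀ a, (x : V ≃ₗ[F] V) (T a w) = T a w) {y z : W} (hy : g w y = 0) (hz : g w z = 0) :
    ∃ c : F, ∀ a, D.C z ((x : V ≃ₗ[F] V) (T a y)) = c • a := by
  obtain ⟨k, hk, ek⟩ := O.conj_sg_mem hx hww hy h0
  set N : U →ₗ[F] U := D.C z ∘ₗ ((x : V ≃ₗ[F] V) : V →ₗ[F] V) ∘ₗ T.flip y
  set N' : U →ₗ[F] U := D.C y ∘ₗ (x : V ≃ₗ[F] V).symm.toLinearMap ∘ₗ T.flip z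
  have hadj : D.adj N = N' := D.adj_eq fun b a => by
    rw [O.fswap a (N' b)]
    show -f a (D.C y ((x : V ≃ₗ[F] V).symm (T b z))) = f b (D.C z ((x : V ≃ₗ[F] V) (T a y)))
    rw [D.f_C, D.f_C, ← sp_map x (T a y), LinearEquiv.apply_symm_apply, D.Hswap ((x : V ≃ₗ[F] V) (T a y)) (T b z)]
  have hxs : ∀ a, (x : V ≃ₗ[F] V).symm (T a w) = T a w := fun a => by rw [LinearEquiv.symm_apply_eq, h0]
  have hmem : Mem K (D.E w (N - N')) := by
    refine Mem.comm (L := ((k : V ≃ₗ[F] V) : V →ₗ[F] V)) ⟨k, hk, fun _ => rfl⟩ (O.sg_mem hww hz) fun v => ?_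
    have hCwx : ∀ c, D.C w ((x : V ≃ₗ[F] V) (T c y)) = 0 := fun c => D.fext fun a => by
      rw [D.f_C, ← h0 a, sp_map x, D.formT, hy, mul_zero, map_zero]
    simp only [LinearEquiv.coe_coe, ek, D.sg_apply, D.E_apply, map_add, map_sub, map_smul, D.C_T, hww, hy, hz,
      O.form.symm w z, O.form.symm w y, hxs, hCwx, h0, zero_smul, smul_zero, map_zero, LinearMap.zero_apply,
      add_zero, sub_zero, LinearMap.sub_apply, N, N', LinearMap.comp_apply, LinearMap.flip_apply]
    module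
  obtain ⟨c, hc⟩ := O.scalar_of_adj (hadj.trans (sub_eq_zero.1 (hN w _ hw hww hmem)).symm)
  exact ⟨c, fun a => LinearMap.congr_fun hc a⟩

/-- Lines orthogonal to a fixed isotropic line are mapped to lines. -/
theorem perp_pure (hN : NS D K) {x : Sp H} (hx : x ∈ K) {w : W} (hw : w ≠ 0) (hww : g w w = 0)
    (h0 : ∀ a, (x : V ≃ₗ[F] V) (T a w) = T a w) {y : W} (hy : g w y = 0) :
    ∃ r, ∀ a, (x : V ≃ₗ[F] V) (T a y) = T a r := by
  have := O.nontriv
  obtain ⟨e, he⟩ := D.exists_partner_one hw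
  have hwe : g w e = 1 := by rw [O.form.symm e w, he]
  obtain ⟨c₀, hc₀⟩ := exists_ne (0 : U)
  obtain ⟨χ, hχ⟩ := Module.Projective.exists_dual_ne_zero F hc₀
  let ψ : W →ₗ[F] F := ((χ c₀)⁻¹ • χ) ∘ₗ D.C.flip ((x : V ≃ₗ[F] V) (T c₀ y))
  obtain ⟨r, hr⟩ := Bilin.exists_right_dual D.hg ψ
  have hmid : ∀ z, g w z = 0 → ∀ a, D.C z ((x : V ≃ₗ[F] V) (T a y)) = g z r • a := by
    intro z hz a
    obtain ⟨c, hc⟩ := O.inner hN hx hw hww h0 hy hz
    rw [hc, hr]
    simp [ψ, hc, mul_comm c, ← mul_assoc, inv_mul_cancel₀ hχ]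
  have hwr : g w r = 0 := by
    have h1 : D.C w ((x : V ≃ₗ[F] V) (T c₀ y)) = 0 := D.fext fun a => by
      rw [D.f_C, ← h0 a, sp_map x, D.formT, hy, mul_zero, map_zero]
    rw [hr]; simp [ψ, h1]
  set θ : U →ₗ[F] U := D.C e ∘ₗ (((x : V ≃ₗ[F] V) : V →ₗ[F] V) ∘ₗ T.flip y - T.flip r)
  have hdec : ∀ c, (x : V ≃ₗ[F] V) (T c y) = T c r + T (θ c) w := fun c => D.V_ext fun u => by
    have hu : g w (u - g w u • e) = 0 := by rw [map_sub, map_smul, hwe, smul_eq_mul, mul_one, sub_self]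
    have h1 := hmid _ hu c
    simp only [map_sub, map_smul, LinearMap.sub_apply, LinearMap.smul_apply, sub_eq_iff_eq_add] at h1
    rw [h1, map_add, D.C_T, D.C_T, O.form.symm w u]
    simp [θ, D.C_T]
    module
  -- the central map
  obtain ⟨k, hk, ek⟩ := O.conj_sg_mem hx hww hy h0
  obtain ⟨s, hs, es⟩ := O.sg_mem hww hwr
  set κ := 2⁻¹ * g r r - 2⁻¹ * g y y
  have hCy : ∀ v, D.C y ((x : V ≃ₗ[F] V).symm v) = D.C r v + D.adj θ (D.C w v) := fun v => D.fext fun a => by
    rw [map_add, ← D.adj_right, D.f_C, D.f_C, D.f_C, ← LinearMap.add_apply, ← map_add, ← hdec, ← sp_map x,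
      LinearEquiv.apply_symm_apply]
  have hmem : Mem K (D.E w (D.adj θ - θ + κ • LinearMap.id)) := by
    refine ⟨s⁻¹ * k, K.mul_mem (K.inv_mem hs) hk, fun v => ?_⟩
    show (s : V ≃ₗ[F] V).symm ((k : V ≃ₗ[F] V) v) = _
    rw [LinearEquiv.symm_apply_eq, es, ek, hCy, hdec, D.E_apply, D.sg_apply]
    simp only [map_add, D.C_T, hww, hwr, O.form.symm w r, zero_smul, map_zero, LinearMap.zero_apply, add_zero,
      LinearMap.sub_apply, LinearMap.add_apply, LinearMap.smul_apply, LinearMap.id_apply, map_sub, map_smul, κ]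
    module
  have h1 := hN w _ hw hww hmem
  have h2 := congrArg D.adj h1
  rw [D.adj_add, D.adj_sub, D.adj_smul, D.adj_adj, D.adj_id, D.adj_zero] at h2
  have h3 : D.adj θ = θ := LinearMap.ext fun a => by
    have e1 := LinearMap.congr_fun h1 a
    have e2 := LinearMap.congr_fun h2 a
    simp only [LinearMap.add_apply, LinearMap.sub_apply, LinearMap.zero_apply] at e1 e2
    refine smul_right_injective U D.two ?_
    show (2 : F) • D.adj θ a = (2 : F) • θ a
    linear_combination (norm := module) e1 - e2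
  obtain ⟨c, hc⟩ := O.scalar_of_adj h3
  exact ⟨r + c • w, fun a => by rw [hdec, hc, map_add, map_smul, LinearMap.smul_apply, LinearMap.id_apply,
    map_smul, LinearMap.smul_apply]⟩

/-- **An element fixing an isotropic line is a product.** -/
theorem line_kr (hN : NS D K) {x : Sp H} (hx : x ∈ K) {w : W} (hw : w ≠ 0) (hww : g w w = 0)
    (h0 : ∀ a, (x : V ≃ₗ[F] V) (T a w) = T a w) : Kr T x := by
  have := O.nontriv
  obtain ⟨e, he⟩ := D.exists_partner_one hw
  have hwe : g w e = 1 := by rw [O.form.symm e w, he]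
  have hxs : ∀ a, (x : V ≃ₗ[F] V).symm (T a w) = T a w := fun a => by rw [LinearEquiv.symm_apply_eq, h0]
  obtain ⟨c₀, hc₀⟩ := exists_ne (0 : U)
  obtain ⟨χ, hχ⟩ := Module.Projective.exists_dual_ne_zero F hc₀
  obtain ⟨n, b, d, hbd⟩ := D.exists_frame
  let R : W →ₗ[F] W :=
    ∑ i, (((χ c₀)⁻¹ • χ) ∘ₗ D.C (d i) ∘ₗ ((x : V ≃ₗ[F] V) : V →ₗ[F] V) ∘ₗ T c₀).smulRight (b i)
  have hdz : ∀ z, ∑ i, g z (b i) • d i = z := fun z => D.gext fun u => by
    rw [map_sum, O.form.symm z u]
    conv_rhs => rw [← hbd u, map_sum]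
    refine Finset.sum_congr rfl fun i _ => ?_
    rw [map_smul, map_smul, smul_eq_mul, smul_eq_mul, O.form.symm (d i) u]
    ring
  have hgR : ∀ z y, g z (R y) = (χ c₀)⁻¹ * χ (D.C z ((x : V ≃ₗ[F] V) (T c₀ y))) := fun z y => by
    conv_rhs => rw [← hdz z]
    simp only [R, map_sum, LinearMap.sum_apply, map_smul, LinearMap.smul_apply, LinearMap.smulRight_apply,
      LinearMap.comp_apply, LinearEquiv.coe_coe, smul_eq_mul, Finset.mul_sum]
    exact Finset.sum_congr rfl fun i _ => by ring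
  have hsc : ∀ y z (ν : F), (∀ a, D.C z ((x : V ≃ₗ[F] V) (T a y)) = ν • a) → g z (R y) = ν := fun y z ν h => by
    rw [hgR, h, map_smul, smul_eq_mul, mul_comm ν, ← mul_assoc, inv_mul_cancel₀ hχ, one_mul]
  have hmid : ∀ y z, g w z = 0 → ∀ a, D.C z ((x : V ≃ₗ[F] V) (T a y)) = g z (R y) • a := by
    intro y z hz
    obtain ⟨r, hr⟩ := O.perp_pure hN (K.inv_mem hx) hw hww hxs hz
    have h1 : ∀ a, D.C z ((x : V ≃ₗ[F] V) (T a y)) = g r y • a := fun a => D.fext fun c => by
      rw [D.f_C, map_smul, smul_eq_mul, mul_comm, ← D.formT, ← hr c]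
      conv_rhs => rw [← sp_map x]
      congr 2
      exact ((x : V ≃ₗ[F] V).apply_symm_apply _).symm
    intro a
    rw [hsc y z _ h1, h1]
  have hperp : ∀ y, g w y = 0 → ∀ a, (x : V ≃ₗ[F] V) (T a y) = T a (R y) := fun y hy a => by
    obtain ⟨r, hr⟩ := O.perp_pure hN hx hw hww h0 hy
    rw [hr, show R y = r from D.gext fun z => hsc y z _ fun a => by rw [hr, D.C_T]]
  have hRw : R w = w := D.gext fun z => hsc w z _ fun a => by rw [h0, D.C_T]
  have hCw : ∀ a y, D.C w ((x : V ≃ₗ[F] V) (T a y)) = g w y • a := fun a y => D.fext fun c => by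
    rw [D.f_C, ← h0 c, sp_map x, ← D.f_C, D.C_T]
  have hwR : ∀ y, g w (R y) = g w y := fun y => hsc y w _ fun a => hCw a y
  set θ : U →ₗ[F] U := D.C e ∘ₗ (((x : V ≃ₗ[F] V) : V →ₗ[F] V) ∘ₗ T.flip e - T.flip (R e))
  have hdec : ∀ c, (x : V ≃ₗ[F] V) (T c e) = T c (R e) + T (θ c) w := fun c => D.V_ext fun u => by
    have hu : g w (u - g w u • e) = 0 := by rw [map_sub, map_smul, hwe, smul_eq_mul, mul_one, sub_self]
    have h1 := hmid e _ hu c
    simp only [map_sub, map_smul, LinearMap.sub_apply, LinearMap.smul_apply, sub_eq_iff_eq_add] at h1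
    rw [h1, map_add, D.C_T, D.C_T, O.form.symm w u]
    simp [θ, D.C_T]
    module
  set σ := g e e - g (R e) (R e)
  have hσ : ∀ a c, f a (θ c) + f (θ a) c = σ * f a c := fun a c => by
    have h1 := sp_map x (T a e) (T c e)
    rw [hdec, hdec] at h1
    simp only [map_add, LinearMap.add_apply, D.formT, hww, hwR, hwe, O.form.symm w (R e)] at h1
    simp only [σ]
    linear_combination h1
  set θ' := θ - (2⁻¹ * σ) • LinearMap.id
  have hθ' : ∀ a c, f a (θ' c) + f (θ' a) c = 0 := fun a c => by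
    have h2 : (2 : F) * 2⁻¹ = 1 := mul_inv_cancel₀ D.two
    simp only [θ', LinearMap.sub_apply, LinearMap.smul_apply, LinearMap.id_apply, map_sub, map_smul, smul_eq_mul]
    linear_combination hσ a c - (σ * f a c) * h2
  set B : W →ₗ[F] W := R + (2⁻¹ * σ) • (g w).smulRight w
  have hBw : B w = w := by simp [B, hRw, hww]
  have hxB : ∀ a y, (x : V ≃ₗ[F] V) (T a y) = T a (B y) + g w y • T (θ' a) w := fun a y => by
    have hy : g w (y - g w y • e) = 0 := by rw [map_sub, map_smul, hwe, smul_eq_mul, mul_one, sub_self]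
    conv_lhs => rw [← sub_add_cancel y (g w y • e)]
    rw [map_add, map_add, hperp _ hy, map_smul, map_smul, hdec]
    simp [B, θ']
    module
  have hwB : ∀ y, g w (B y) = g w y := fun y => by simp [B, hwR, hww]
  obtain ⟨a₁, a₂, ha12⟩ : ∃ a c, f a c ≠ 0 := by
    by_contra! h
    exact hc₀ (D.hf.1 c₀ (h c₀))
  have hiso : ∀ y z, g (B y) (B z) = g y z := fun y z => by
    have h1 := sp_map x (T a₁ y) (T a₂ z)
    rw [hxB, hxB] at h1
    simp only [map_add, map_smul, LinearMap.add_apply, LinearMap.smul_apply, smul_eq_mul, D.formT, hww,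
      O.form.symm w (B y), hwB] at h1
    exact mul_left_cancel₀ ha12 (by linear_combination h1 - (g w y * g w z) * hθ' a₁ a₂)
  obtain ⟨k, hk, ek⟩ := O.toOver.exists_mem (A := LinearMap.id) (fun _ _ => rfl) hiso
  have hmem : Mem K (D.E w θ') := by
    refine ⟨k⁻¹ * x, K.mul_mem (K.inv_mem hk) hx, fun v => ?_⟩
    show (k : V ≃ₗ[F] V).symm ((x : V ≃ₗ[F] V) v) = _
    rw [LinearEquiv.symm_apply_eq]
    refine LinearMap.congr_fun (D.hom_ext (L := ((x : V ≃ₗ[F] V) : V →ₗ[F] V))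
      (L' := ((k : V ≃ₗ[F] V) : V →ₗ[F] V) ∘ₗ D.E w θ') fun a y => ?_) v
    simp [hxB, D.E_pure, ek, hBw]
  have h0' := hN w θ' hw hww hmem
  exact ⟨LinearMap.id, fun y => ⟨B y, fun a => by rw [hxB, h0']; simp⟩⟩

end Small

end CfsgLib.Geo.MixTensor
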