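/-
A two-dimensional symplectic factor: the overgroup is everything or consists of products.
-/
import Cfsg.Agent.Lib.Geo.MixTensor.SmallLine
import Cfsg.Agent.Lib.Geo.MixTensor.Conj

set_option autoImplicit false
set_option linter.unusedSectionVars false

namespace CfsgLib.Geo.MixTensor

open CfsgLib.Classical CfsgLib.Classical.Symp Module
open LinearMap (BilinForm)

variable {F : Type*} [Field F] [Finite F] {U W V : Type*} [AddCommGroup U] [Module F U] [FiniteDimensional F U]
  [AddCommGroup W] [Module F W] [FiniteDimensional F W] [AddCommGroup V] [Module F V] [FiniteDimensional F V]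
  {H : BilinForm F V} {f : BilinForm F U} {g : BilinForm F W} {T : U →ₗ[F] W →ₗ[F] V}

namespace Small

variable {D : Data H f g T} {K : Subgroup (Sp H)} (O : Small D K)
include O

theorem tvec_isometry (e : U) (c : F) (a b : U) :
    f ((LinearMap.id + c • (f e).smulRight e : U →ₗ[F] U) a)
      ((LinearMap.id + c • (f e).smulRight e : U →ₗ[F] U) b) = f a b := by
  simp [O.fA e, O.fswap e a]
  ring

theorem exists_tr {w : W} {φ : U →ₗ[F] U} (hw : w ≠ 0) (hww : g w w = 0) (hφ : Mem K (D.E w φ)) (h0 : φ ≠ 0) :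
    ∃ e, e ≠ 0 ∧ Tr D.hA K (T e w) := by
  obtain ⟨e, he⟩ : ∃ e, f e (φ e) ≠ 0 := by
    by_contra! hc
    obtain ⟨c, hc'⟩ := O.scalar_of_quad hc
    have h1 := O.skew hw hww hφ
    rw [hc', D.adj_smul, D.adj_id, ← neg_smul] at h1
    have := O.nontriv
    obtain ⟨a, ha⟩ := exists_ne (0 : U)
    have h2 := smul_left_injective F ha (LinearMap.congr_fun h1 a : c • a = -c • a)
    refine h0 ?_
    rw [hc', (mul_eq_zero.1 (show (2 : F) * c = 0 by linear_combination h2)).resolve_left D.two, zero_smul]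
  set R : U →ₗ[F] U := (f e).smulRight e
  have hRR : ∀ a, R (R a) = 0 := fun a => by simp [R, O.fA e]
  have he0 : e ≠ 0 := fun h => he (by simp [h])
  have hc : ∀ c : F, Mem K (D.E w ((LinearMap.id + c • R) ∘ₗ φ ∘ₗ (LinearMap.id + -c • R))) := fun c => by
    have h1 := O.toOver.E_conj (A := LinearMap.id + c • R) (A' := LinearMap.id + -c • R) (B := LinearMap.id)
      (O.tvec_isometry e c) (fun a => by simp [hRR]) (fun _ _ => rfl) hφ
    exact h1
  have hneg : ∀ {ψ : U →ₗ[F] U}, Mem K (D.E w ψ) → Mem K (D.E w (-ψ)) := fun {ψ} h => by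
    obtain ⟨k, hk, ek⟩ := h
    refine ⟨k⁻¹, K.inv_mem hk, fun v => ?_⟩
    show (k : V ≃ₗ[F] V).symm v = _
    rw [LinearEquiv.symm_apply_eq, ek, ← LinearMap.comp_apply, D.E_add hww, add_neg_cancel, D.E_zero,
      LinearMap.id_apply]
  have hR : Mem K (D.E w ((-(2 * f e (φ e))) • R)) := by
    have h1 := ((hc 1).comp (hc (-1))).comp ((hneg hφ).comp (hneg hφ))
    rw [D.E_add hww, D.E_add hww, D.E_add hww] at h1
    refine h1.of_eq fun v => ?_
    congr 2
    refine LinearMap.ext fun a => ?_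
    simp [R]
    module
  set s := -(2 * f e (φ e))
  have hs : s ≠ 0 := neg_ne_zero.2 (mul_ne_zero D.two he)
  have hsq : ∀ c : F, c ≠ 0 → Mem K (D.E w ((c * c * s) • R)) := fun c hc => by
    obtain ⟨t, -, ht⟩ := Symp.transitive_ne_zero O.fA (Symp.nondeg_top D.hf) (U := ⊤) (Submodule.mem_top (x := e))
      (Submodule.mem_top (x := c • e)) he0 (smul_ne_zero hc he0)
    have h1 := O.toOver.E_conj (A := ((t : U ≃ₗ[F] U) : U →ₗ[F] U))
      (A' := (t : U ≃ₗ[F] U).symm.toLinearMap) (B := LinearMap.id) t.2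
      (fun a => (t : U ≃ₗ[F] U).symm_apply_apply a) (fun _ _ => rfl) hR
    refine h1.of_eq fun v => ?_
    congr 2
    refine LinearMap.ext fun a => ?_
    have e1 : f e ((t : U ≃ₗ[F] U).symm a) = c * f e a := by
      have h2 := t.2 e ((t : U ≃ₗ[F] U).symm a)
      simp only [LinearEquiv.apply_symm_apply, ht, map_smul, LinearMap.smul_apply, smul_eq_mul] at h2
      exact h2.symm
    simp [R, e1, ht, smul_smul]
    ring_nf
  refine ⟨e, he0, fun c => ?_⟩
  obtain ⟨x, y, hxy⟩ := exists_two_squares D.two (-c / s)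
  have hsq' : ∀ c : F, Mem K (D.E w ((c * c * s) • R)) := fun c => by
    by_cases hc : c = 0
    · rw [hc, zero_mul, zero_mul, zero_smul, D.E_zero]; exact mem_id
    · exact hsq c hc
  have h1 := (hsq' x).comp (hsq' y)
  rw [D.E_add hww, ← add_smul, ← add_mul, ← _root_.sq, ← _root_.sq, hxy, div_mul_cancel₀ _ hs] at h1
  obtain ⟨k, hk, ek⟩ := h1
  convert hk
  ext v
  rw [ek, D.E_eq_tr, neg_neg]

/-- An isotropic vector not orthogonal to two given vectors, the first isotropic and orthogonal to the second. -/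
theorem exists_iso_pairing {w y : W} (hw : w ≠ 0) (hy : y ≠ 0) (hww : g w w = 0) (hwy : g w y = 0) :
    ∃ z, g z z = 0 ∧ g w z ≠ 0 ∧ g y z ≠ 0 := by
  have hne : ∀ {u : W}, u ≠ 0 → LinearMap.ker (g u) ≠ ⊤ := fun hu h =>
    hu (D.hg.1 _ fun x => LinearMap.mem_ker.1 (h.ge (x := x) trivial))
  obtain ⟨x, hx1, hx2, -⟩ := exists_avoid_three D.two (hne hw) (hne hy) (hne hw)
  refine ⟨x - (g x x / (2 * g w x)) • w, ?_, ?_, ?_⟩
  · simp only [map_sub, map_smul, LinearMap.sub_apply, LinearMap.smul_apply, smul_eq_mul, hww, O.form.symm w x]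
    linear_combination -(div_mul_cancel₀ (g x x) (mul_ne_zero D.two hx1))
  · rw [map_sub, map_smul, hww, smul_zero, sub_zero]; exact hx1
  · rw [map_sub, map_smul, O.form.symm w y, hwy, smul_zero, sub_zero]; exact hx2

/-- **A non-trivial central map gives the whole symplectic group.** -/
theorem eq_top_of_not_NS (h : ¬ NS D K) : K = ⊤ := by
  simp only [NS, not_forall] at h
  obtain ⟨w, φ, hw, hww, hφ, h0⟩ := h
  obtain ⟨e, he, htr⟩ := O.exists_tr hw hww hφ h0
  have hU : ∀ a, Tr D.hA K (T a w) := fun a => by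
    by_cases ha : a = 0
    · rw [ha, map_zero, LinearMap.zero_apply]; exact Tr.zero
    obtain ⟨t, -, ht⟩ := Symp.transitive_ne_zero O.fA (Symp.nondeg_top D.hf) (U := ⊤) (Submodule.mem_top (x := e))
      (Submodule.mem_top (x := a)) he ha
    obtain ⟨k, hk, ek⟩ := O.toOver.exists_mem (A := ((t : U ≃ₗ[F] U) : U →ₗ[F] U)) (B := LinearMap.id) t.2
      (fun _ _ => rfl)
    intro c
    rw [← ht, show T ((t : U ≃ₗ[F] U) e) w = (k : V ≃ₗ[F] V) (T e w) from (ek e w).symm]
    exact SympMax.tr_mem_of_conj D.hA hk htr c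
  have hstep : ∀ w₁ w₂, (∀ a, Tr D.hA K (T a w₁)) → g w₁ w₁ = 0 → g w₂ w₂ = 0 → g w₁ w₂ ≠ 0 →
      ∀ a, Tr D.hA K (T a w₂) := fun w₁ w₂ h1 e1 e2 hne a c => by
    have hn : g (w₁ - w₂) (w₁ - w₂) ≠ 0 := by
      simp only [map_sub, LinearMap.sub_apply, e1, e2, O.form.symm w₁ w₂]
      intro h0
      exact mul_ne_zero D.two hne (by linear_combination -h0)
    obtain ⟨k, hk, ek⟩ := O.toOver.exists_mem (A := LinearMap.id) (B := refl g (w₁ - w₂)) (fun _ _ => rfl)
      (O.form.refl_isometry hn)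
    rw [← O.form.refl_swap (a := w₁) (b := w₂) (by rw [e1, e2]) hn, ← LinearMap.id_apply (R := F) a, ← ek]
    exact SympMax.tr_mem_of_conj D.hA hk (h1 a) c
  have hiso : ∀ w', g w' w' = 0 → ∀ a, Tr D.hA K (T a w') := by
    intro w' hw' a
    by_cases h0 : w' = 0
    · rw [h0, map_zero]; exact Tr.zero
    by_cases hne : g w w' = 0
    · obtain ⟨z, hz, h1, h2⟩ := O.exists_iso_pairing hw h0 hww hne
      exact hstep z w' (hstep w z hU hww hz h1) hz hw' (by rwa [O.form.symm w' z]) a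
    · exact hstep w w' hU hww hw' hne a
  refine D.eq_top_of_pure fun a y => ?_
  by_cases hy : g y y = 0
  · exact hiso y hy a
  by_cases ha : a = 0
  · rw [ha, map_zero, LinearMap.zero_apply]; exact Tr.zero
  obtain ⟨z, hz, hyz⟩ : ∃ z, g z z = 0 ∧ g y z ≠ 0 := by
    by_cases h1 : g w y = 0
    · obtain ⟨z, hz, -, h2⟩ := O.exists_iso_pairing hw (fun e0 => hy (by simp [e0])) hww h1
      exact ⟨z, hz, h2⟩
    · exact ⟨w, hww, by rwa [O.form.symm w y]⟩
  set α := g y y / (2 * g y z)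
  set w₁ := α • z
  set w₂ := y - w₁
  have h2g : (2 : F) * g y z ≠ 0 := mul_ne_zero D.two hyz
  have e1 : g w₁ w₁ = 0 := by simp [w₁, hz]
  have e2 : g w₂ w₂ = 0 := by
    simp only [w₂, w₁, map_sub, map_smul, LinearMap.sub_apply, LinearMap.smul_apply, smul_eq_mul, hz,
      O.form.symm y z, α]
    linear_combination -(div_mul_cancel₀ (g y y) h2g)
  have e12 : g w₁ w₂ ≠ 0 := by
    simp only [w₂, w₁, map_sub, map_smul, LinearMap.smul_apply, LinearMap.sub_apply, smul_eq_mul, hz, mul_zero,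
      sub_zero, O.form.symm y z, α]
    exact mul_ne_zero (div_ne_zero hy h2g) hyz
  set γ := g w₁ w₂
  set P := Submodule.span F ({w₁, w₂} : Set W)
  have hP : finrank F P + 2 ≤ finrank F W := by
    classical
    have e' : ({w₁, w₂} : Set W) = (({w₁, w₂} : Finset W) : Set W) := by simp
    have h1 : finrank F P ≤ 2 := by
      show finrank F (Submodule.span F ({w₁, w₂} : Set W)) ≤ 2
      rw [e']
      exact (finrank_span_finset_le_card _).trans Finset.card_le_two
    have := O.four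
    omega
  obtain ⟨d, hd, hdP⟩ := O.form.exists_norm_perp P (fun x hx hxP => by
      obtain ⟨s, t, rfl⟩ := Submodule.mem_span_pair.1 hx
      have h1 := hxP w₁ (Submodule.subset_span (Set.mem_insert _ _))
      have h2 := hxP w₂ (Submodule.subset_span (Set.mem_insert_of_mem _ rfl))
      simp only [map_add, map_smul, smul_eq_mul, e1, e2, O.form.symm w₁ w₂, mul_zero, add_zero, zero_add,
        mul_eq_zero] at h1 h2
      rw [h1.resolve_right e12, h2.resolve_right e12, zero_smul, zero_smul, add_zero]) hP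
    (c := -(2 * γ)) (neg_ne_zero.2 (mul_ne_zero D.two e12))
  have hd1 : g w₁ d = 0 := hdP w₁ (Submodule.subset_span (Set.mem_insert _ _))
  have hd2 : g w₂ d = 0 := hdP w₂ (Submodule.subset_span (Set.mem_insert_of_mem _ rfl))
  set z₃ := w₁ + w₂ + d
  have hz3 : g z₃ z₃ = 0 := by
    simp only [z₃, map_add, LinearMap.add_apply, e1, e2, hd, hd1, hd2, O.form.symm w₁ w₂, O.form.symm w₁ d,
      O.form.symm w₂ d]
    ring
  have g13 : g w₁ z₃ = γ := by simp [z₃, e1, hd1, γ]
  have g23 : g w₂ z₃ = γ := by simp [z₃, e2, hd2, O.form.symm w₁ w₂, γ]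
  obtain ⟨b, hb⟩ : ∃ b, f a b ≠ 0 := by
    by_contra! h'
    exact ha (D.hf.1 a h')
  have t3 := hiso z₃ hz3 b
  have s1 := (hiso w₁ e1 a).add t3 (by rw [D.formT, g13]; exact mul_ne_zero hb e12)
  have s2 := s1.add (hiso w₂ e2 a) (by
    rw [map_add, LinearMap.add_apply, D.formT, D.formT, O.fA a, zero_mul, zero_add, O.fswap a b,
      O.form.symm w₂ z₃, g23]
    exact mul_ne_zero (neg_ne_zero.2 hb) e12)
  have s3 := s2.add (t3.smul (-1)) (by
    rw [map_smul, smul_eq_mul, neg_one_mul, neg_ne_zero]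
    simp only [map_add, LinearMap.add_apply, D.formT, O.fA b, g13, g23, zero_mul, add_zero, zero_add]
    rw [← two_mul]
    exact mul_ne_zero D.two (mul_ne_zero hb e12))
  convert s3 using 1
  simp [w₂]
  module

/-- The action of the reflection of a centre. -/
theorem refl_mem_apply {ρ : Sp H} {c : W} (eρ : ∀ a y, (ρ : V ≃ₗ[F] V) (T a y) = T a (refl g c y)) (v : V) :
    (ρ : V ≃ₗ[F] V) v = v + (-(2 / g c c)) • T (D.C c v) c := by
  refine LinearMap.congr_fun (D.hom_ext (L := ((ρ : V ≃ₗ[F] V) : V →ₗ[F] V))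
    (L' := LinearMap.id + (-(2 / g c c)) • (T.flip c ∘ₗ D.C c)) fun a y => ?_) v
  simp [eρ, refl_apply, D.C_T, smul_smul]
  module

/-- If the conjugate of a reflection is a product, then the line of its centre goes to a line. -/
theorem pure_of_kr {h ρ : Sp H} {c : W} (hc : g c c ≠ 0)
    (eρ : ∀ a y, (ρ : V ≃ₗ[F] V) (T a y) = T a (refl g c y)) (hkr : Kr T (h⁻¹ * ρ * h)) :
    ∃ (A : U →ₗ[F] U) (d : W), ∀ a, (h : V ≃ₗ[F] V).symm (T a c) = T (A a) d := by
  have := O.nontriv
  have hc0 : c ≠ 0 := fun e => hc (by simp [e])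
  set k := h⁻¹ * ρ * h
  set κ := 2 / g c c
  set L : U →ₗ[F] V := (h : V ≃ₗ[F] V).symm.toLinearMap ∘ₗ T.flip c
  set η : V →ₗ[F] V := (-κ) • (L ∘ₗ D.C c ∘ₗ ((h : V ≃ₗ[F] V) : V →ₗ[F] V))
  have hρ' : ∀ v, (ρ : V ≃ₗ[F] V) v = v + (-κ) • T (D.C c v) c := fun v => O.refl_mem_apply eρ v
  have hkη : ∀ v, (k : V ≃ₗ[F] V) v = v + η v := fun v => by
    show (h : V ≃ₗ[F] V).symm ((ρ : V ≃ₗ[F] V) ((h : V ≃ₗ[F] V) v)) = _
    rw [hρ', map_add, map_smul, LinearEquiv.symm_apply_apply]
    rfl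
  obtain ⟨A, hA⟩ := hkr
  choose R hR using hA
  have hη : ∀ a y, η (T a y) = T (A a) (R y) - T a y := fun a y => by rw [← hR, hkη, add_sub_cancel_left]
  have hrange : LinearMap.range η ≤ LinearMap.range L := by
    rintro _ ⟨v, rfl⟩
    exact Submodule.smul_mem _ _ ⟨D.C c ((h : V ≃ₗ[F] V) v), rfl⟩
  have hL2 := (LinearMap.finrank_range_le L).trans_eq O.dim
  obtain ⟨ν, hν⟩ : ∃ ν : F, A = ν • LinearMap.id := SympTensor.scalar_of_eigen fun a₀ => by
    by_contra hne
    push Not at hne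
    have hinj : Function.Injective (η ∘ₗ T a₀) := (injective_iff_map_eq_zero _).2 fun y hy => by
      rw [LinearMap.comp_apply, hη, sub_eq_zero] at hy
      refine D.hg.2 _ fun z' => ?_
      have h1 := congrArg (D.C z') hy
      rw [D.C_T, D.C_T] at h1
      by_contra hgz
      by_cases hgr : g z' (R y) = 0
      · rw [hgr, zero_smul] at h1
        rw [(smul_eq_zero.1 h1.symm).resolve_left hgz, map_zero] at hne
        exact hne 0 (by simp)
      · refine hne ((g z' (R y))⁻¹ * g z' y) ?_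
        rw [mul_smul, ← h1, inv_smul_smul₀ hgr]
    have h1 := LinearMap.finrank_range_of_inj hinj
    have h2 := Submodule.finrank_mono (le_trans (LinearMap.range_comp_le_range (T a₀) η) hrange)
    have := O.four
    omega
  obtain ⟨a₁, ha₁⟩ := exists_ne (0 : U)
  obtain ⟨y, hy⟩ : ∃ y, ν • R y - y ≠ 0 := by
    by_contra! hall
    have hη0 : η = 0 := D.hom_ext fun a y => by
      rw [hη, hν, LinearMap.smul_apply, LinearMap.id_apply, map_smul, LinearMap.smul_apply,
        ← map_smul, ← map_sub, hall, map_zero, LinearMap.zero_apply]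
    have h1 := LinearMap.congr_fun hη0 ((h : V ≃ₗ[F] V).symm (T a₁ c))
    simp [η, L, κ, D.C_T, hc, D.two] at h1
    exact ha₁ (D.T_eq_zero hc0 h1)
  set d := ν • R y - y
  have hmem : LinearMap.range (T.flip d) ≤ LinearMap.range L := by
    rintro _ ⟨a, rfl⟩
    refine hrange ⟨T a y, ?_⟩
    rw [hη, hν, LinearMap.smul_apply, LinearMap.id_apply, map_smul, LinearMap.smul_apply]
    simp [d]
  have heq := Submodule.eq_of_le_of_finrank_le hmem ((LinearMap.finrank_range_le L).trans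
    (LinearMap.finrank_range_of_inj (f := T.flip d) fun a b e => D.T_injective hy e).ge)
  obtain ⟨d', hd'⟩ := D.exists_partner_one hy
  refine ⟨D.C d' ∘ₗ L, d, fun a => ?_⟩
  obtain ⟨b, hb⟩ := heq.ge ⟨a, rfl⟩
  have hb' : T b d = L a := hb
  show L a = T (D.C d' (L a)) d
  rw [← hb', D.C_T, hd', one_smul]


/-- If every line of an anisotropic vector goes to a line, the element is a product. -/
theorem kr_of_lines {h : Sp H}
    (hlines : ∀ c, g c c ≠ 0 → ∃ (A : U →ₗ[F] U) (d : W), ∀ a, (h : V ≃ₗ[F] V).symm (T a c) = T (A a) d) :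
    Kr T h := by
  have := O.nontriv
  have := O.nontrivW
  by_contra hnk
  obtain ⟨c₁, hc₁⟩ := O.form.exists_aniso
  obtain ⟨A₁, d₁, h₁⟩ := hlines c₁ hc₁
  have hinj₁ : Function.Injective A₁ := fun a b e => D.T_injective (r := c₁) (fun e' => hc₁ (by simp [e']))
    ((h : V ≃ₗ[F] V).symm.injective (by rw [h₁, h₁, e]))
  have hgood : ∀ c c' (A : U →ₗ[F] U) (d : W), g c' c' ≠ 0 → Function.Injective A →
      (∀ a, (h : V ≃ₗ[F] V).symm (T a c) = T (A a) d) → g c c ≠ 0 →
      (g (c + c') (c + c') ≠ 0 ∨ g (c - c') (c - c') ≠ 0) →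
      ∃ d', ∀ a, (h : V ≃ₗ[F] V).symm (T a c') = T (A a) d' := by
    intro c c' A d hc' hAinj hA hc hsum
    obtain ⟨ε, hε, hsum⟩ : ∃ ε : F, ε ≠ 0 ∧ g (c + ε • c') (c + ε • c') ≠ 0 := by
      rcases hsum with h1 | h1
      · exact ⟨1, one_ne_zero, by rwa [one_smul]⟩
      · exact ⟨-1, neg_ne_zero.2 one_ne_zero, by rwa [neg_one_smul, ← sub_eq_add_neg]⟩
    by_cases hdep : c' ∈ Submodule.span F {c}
    · obtain ⟨t, rfl⟩ := Submodule.mem_span_singleton.1 hdep
      exact ⟨t • d, fun a => by rw [map_smul, map_smul, hA, map_smul]⟩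
    obtain ⟨A', d', hA'⟩ := hlines c' hc'
    obtain ⟨A'', d'', hA''⟩ := hlines _ hsum
    have heq : ∀ a, T (A'' a) d'' = T (A a) d + ε • T (A' a) d' := fun a => by
      rw [← hA'', ← hA, ← hA', map_add, map_smul, map_add, map_smul]
    have hd0 : d ≠ 0 := fun e0 => by
      obtain ⟨a, ha⟩ := exists_ne (0 : U)
      have h1 := hA a
      rw [e0, map_zero, LinearEquiv.map_eq_zero_iff] at h1
      exact ha (D.T_eq_zero (fun e' => hc (by simp [e'])) h1)
    have hd'0 : d' ∉ Submodule.span F {d} := fun hm => by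
      obtain ⟨t, ht⟩ := Submodule.mem_span_singleton.1 hm
      obtain ⟨a, ha⟩ := exists_ne (0 : U)
      obtain ⟨a', ha'⟩ := LinearMap.injective_iff_surjective.1 hAinj (t • A' a)
      have h1 : T a c' = T a' c := (h : V ≃ₗ[F] V).symm.injective (by
        rw [hA', hA, ha', ← ht, map_smul, map_smul, LinearMap.smul_apply])
      obtain ⟨u, hu, hu'⟩ := D.exists_sep hdep
      have h2 := congrArg (D.C u) h1
      rw [D.C_T, D.C_T, O.form.symm c' u, hu, O.form.symm c u, hu' c (Submodule.mem_span_singleton_self c),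
        one_smul, zero_smul] at h2
      exact ha h2
    obtain ⟨u', hu1, hu2⟩ := D.exists_sep hd'0
    have hu2' : g d u' = 0 := hu2 d (Submodule.mem_span_singleton_self d)
    have hdd : d ∉ Submodule.span F {d'} := fun hm => hd'0 (by
      obtain ⟨t, ht⟩ := Submodule.mem_span_singleton.1 hm
      have ht0 : t ≠ 0 := fun e0 => hd0 (by rw [← ht, e0, zero_smul])
      exact Submodule.mem_span_singleton.2 ⟨t⁻¹, by rw [← ht, inv_smul_smul₀ ht0]⟩)
    obtain ⟨u, hu3, hu4⟩ := D.exists_sep hdd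
    have hu4' : g d' u = 0 := hu4 d' (Submodule.mem_span_singleton_self d')
    have hA'e : ∀ a, ε • A' a = g u' d'' • A'' a := fun a => by
      have h2 := congrArg (D.C u') (heq a)
      rw [map_add, map_smul, D.C_T, D.C_T, D.C_T, O.form.symm d u', hu2', O.form.symm d' u', hu1, zero_smul,
        one_smul, zero_add] at h2
      exact h2.symm
    have hAe : ∀ a, A a = g u d'' • A'' a := fun a => by
      have h2 := congrArg (D.C u) (heq a)
      rw [map_add, map_smul, D.C_T, D.C_T, D.C_T, O.form.symm d' u, hu4', O.form.symm d u, hu3, zero_smul,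
        one_smul, smul_zero, add_zero] at h2
      exact h2.symm
    have hs : g u d'' ≠ 0 := fun e0 => by
      obtain ⟨a, ha⟩ := exists_ne (0 : U)
      exact ha (hAinj (by rw [hAe, hAe, e0, zero_smul, zero_smul]))
    refine ⟨(ε⁻¹ * (g u' d'' * (g u d'')⁻¹)) • d', fun a => ?_⟩
    rw [hA', map_smul, hAe, map_smul, LinearMap.smul_apply, smul_smul,
      show A' a = ε⁻¹ • ε • A' a from (inv_smul_smul₀ hε _).symm, hA'e, smul_smul, map_smul, LinearMap.smul_apply]
    congr 1
    field_simp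
  have hall : ∀ c, ∃ d, ∀ a, (h : V ≃ₗ[F] V).symm (T a c) = T (A₁ a) d := by
    intro c
    induction c using O.form.induction with
    | add x y hx hy =>
      obtain ⟨dx, hx⟩ := hx
      obtain ⟨dy, hy⟩ := hy
      exact ⟨dx + dy, fun a => by rw [map_add, map_add, hx, hy, map_add]⟩
    | smul t x hx =>
      obtain ⟨dx, hx⟩ := hx
      exact ⟨t • dx, fun a => by rw [map_smul, map_smul, hx, map_smul]⟩
    | aniso c hc =>
      by_cases hbad : g (c₁ + c) (c₁ + c) ≠ 0 ∨ g (c₁ - c) (c₁ - c) ≠ 0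
      · exact hgood c₁ c A₁ d₁ hc hinj₁ h₁ hc₁ hbad
      -- an intermediate vector
      push Not at hbad
      obtain ⟨hb1, hb2⟩ := hbad
      simp only [map_add, map_sub, LinearMap.add_apply, LinearMap.sub_apply, O.form.symm c₁ c] at hb1 hb2
      have hcc : g c₁ c = 0 :=
        (mul_eq_zero.1 (show (2 * 2 : F) * g c₁ c = 0 by linear_combination hb1 - hb2)).resolve_left
          (mul_ne_zero D.two D.two)
      have hcn : g c c = -g c₁ c₁ := by linear_combination hb1 - 2 * hcc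
      set P := Submodule.span F ({c₁, c} : Set W)
      have hP : finrank F P + 2 ≤ finrank F W := by
        classical
        have e' : ({c₁, c} : Set W) = (({c₁, c} : Finset W) : Set W) := by simp
        have h1 : finrank F P ≤ 2 := by
          show finrank F (Submodule.span F ({c₁, c} : Set W)) ≤ 2
          rw [e']
          exact (finrank_span_finset_le_card _).trans Finset.card_le_two
        have := O.four
        omega
      obtain ⟨d, hd, hdP⟩ := O.form.exists_norm_perp P (fun x hx hxP => by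
          obtain ⟨s, t, rfl⟩ := Submodule.mem_span_pair.1 hx
          have h1 := hxP c₁ (Submodule.subset_span (Set.mem_insert _ _))
          have h2 := hxP c (Submodule.subset_span (Set.mem_insert_of_mem _ rfl))
          simp only [map_add, map_smul, smul_eq_mul, hcc, O.form.symm c₁ c, mul_zero, add_zero, zero_add,
            mul_eq_zero] at h1 h2
          rw [h1.resolve_right hc₁, h2.resolve_right hc, zero_smul, zero_smul, add_zero]) hP hc
      have hd1 : g c₁ d = 0 := hdP c₁ (Submodule.subset_span (Set.mem_insert _ _))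
      have hd2 : g c d = 0 := hdP c (Submodule.subset_span (Set.mem_insert_of_mem _ rfl))
      have hc2 : g (c + d) (c + d) = 2 * g c c := by
        simp only [map_add, LinearMap.add_apply, hd2, O.form.symm c d, hd]; ring
      have hc2' : g (c + d) (c + d) ≠ 0 := by rw [hc2]; exact mul_ne_zero D.two hc
      obtain ⟨d₂, h₂⟩ := hgood c₁ (c + d) A₁ d₁ hc2' hinj₁ h₁ hc₁ (Or.inl (by
        intro h0
        simp only [map_add, LinearMap.add_apply, hcc, hd1, hd2, hd, O.form.symm c₁ c, O.form.symm c₁ d,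
          O.form.symm c d] at h0
        exact hc (by linear_combination h0 - hcn)))
      exact hgood (c + d) c A₁ d₂ hc hinj₁ h₂ hc2' (Or.inr (by
        rw [add_sub_cancel_left, hd]; exact hc))
  exact hnk (by simpa using D.kr_inv (k := h⁻¹) ⟨A₁, fun y => hall y⟩)

/-- A line fixed up to a vector and sent to a line is fixed. -/
theorem fixed_of_pure {k : Sp H} {z : W} {v : V} {A : U →ₗ[F] U} {d : W} (hzz : g z z ≠ 0) (hzv : D.C z v = 0)
    (hAd' : ∀ a, (k : V ≃ₗ[F] V) (T a z) = T (A a) d)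
    (hs : ∀ a, ∃ t : F, (k : V ≃ₗ[F] V) (T a z) = T a z + t • v) : ∀ a, (k : V ≃ₗ[F] V) (T a z) = T a z := by
  have := O.nontriv
  obtain ⟨a₁, ha₁⟩ := exists_ne (0 : U)
  choose t ht using hs
  have hA : ∀ a, g z d • A a = g z z • a := fun a => by
    have h1 := congrArg (D.C z) ((hAd' a).symm.trans (ht a))
    rwa [map_add, map_smul, D.C_T, D.C_T, hzv, smul_zero, add_zero] at h1
  have hgd : g z d ≠ 0 := fun e0 => by
    have h1 := hA a₁
    rw [e0, zero_smul] at h1
    exact ha₁ ((smul_eq_zero.1 h1.symm).resolve_left hzz)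
  set δ := (g z z / g z d) • d - z
  have hδ : ∀ a, T a δ = t a • v := fun a => by
    have h1 := (hAd' a).symm.trans (ht a)
    have h2 : A a = (g z z / g z d) • a := by
      rw [div_eq_inv_mul, mul_smul, ← hA, inv_smul_smul₀ hgd]
    rw [h2, map_smul, LinearMap.smul_apply] at h1
    simp only [δ, map_sub, map_smul]
    rw [h1, add_sub_cancel_left]
  obtain ⟨b, hb⟩ : ∃ b, f a₁ b ≠ 0 := by
    by_contra! h'
    exact ha₁ (D.hf.1 a₁ h')
  have hδ0 : δ = 0 := by
    by_contra hne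
    have h1 : T (t b • a₁ - t a₁ • b) δ = 0 := by
      simp [hδ, smul_smul, mul_comm]
    have h2 := congrArg (f a₁) (D.T_eq_zero hne h1)
    rw [map_sub, map_smul, map_smul, map_zero, O.fA a₁, smul_zero, zero_sub, neg_eq_zero, smul_eq_mul,
      mul_eq_zero] at h2
    refine hne (D.T_eq_zero' ha₁ ?_)
    rw [hδ, h2.resolve_right hb, zero_smul]
  intro a
  rw [ht, ← hδ, hδ0, map_zero, add_zero]

/-- An element moving a line out of lines: a kernel with an isotropic and an orthogonal anisotropic vector. -/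
theorem pure_of_split (hN : NS D K) {h : Sp H} (hh : h ∈ K) {c : W} (hc : g c c ≠ 0) {a₁ : U} (ha₁ : a₁ ≠ 0)
    {w z : W} (hwv : D.C w ((h : V ≃ₗ[F] V).symm (T a₁ c)) = 0) (hzv : D.C z ((h : V ≃ₗ[F] V).symm (T a₁ c)) = 0)
    (hw0 : w ≠ 0) (hww : g w w = 0) (hwz : g w z = 0) (hzz : g z z ≠ 0) :
    ∃ (A : U →ₗ[F] U) (d : W), ∀ a, (h : V ≃ₗ[F] V).symm (T a c) = T (A a) d := by
  obtain ⟨ρ, hρ, eρ⟩ := O.toOver.exists_mem (A := LinearMap.id) (B := refl g c) (fun _ _ => rfl)
    (O.form.refl_isometry hc)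
  set k := h⁻¹ * ρ * h
  have hk : k ∈ K := K.mul_mem (K.mul_mem (K.inv_mem hh) hρ) hh
  have hc0 : c ≠ 0 := fun e => hc (by simp [e])
  set κ := 2 / g c c
  set L : U →ₗ[F] V := (h : V ≃ₗ[F] V).symm.toLinearMap ∘ₗ T.flip c
  set η : V →ₗ[F] V := (-κ) • (L ∘ₗ D.C c ∘ₗ ((h : V ≃ₗ[F] V) : V →ₗ[F] V))
  have hρ' : ∀ v, (ρ : V ≃ₗ[F] V) v = v + (-κ) • T (D.C c v) c := fun v => O.refl_mem_apply eρ v
  have hkη : ∀ v, (k : V ≃ₗ[F] V) v = v + η v := fun v => by
    show (h : V ≃ₗ[F] V).symm ((ρ : V ≃ₗ[F] V) ((h : V ≃ₗ[F] V) v)) = _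
    rw [hρ', map_add, map_smul, LinearEquiv.symm_apply_apply]
    rfl
  by_cases hkr : Kr T k
  · exact O.pure_of_kr hc eρ hkr
  exfalso
  set v := (h : V ≃ₗ[F] V).symm (T a₁ c)
  set P := LinearMap.ker (D.C.flip v)
  have hwP : w ∈ P := LinearMap.mem_ker.2 hwv
  have hzP : z ∈ P := LinearMap.mem_ker.2 hzv
  have hs : ∀ y ∈ P, ∀ a, ∃ t : F, (k : V ≃ₗ[F] V) (T a y) = T a y + t • v := fun y hy a => by
    obtain ⟨t, ht⟩ := O.exists_smul ha₁ (b := D.C c ((h : V ≃ₗ[F] V) (T a y))) (by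
      rw [D.f_C, show H (T a₁ c) ((h : V ≃ₗ[F] V) (T a y)) = H v (T a y) by
        rw [← sp_map h v (T a y)]; simp [v]]
      rw [D.Hswap (T a y) v, ← D.f_C, show D.C y v = 0 from LinearMap.mem_ker.1 hy, map_zero, neg_zero])
    refine ⟨-κ * t, ?_⟩
    rw [hkη]
    simp [η, L, ht, v, smul_smul]
  have hkv : (k : V ≃ₗ[F] V) v = -v := by
    rw [hkη]
    simp [η, L, κ, v, D.C_T, smul_smul, div_mul_cancel₀ _ hc]
    module
  have hinv : ∀ y ∈ P, ∀ a, (k : V ≃ₗ[F] V).symm (T a y) = (k : V ≃ₗ[F] V) (T a y) := fun y hy a => by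
    obtain ⟨t, ht⟩ := hs y hy a
    rw [LinearEquiv.symm_apply_eq, ht, map_add, LinearEquiv.map_smul, ht, hkv]
    module
  have fixed : ∀ z ∈ P, g w z = 0 → g z z ≠ 0 → ∀ a, (k : V ≃ₗ[F] V) (T a z) = T a z := by
    intro z hzP hwz hzz
    obtain ⟨r, hr, er⟩ := O.toOver.exists_mem (A := LinearMap.id) (B := refl g z) (fun _ _ => rfl)
      (O.form.refl_isometry hzz)
    have hzv : D.C z v = 0 := LinearMap.mem_ker.1 hzP
    have hx : Kr T (k⁻¹⁻¹ * r * k⁻¹) := by
      refine O.line_kr hN (K.mul_mem (K.mul_mem (K.inv_mem (K.inv_mem hk)) hr) (K.inv_mem hk)) hw0 hww fun a => ?_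
      rw [inv_inv]
      show (k : V ≃ₗ[F] V) ((r : V ≃ₗ[F] V) ((k : V ≃ₗ[F] V).symm (T a w))) = T a w
      obtain ⟨t, ht⟩ := hs w hwP a
      have e1 : (r : V ≃ₗ[F] V) ((k : V ≃ₗ[F] V).symm (T a w)) = (k : V ≃ₗ[F] V).symm (T a w) := by
        rw [hinv w hwP, ht, map_add, LinearEquiv.map_smul, er, O.refl_mem_apply er v, hzv,
          O.form.refl_fix (by rw [O.form.symm w z]; exact hwz)]
        simp
      rw [e1, LinearEquiv.apply_symm_apply]
    obtain ⟨A, d, hAd⟩ := O.pure_of_kr hzz er hx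
    have hAd' : ∀ a, (k : V ≃ₗ[F] V) (T a z) = T (A a) d := fun a => hAd a
    exact O.fixed_of_pure hzz hzv hAd' (hs z hzP)
  refine hkr (O.line_kr hN hk hw0 hww fun a => ?_)
  have h2 := fixed (z + w) (P.add_mem hzP hwP) (by rw [map_add, hwz, hww, add_zero]) (by
    simp only [map_add, LinearMap.add_apply, hwz, hww, O.form.symm w z, add_zero]
    exact hzz) a
  rw [map_add, map_add, fixed z hzP hwz hzz a] at h2
  exact add_left_cancel h2

end Small

end CfsgLib.Geo.MixTensor
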