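import Cfsg.Agent.Lib.Geo.MixTensor.Small

/-!
# A two-dimensional symplectic factor: lines of anisotropic vectors go to lines
-/

set_option autoImplicit false
set_option linter.unusedSectionVars false
set_option maxHeartbeats 1000000

namespace CfsgLib.Geo.MixTensor

open CfsgLib.Classical CfsgLib.Classical.Symp Module
open LinearMap (BilinForm)

variable {F : Type*} [Field F] [Finite F] {U W V : Type*} [AddCommGroup U] [Module F U] [FiniteDimensional F U]
  [AddCommGroup W] [Module F W] [FiniteDimensional F W] [AddCommGroup V] [Module F V] [FiniteDimensional F V]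
  {H : BilinForm F V} {f : BilinForm F U} {g : BilinForm F W} {T : U →ₗ[F] W →ₗ[F] V}

namespace Small

variable {D : Data H f g T} {K : Subgroup (Sp H)} (O : Small D K)
include O

/-- The reflection of a centre is an involution. -/
theorem refl_sq {ρ : Sp H} {c : W} (hc : g c c ≠ 0)
    (eρ : ∀ a y, (ρ : V ≃ₗ[F] V) (T a y) = T a (refl g c y)) (x : V) :
    (ρ : V ≃ₗ[F] V) ((ρ : V ≃ₗ[F] V) x) = x := by
  rw [O.refl_mem_apply eρ x, map_add, LinearEquiv.map_smul, eρ, O.refl_mem_apply eρ x, refl_apply]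
  simp only [map_sub, map_smul, div_mul_cancel₀ _ hc]
  module

/-- Four dimensions contain a kernel large enough. -/
theorem pure_of_three (hN : NS D K) {h : Sp H} (hh : h ∈ K) {c : W} (hc : g c c ≠ 0) {a : U} (ha : a ≠ 0)
    {P : Submodule F W} (hP : ∀ y ∈ P, D.C y ((h : V ≃ₗ[F] V).symm (T a c)) = 0) (h3 : 3 ≤ finrank F P)
    (hlt : finrank F W < 2 * finrank F P) :
    ∃ (A : U →ₗ[F] U) (d : W), ∀ a, (h : V ≃ₗ[F] V).symm (T a c) = T (A a) d := by
  obtain ⟨w, hwP, hw0, hww, z, hzP, hwz, hzz⟩ := O.form.exists_iso_aniso P h3 hlt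
  exact O.pure_of_split hN hh hc ha (hP w hwP) (hP z hzP) hw0 hww hwz hzz

/-- A hyperplane orthogonal to a line. -/
theorem pure_of_single (hN : NS D K) {h : Sp H} (hh : h ∈ K) {c : W} (hc : g c c ≠ 0) {a : U} (ha : a ≠ 0)
    {b : U} {d : W} (e : (h : V ≃ₗ[F] V).symm (T a c) = T b d) :
    ∃ (A : U →ₗ[F] U) (d : W), ∀ a, (h : V ≃ₗ[F] V).symm (T a c) = T (A a) d := by
  have h1 := LinearMap.finrank_range_add_finrank_ker (g.flip d)
  have h2 := (Submodule.finrank_le (LinearMap.range (g.flip d))).trans_eq (Module.finrank_self F)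
  have := O.four
  refine O.pure_of_three hN hh hc ha (P := LinearMap.ker (g.flip d)) (fun y hy => ?_) (by omega) (by omega)
  rw [e, D.C_T, show g y d = 0 from LinearMap.mem_ker.1 hy, zero_smul]

/-- An element fixing an anisotropic vector and stabilising an orthogonal isotropic line acts there as a scalar. -/
theorem no_block (hN : NS D K) {y : Sp H} (hy : y ∈ K) {w p : W} (hw : w ≠ 0) (hww : g w w = 0) (hwp : g w p = 0)
    (hpp : g p p ≠ 0) {A : U →ₗ[F] U} (hp : ∀ a, (y : V ≃ₗ[F] V) (T a p) = T a p)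
    (hA : ∀ a, (y : V ≃ₗ[F] V) (T a w) = T (A a) w) : ∃ e : F, A = e • LinearMap.id := by
  have hAs : Function.Surjective A := LinearMap.injective_iff_surjective.1 fun a b e =>
    D.T_injective hw ((y : V ≃ₗ[F] V).injective (by rw [hA, hA, e]))
  obtain ⟨s, hs, es⟩ := O.sg_mem hww hwp
  set x := y * s * y⁻¹
  have hx : ∀ v, (x : V ≃ₗ[F] V) ((y : V ≃ₗ[F] V) v) = (y : V ≃ₗ[F] V) ((s : V ≃ₗ[F] V) v) := fun v => by
    show (y : V ≃ₗ[F] V) ((s : V ≃ₗ[F] V) ((y : V ≃ₗ[F] V).symm ((y : V ≃ₗ[F] V) v))) = _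
    rw [LinearEquiv.symm_apply_apply]
  have hxw : ∀ a, (x : V ≃ₗ[F] V) (T a w) = T a w := fun a => by
    obtain ⟨b, rfl⟩ := hAs a
    rw [← hA, hx, es, D.sg_apply]
    simp [D.C_T, hww, O.form.symm w p, hwp]
  have hxp : ∀ a, (x : V ≃ₗ[F] V) (T a p) = T a p + g p p • T (A a) w := fun a => by
    conv_lhs => rw [← hp a]
    rw [hx, es, D.sg_apply]
    simp [D.C_T, hwp, hp, hA]
  obtain ⟨A₀, hA₀⟩ := O.line_kr hN (K.mul_mem (K.mul_mem hy hs) (K.inv_mem hy)) hw hww hxw
  obtain ⟨r, hr⟩ := hA₀ p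
  obtain ⟨e, he⟩ := D.exists_partner_one hw
  refine SympTensor.scalar_of_eigen fun a => ⟨(g e r * (g p p / g p r) - g e p) / g p p, ?_⟩
  have h1 := congrArg (D.C p) ((hxp a).symm.trans (hr a))
  have h2 := congrArg (D.C e) ((hxp a).symm.trans (hr a))
  rw [map_add, map_smul, D.C_T, D.C_T, D.C_T, O.form.symm w p, hwp, zero_smul, smul_zero, add_zero] at h1
  rw [map_add, map_smul, D.C_T, D.C_T, D.C_T, he, one_smul] at h2
  by_cases hr0 : g p r = 0
  · rw [hr0, zero_smul, smul_eq_zero] at h1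
    rw [h1.resolve_left hpp, map_zero, smul_zero]
  have h3 : A₀ a = (g p p / g p r) • a := by
    rw [div_eq_inv_mul, mul_smul, h1, inv_smul_smul₀ hr0]
  rw [h3] at h2
  refine smul_right_injective U hpp ?_
  beta_reduce
  rw [smul_smul, mul_div_cancel₀ _ hpp, sub_smul]
  linear_combination (norm := module) h2

/-- The conjugate of a reflection fixes the lines contracting to zero. -/
theorem conj_fixed {h ρ : Sp H} {c : W} (eρ : ∀ a y, (ρ : V ≃ₗ[F] V) (T a y) = T a (refl g c y)) {y : W}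
    (hy : ∀ a, D.C y ((h : V ≃ₗ[F] V).symm (T a c)) = 0) (b : U) :
    ((h⁻¹ * ρ * h : Sp H) : V ≃ₗ[F] V) (T b y) = T b y := by
  show (h : V ≃ₗ[F] V).symm ((ρ : V ≃ₗ[F] V) ((h : V ≃ₗ[F] V) (T b y))) = _
  have h1 : D.C c ((h : V ≃ₗ[F] V) (T b y)) = 0 := D.fext fun a => by
    rw [D.f_C, map_zero, show H (T a c) ((h : V ≃ₗ[F] V) (T b y)) = H ((h : V ≃ₗ[F] V).symm (T a c)) (T b y) by
      rw [← sp_map h _ (T b y), LinearEquiv.apply_symm_apply], D.Hswap (T b y), ← D.f_C, hy, map_zero, neg_zero]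
  rw [O.refl_mem_apply eρ, h1, map_zero, LinearMap.zero_apply, smul_zero, add_zero, LinearEquiv.symm_apply_apply]

/-- A vector contracting a line to zero and anisotropic is fixed by the conjugate of the reflection. -/
theorem fixed_of_mem (hN : NS D K) {h ρ : Sp H} (hh : h ∈ K) (hρ : ρ ∈ K) {c : W} (hc : g c c ≠ 0)
    (eρ : ∀ a y, (ρ : V ≃ₗ[F] V) (T a y) = T a (refl g c y)) {a₁ : U} (ha₁ : a₁ ≠ 0) {z : W}
    (hz : D.C z ((h : V ≃ₗ[F] V).symm (T a₁ c)) = 0) (hzz : g z z ≠ 0) (b : U) :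
    ((h⁻¹ * ρ * h : Sp H) : V ≃ₗ[F] V) (T b z) = T b z := by
  set v := (h : V ≃ₗ[F] V).symm (T a₁ c)
  set k := h⁻¹ * ρ * h
  have hk : k ∈ K := K.mul_mem (K.mul_mem (K.inv_mem hh) hρ) hh
  have hs : ∀ a, ∃ t : F, (k : V ≃ₗ[F] V) (T a z) = T a z + t • v := fun a => by
    obtain ⟨t, ht⟩ := O.exists_smul ha₁ (b := D.C c ((h : V ≃ₗ[F] V) (T a z))) (by
      rw [D.f_C, show H (T a₁ c) ((h : V ≃ₗ[F] V) (T a z)) = H v (T a z) by
        rw [← sp_map h v (T a z)]; simp [v]]
      rw [D.Hswap (T a z) v, ← D.f_C, hz, map_zero, neg_zero])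
    refine ⟨-(2 / g c c) * t, ?_⟩
    show (h : V ≃ₗ[F] V).symm ((ρ : V ≃ₗ[F] V) ((h : V ≃ₗ[F] V) (T a z))) = _
    rw [O.refl_mem_apply eρ, ht, map_smul, LinearMap.smul_apply, map_add, LinearEquiv.map_smul, LinearEquiv.map_smul,
      LinearEquiv.symm_apply_apply, smul_smul]
  obtain ⟨b', hb'⟩ : ∃ b, f a₁ b ≠ 0 := by
    by_contra! h'
    exact ha₁ (D.hf.1 a₁ h')
  choose t ht using hs
  obtain ⟨a₀, ha₀, h₀⟩ : ∃ a₀ : U, a₀ ≠ 0 ∧ (k : V ≃ₗ[F] V) (T a₀ z) = T a₀ z := by
    by_cases hta : t a₁ = 0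
    · exact ⟨a₁, ha₁, by rw [ht, hta, zero_smul, add_zero]⟩
    refine ⟨t b' • a₁ - t a₁ • b', fun e0 => ?_, ?_⟩
    · have h1 := congrArg (f a₁) e0
      simp [O.fA a₁, hta, hb'] at h1
    · simp only [map_sub, map_smul, LinearMap.sub_apply, LinearMap.smul_apply, LinearEquiv.map_smul, ht, smul_add,
        smul_smul]
      module
  obtain ⟨A, d, hAd⟩ := O.pure_of_single hN (h := k⁻¹) (K.inv_mem hk) hzz ha₀ (b := a₀) (d := z)
    (show (k : V ≃ₗ[F] V) (T a₀ z) = _ from h₀)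
  exact O.fixed_of_pure hzz hz (fun a => hAd a) (fun a => ⟨t a, ht a⟩) b

/-- An isometry of the plane anticommuting with a map of square minus one, in characteristic three. -/
theorem exists_anticomm (h3 : (3 : F) = 0) {E : U →ₗ[F] U} (hE : ∀ a, E (E a) = -a) {a : U} (hδ : f a (E a) ≠ 0) :
    ∃ A : U →ₗ[F] U, (∀ x y, f (A x) (A y) = f x y) ∧ ∀ x, A (E x) = -E (A x) := by
  set δ := f a (E a)
  have hδ' : f (E a) a = -δ := O.fswap a (E a)
  have ha : a ≠ 0 := fun e => hδ (by simp [δ, e])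
  have dec : ∀ x, x = (f x (E a) / δ) • a + (f a x / δ) • E a := fun x => by
    set z := x - ((f x (E a) / δ) • a + (f a x / δ) • E a) with hz'
    have h1 : f a z = 0 := by simp [hz', O.fA a, show f a (E a) = δ from rfl, hδ]
    have h2 : f z (E a) = 0 := by simp [hz', O.fA (E a), show f a (E a) = δ from rfl, hδ]
    obtain ⟨t, ht⟩ := O.exists_smul ha h1
    rw [ht, map_smul, LinearMap.smul_apply, smul_eq_mul, show f a (E a) = δ from rfl, mul_eq_zero] at h2
    rw [← sub_eq_zero, ← hz', ht, h2.resolve_right hδ, zero_smul]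
  refine ⟨(δ⁻¹ • f.flip (E a)).smulRight (a + E a) + (δ⁻¹ • f a).smulRight (a - E a), fun x y => ?_, fun x => ?_⟩
  · conv_rhs => rw [dec x, dec y]
    simp only [LinearMap.add_apply, LinearMap.smulRight_apply, LinearMap.smul_apply, LinearMap.BilinForm.flip_apply,
      map_add, map_sub, map_smul, LinearMap.sub_apply, smul_eq_mul, O.fA a, O.fA (E a),
      show f a (E a) = δ from rfl, hδ']
    field_simp
    linear_combination (δ * (f a x * f y (E a) - f a y * f x (E a))) * h3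
  · have e1 : E x = (f x (E a) / δ) • E a - (f a x / δ) • a := by
      conv_lhs => rw [dec x, map_add, map_smul, map_smul, hE]
      module
    simp only [LinearMap.add_apply, LinearMap.smulRight_apply, LinearMap.smul_apply, LinearMap.BilinForm.flip_apply,
      e1, map_add, map_sub, map_smul, LinearMap.sub_apply, smul_eq_mul, O.fA a, O.fA (E a),
      show f a (E a) = δ from rfl, hδ', hE]
    match_scalars <;> field_simp <;> ring

/-- The orthogonal complement of an anisotropic plane is hyperbolic. -/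
theorem exists_hyperbolic (hW : finrank F W = 4) {P : Submodule F W} (hP : finrank F P = 2)
    (hPa : ∀ y ∈ P, g y y = 0 → y = 0) :
    ∃ w₁ w₂ : W, g w₁ w₁ = 0 ∧ g w₂ w₂ = 0 ∧ g w₁ w₂ = 1 ∧ (∀ y ∈ P, g y w₁ = 0 ∧ g y w₂ = 0) ∧
      (∀ x, (∀ y ∈ P, g y x = 0) → x = g x w₂ • w₁ + g x w₁ • w₂) ∧
      ∀ x, x - (g x w₂ • w₁ + g x w₁ • w₂) ∈ P := by
  classical
  have := Fintype.ofFinite F
  have hr : g.IsRefl := fun x y h' => by rw [O.form.symm]; exact h'
  have hPd : ∀ x ∈ P, (∀ y ∈ P, g y x = 0) → x = 0 := fun x hx h' => hPa x hx (h' x hx)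
  have hK : IsCompl P (g.orthogonal P) := (LinearMap.BilinForm.isCompl_orthogonal_iff_disjoint hr).2
    (Submodule.disjoint_def.2 fun x hx hx' => hPd x hx fun y hy => hx' y hy)
  have hQd := Submodule.finrank_add_eq_of_isCompl hK
  have hQ0 : ∀ x, (∀ y ∈ P, g y x = 0) → (∀ z, (∀ y ∈ P, g y z = 0) → g z x = 0) → x = 0 := fun x hx hx' =>
    O.form.nd.2 x fun u => by
      obtain ⟨p, q, hp, hq, rfl⟩ := Submodule.codisjoint_iff_exists_add_eq.1 hK.codisjoint u
      rw [map_add, LinearMap.add_apply, hx p hp, hx' q fun y hy => hq y hy, add_zero]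
  obtain ⟨w₁, hw₁, hw0, hww⟩ : ∃ w, (∀ y ∈ P, g y w = 0) ∧ w ≠ 0 ∧ g w w = 0 := by
    by_contra! hani
    have : Nontrivial P := Module.nontrivial_of_finrank_pos (R := F) (by omega)
    obtain ⟨p₁, hp₁⟩ := exists_ne (0 : P)
    have hg₁ : g p₁ p₁ ≠ 0 := fun e => hp₁ (Subtype.ext (hPa _ p₁.2 e))
    obtain ⟨q₁, hq₁, hq₁P⟩ := O.form.exists_norm_perp P hPd (by omega) (c := -g p₁ p₁) (neg_ne_zero.2 hg₁)
    have hperp : ∀ (u : W) (S : Submodule F W), 2 ≤ finrank F S → ∃ x ∈ S, x ≠ 0 ∧ g u x = 0 := fun u S hS => by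
      set φ := (g u).domRestrict S
      have h1 := LinearMap.finrank_range_add_finrank_ker φ
      have h2 := (Submodule.finrank_le (LinearMap.range φ)).trans_eq (Module.finrank_self F)
      obtain ⟨x, hx, hx0⟩ := Submodule.exists_mem_ne_zero_of_ne_bot (show LinearMap.ker φ ≠ ⊥ from fun e => by
        rw [e, finrank_bot] at h1; omega)
      exact ⟨x, x.2, fun e => hx0 (Subtype.ext e), LinearMap.mem_ker.1 hx⟩
    obtain ⟨p₂, hp₂, hp₂0, hp12⟩ := hperp p₁ P (by omega)
    obtain ⟨q₂, hq₂, hq₂0, hq12⟩ := hperp q₁ (g.orthogonal P) (by omega)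
    have hg₂ : g p₂ p₂ ≠ 0 := fun e => hp₂0 (hPa _ hp₂ e)
    have hq₂' : ∀ y ∈ P, g y q₂ = 0 := fun y hy => hq₂ y hy
    have hgq₂ : g q₂ q₂ ≠ 0 := hani q₂ hq₂' hq₂0
    have n1 : ¬IsSquare (-(g p₁ p₁ * g p₂ p₂)) := fun ⟨r, hr'⟩ => by
      have e := hPa _ (P.add_mem (P.smul_mem (g p₂ p₂) p₁.2) (P.smul_mem r hp₂)) (by
        simp only [map_add, map_smul, LinearMap.add_apply, LinearMap.smul_apply, smul_eq_mul, hp12, O.form.symm _ p₂]
        linear_combination -g p₂ p₂ * hr')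
      have e' := congrArg (g p₁) e
      simp [hp12] at e'
      exact e'.elim hg₂ hg₁
    have n2 : ¬IsSquare (-(g q₁ q₁ * g q₂ q₂)) := fun ⟨r, hr'⟩ => by
      refine hani (g q₂ q₂ • q₁ + r • q₂) (fun y hy => by simp [hq₁P y hy, hq₂' y hy]) (fun e => ?_) ?_
      · have e' := congrArg (g q₁) e
        simp [hq12, hq₁] at e'
        exact e'.elim hgq₂ hg₁
      · simp only [map_add, map_smul, LinearMap.add_apply, LinearMap.smul_apply, smul_eq_mul, hq12,
          O.form.symm q₁ q₂]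
        linear_combination -g q₂ q₂ * hr'
    obtain ⟨r, hr'⟩ : IsSquare (-(g p₁ p₁ * g p₂ p₂) * -(g q₁ q₁ * g q₂ q₂)) := by
      refine (quadraticChar_one_iff_isSquare ?_).1 ?_
      · rw [hq₁]; simp [hg₁, hg₂, hgq₂]
      · rw [map_mul, (quadraticChar_neg_one_iff_not_isSquare).2 n1, (quadraticChar_neg_one_iff_not_isSquare).2 n2]
        norm_num
    rw [hq₁] at hr'
    set μ := r / (g p₁ p₁ * g p₂ p₂)
    have hμ : g q₂ q₂ + μ * μ * g p₂ p₂ = 0 := by
      simp only [μ]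
      field_simp
      linear_combination -hr'
    set u₁ := (p₁ : W) + q₁
    set u₂ := μ • p₂ + q₂
    have hli : LinearIndependent F ![u₁, u₂] := LinearIndependent.pair_iff.2 fun a b e => by
      have e1 := congrArg (g p₁) e
      have e2 := congrArg (g q₂) e
      simp [u₁, u₂, hq₁P _ p₁.2, hq₂' _ p₁.2, hp12, hg₁] at e1
      simp [u₁, u₂, O.form.symm _ q₂, hq₂' _ p₁.2, hq12, hq₂' _ hp₂, hgq₂] at e2
      exact ⟨e1, e2⟩
    obtain ⟨x, hx, hxx⟩ := O.minus hW (Submodule.span F (Set.range ![u₁, u₂]))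
      (by rw [finrank_span_eq_card hli]; simp)
    rw [Matrix.range_cons, Matrix.range_cons, Matrix.range_empty, Set.union_empty, Set.singleton_union] at hx
    obtain ⟨a, b, rfl⟩ := Submodule.mem_span_pair.1 hx
    refine hxx ?_
    simp only [u₁, u₂, map_add, map_smul, LinearMap.add_apply, LinearMap.smul_apply, smul_eq_mul, hq₁, hp12, hq12,
      O.form.symm (p₁ : W) p₂, O.form.symm (p₁ : W) q₁, O.form.symm (p₁ : W) q₂, O.form.symm p₂ q₁, O.form.symm p₂ q₂,
      O.form.symm q₁ q₂, hq₁P _ p₁.2, hq₂' _ p₁.2, hq₁P _ hp₂, hq₂' _ hp₂]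
    linear_combination b * b * hμ
  obtain ⟨x, hx⟩ : ∃ x, (∀ y ∈ P, g y x = 0) ∧ g x w₁ ≠ 0 := by
    by_contra! h'
    exact hw0 (hQ0 w₁ hw₁ h')
  obtain ⟨hxP, hxw⟩ := hx
  set q := (g x w₁)⁻¹ • x
  set w₂ := q - (g q q / 2) • w₁
  have hq1 : g w₁ q = 1 := by simp [q, O.form.symm x w₁, hxw]
  have hw₂P : ∀ y ∈ P, g y w₂ = 0 := fun y hy => by simp [w₂, q, hxP y hy, hw₁ y hy]
  have h12 : g w₁ w₂ = 1 := by simp [w₂, hww, hq1]
  have h22 : g w₂ w₂ = 0 := by
    simp only [w₂, map_sub, map_smul, LinearMap.sub_apply, LinearMap.smul_apply, smul_eq_mul, hww, hq1,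
      O.form.symm w₁ q]
    have := D.two
    field_simp
    ring
  have h21 : g w₂ w₁ = 1 := by rw [O.form.symm w₁ w₂, h12]
  have hspan : g.orthogonal P = Submodule.span F (Set.range ![w₁, w₂]) := by
    have hli : LinearIndependent F ![w₁, w₂] := LinearIndependent.pair_iff.2 fun a b e => by
      have e1 := congrArg (g w₂) e
      have e2 := congrArg (g w₁) e
      simp [h22, h21] at e1
      simp [hww, h12] at e2
      exact ⟨e1, e2⟩
    refine (Submodule.eq_of_le_of_finrank_le (Submodule.span_le.2 ?_) ?_).symm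
    · rintro _ ⟨i, rfl⟩
      fin_cases i <;> intro y hy
      exacts [hw₁ y hy, hw₂P y hy]
    · rw [finrank_span_eq_card hli]; simp; omega
  rw [Matrix.range_cons, Matrix.range_cons, Matrix.range_empty, Set.union_empty, Set.singleton_union] at hspan
  have hdec : ∀ x, (∀ y ∈ P, g y x = 0) → x = g x w₂ • w₁ + g x w₁ • w₂ := fun x hx => by
    obtain ⟨a, b, rfl⟩ := Submodule.mem_span_pair.1 (hspan.le (fun y hy => hx y hy : x ∈ g.orthogonal P))
    simp [hww, h22, h12, h21]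
  refine ⟨w₁, w₂, hww, h22, h12, fun y hy => ⟨hw₁ y hy, hw₂P y hy⟩, hdec, fun x => ?_⟩
  obtain ⟨p, q', hp, hq', rfl⟩ := Submodule.codisjoint_iff_exists_add_eq.1 hK.codisjoint x
  rw [map_add, LinearMap.add_apply, LinearMap.add_apply, hw₁ p hp, hw₂P p hp, zero_add, zero_add,
    ← hdec q' fun y hy => hq' y hy, add_sub_cancel_right]
  exact hp

/-- **Lines of anisotropic vectors go to lines.** -/
theorem pure_line (hN : NS D K) {h : Sp H} (hh : h ∈ K) {c : W} (hc : g c c ≠ 0) :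
    ∃ (A : U →ₗ[F] U) (d : W), ∀ a, (h : V ≃ₗ[F] V).symm (T a c) = T (A a) d := by
  classical
  have := O.nontriv
  by_contra hnp
  obtain ⟨ρ, hρ, eρ⟩ := O.toOver.exists_mem (A := LinearMap.id) (B := refl g c) (fun _ _ => rfl)
    (O.form.refl_isometry hc)
  set k := h⁻¹ * ρ * h with hk'
  have hk : k ∈ K := K.mul_mem (K.mul_mem (K.inv_mem hh) hρ) hh
  have nkr : ¬ Kr T k := fun hkr => hnp (O.pure_of_kr hc eρ hkr)
  obtain ⟨a₁, ha₁⟩ := exists_ne (0 : U)
  set v := (h : V ≃ₗ[F] V).symm (T a₁ c)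
  set P := LinearMap.ker (D.C.flip v)
  have hdim : finrank F W ≤ finrank F P + 2 := by
    have h1 := LinearMap.finrank_range_add_finrank_ker (D.C.flip v)
    have h2 := (Submodule.finrank_le (LinearMap.range (D.C.flip v))).trans_eq O.dim
    show finrank F W ≤ finrank F (LinearMap.ker (D.C.flip v)) + 2
    omega
  have h4 := O.four
  by_cases hbig : 3 ≤ finrank F P ∧ finrank F W < 2 * finrank F P
  · exact hnp (O.pure_of_three hN hh hc ha₁ (fun y hy => LinearMap.mem_ker.1 hy) hbig.1 hbig.2)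
  have hW : finrank F W = 4 := by omega
  have hP : finrank F P = 2 := by omega
  -- the plane is fixed
  have fixA : ∀ z ∈ P, g z z ≠ 0 → ∀ b, (k : V ≃ₗ[F] V) (T b z) = T b z := fun z hz hzz =>
    O.fixed_of_mem hN hh hρ hc eρ ha₁ (LinearMap.mem_ker.1 hz) hzz
  have fix : ∀ y ∈ P, ∀ b, (k : V ≃ₗ[F] V) (T b y) = T b y := by
    intro y hy b
    by_cases hyy : g y y = 0
    swap
    · exact fixA y hy hyy b
    obtain ⟨e, he, hee⟩ := O.minus hW P hP.ge
    rcases (show g (e + y) (e + y) ≠ 0 ∨ g (e - y) (e - y) ≠ 0 by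
      by_contra! hh'
      simp only [map_add, map_sub, LinearMap.add_apply, LinearMap.sub_apply, hyy] at hh'
      exact mul_ne_zero D.two hee (by linear_combination hh'.1 + hh'.2)) with h1 | h1
    · have h2 := fixA _ (P.add_mem he hy) h1 b
      rw [map_add, map_add, fixA e he hee] at h2
      exact add_left_cancel h2
    · have h2 := fixA _ (P.sub_mem he hy) h1 b
      rw [map_sub, map_sub, fixA e he hee] at h2
      exact sub_right_inj.1 h2
  have hPa : ∀ y ∈ P, g y y = 0 → y = 0 := fun y hy hyy => by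
    by_contra hy0
    exact nkr (O.line_kr hN hk hy0 hyy (fix y hy))
  obtain ⟨w₁, w₂, h11, h22, h12, hwP, hdec, hproj⟩ := O.exists_hyperbolic hW hP hPa
  have h21 : g w₂ w₁ = 1 := by rw [O.form.symm w₁ w₂, h12]
  have hw₁0 : w₁ ≠ 0 := fun e => by simp [e] at h12
  obtain ⟨p₀, hp₀, hp₀0⟩ := Submodule.exists_mem_ne_zero_of_ne_bot (show P ≠ ⊥ from fun e => by
    rw [e, finrank_bot] at hP; omega)
  have hp₀p : g p₀ p₀ ≠ 0 := fun e => hp₀0 (hPa _ hp₀ e)
  have hw₁p : g w₁ p₀ = 0 := by rw [O.form.symm p₀ w₁]; exact (hwP p₀ hp₀).1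
  -- the four blocks
  have kk : ∀ x, (k : V ≃ₗ[F] V) ((k : V ≃ₗ[F] V) x) = x := fun x => by
    show (h : V ≃ₗ[F] V).symm ((ρ : V ≃ₗ[F] V) ((h : V ≃ₗ[F] V) ((h : V ≃ₗ[F] V).symm
      ((ρ : V ≃ₗ[F] V) ((h : V ≃ₗ[F] V) x))))) = x
    rw [LinearEquiv.apply_symm_apply, O.refl_sq hc eρ, LinearEquiv.symm_apply_apply]
  have Csep : ∀ {i : W}, (∀ y ∈ P, g y i = 0) → ∀ a, ∀ y ∈ P, D.C y ((k : V ≃ₗ[F] V) (T a i)) = 0 :=
    fun {i} hi a y hy => D.fext fun b => by
      rw [D.f_C, ← fix y hy b, sp_map k, D.formT, hi y hy, mul_zero, map_zero]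
  have vdec : ∀ x, (∀ y ∈ P, D.C y x = 0) → x = T (D.C w₂ x) w₁ + T (D.C w₁ x) w₂ := fun x hx => D.V_ext fun z => by
    have h1 := hx _ (hproj z)
    rw [map_sub, LinearMap.sub_apply, map_add, LinearMap.add_apply, map_smul, map_smul, LinearMap.smul_apply,
      LinearMap.smul_apply, sub_eq_zero] at h1
    rw [h1, map_add, D.C_T, D.C_T]
    exact add_comm _ _
  set E : U →ₗ[F] U := D.C w₂ ∘ₗ ((k : V ≃ₗ[F] V) : V →ₗ[F] V) ∘ₗ T.flip w₁
  set X : U →ₗ[F] U := D.C w₁ ∘ₗ ((k : V ≃ₗ[F] V) : V →ₗ[F] V) ∘ₗ T.flip w₁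
  set Z : U →ₗ[F] U := D.C w₂ ∘ₗ ((k : V ≃ₗ[F] V) : V →ₗ[F] V) ∘ₗ T.flip w₂
  set Y : U →ₗ[F] U := D.C w₁ ∘ₗ ((k : V ≃ₗ[F] V) : V →ₗ[F] V) ∘ₗ T.flip w₂
  have k₁ : ∀ a, (k : V ≃ₗ[F] V) (T a w₁) = T (E a) w₁ + T (X a) w₂ := fun a =>
    vdec _ (Csep (fun y hy => (hwP y hy).1) a)
  have k₂ : ∀ a, (k : V ≃ₗ[F] V) (T a w₂) = T (Z a) w₁ + T (Y a) w₂ := fun a =>
    vdec _ (Csep (fun y hy => (hwP y hy).2) a)
  have self : ∀ (i j : W) (a b : U), f b (D.C j ((k : V ≃ₗ[F] V) (T a i))) =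
      f (D.C i ((k : V ≃ₗ[F] V) (T b j))) a := fun i j a b => by
    rw [D.f_C, O.fswap a, D.f_C, ← sp_map k (T b j), kk]
    exact D.Hswap (T a i) _
  obtain ⟨s, hs⟩ := O.scalar_of_adj (N := X) (D.adj_eq fun x y => (self w₁ w₁ y x).symm)
  obtain ⟨u, hu⟩ := O.scalar_of_adj (N := Z) (D.adj_eq fun x y => (self w₂ w₂ y x).symm)
  have hY : D.adj E = Y := D.adj_eq fun x y => (self w₁ w₂ y x).symm
  have hXs : ∀ a, X a = s • a := fun a => by rw [hs]; rfl
  have hZu : ∀ a, Z a = u • a := fun a => by rw [hu]; rfl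
  have q₁ : ∀ a, E (E a) + (s * u) • a = a ∧ s • E a + s • Y a = 0 := fun a => by
    have h1 := kk (T a w₁)
    rw [k₁, map_add, k₁, k₂, hXs, hXs, hZu, map_smul Y] at h1
    constructor
    · have := congrArg (D.C w₂) h1
      simp [D.C_T, h22, h21] at this
      rw [smul_smul, mul_comm u s] at this
      exact this
    · have := congrArg (D.C w₁) h1
      simpa [D.C_T, h11, h12] using this
  have q₂ : ∀ a, u • E a + u • Y a = 0 := fun a => by
    have h1 := congrArg (D.C w₂) (kk (T a w₂))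
    rw [k₂, map_add, k₁, k₂, hXs, hZu, hZu, map_smul E] at h1
    simpa [D.C_T, h22, h21] using h1
  by_cases hs0 : s = 0
  · subst hs0
    obtain ⟨e, he⟩ := O.no_block hN hk hw₁0 h11 hw₁p hp₀p (A := E) (fix p₀ hp₀) fun a => by
      rw [k₁, hXs, zero_smul, map_zero, LinearMap.zero_apply, add_zero]
    have hEe : ∀ a, E a = e • a := fun a => by rw [he]; rfl
    have hee : e * e = 1 := by
      have h1 := (q₁ a₁).1
      rw [hEe, hEe, smul_smul, zero_mul, zero_smul, add_zero] at h1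
      exact smul_left_injective F ha₁ (h1.trans (one_smul F a₁).symm)
    rcases mul_self_eq_one_iff.1 hee with rfl | rfl
    · exact nkr (O.line_kr hN hk hw₁0 h11 fun a => by
        rw [k₁, hXs, hEe, zero_smul, one_smul, map_zero, LinearMap.zero_apply, add_zero])
    have hYe : ∀ a, Y a = (-1 : F) • a := fun a => by rw [← hY, he, D.adj_smul, D.adj_id]; rfl
    have hu0 : u = 0 := by
      have h1 := q₂ a₁
      rw [hEe, hYe, smul_smul, ← add_smul] at h1
      exact (mul_eq_zero.1 (show (2 : F) * u = 0 by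
        linear_combination -((smul_eq_zero.1 h1).resolve_right ha₁))).resolve_left D.two
    refine nkr ⟨LinearMap.id, fun x => ⟨x - (2 : F) • (g x w₂ • w₁ + g x w₁ • w₂), fun a => ?_⟩⟩
    rw [LinearMap.id_apply]
    conv_lhs => rw [← sub_add_cancel x (g x w₂ • w₁ + g x w₁ • w₂), map_add, map_add, fix _ (hproj x),
      map_add, map_smul, map_smul, map_add, LinearEquiv.map_smul, LinearEquiv.map_smul, k₁, k₂, hXs, hEe, hYe, hZu,
      hu0]
    simp only [map_sub, map_add, map_smul, LinearMap.smul_apply, zero_smul, map_zero, LinearMap.zero_apply]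
    module
  have hYE : ∀ a, Y a = -E a := fun a => eq_neg_of_add_eq_zero_right
    ((smul_eq_zero.1 (show s • (E a + Y a) = 0 by rw [smul_add]; exact (q₁ a).2)).resolve_left hs0)
  set η := 1 - s * u
  have hEE : ∀ a, E (E a) = η • a := fun a => by rw [sub_smul, one_smul, eq_sub_iff_add_eq]; exact (q₁ a).1
  have hη : ∀ e : F, e * e ≠ η := by
    intro e he
    obtain ⟨a₀, e₀, ha₀, hEa₀⟩ : ∃ (a₀ : U) (e₀ : F), a₀ ≠ 0 ∧ E a₀ = e₀ • a₀ := by
      by_cases hz : E a₁ + e • a₁ = 0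
      · exact ⟨a₁, -e, ha₁, by rw [neg_smul]; exact eq_neg_of_add_eq_zero_left hz⟩
      · exact ⟨_, e, hz, by rw [map_add, map_smul, hEE, ← he, smul_add, smul_smul, add_comm]⟩
    set y := (-(2 / g c c)) • D.C c ((h : V ≃ₗ[F] V) (T a₀ w₁))
    set d := (e₀ - 1) • w₁ + s • w₂
    have hd : d ≠ 0 := fun e1 => hs0 (by simpa [d, h11, h12] using congrArg (g w₁) e1)
    have hy : (h : V ≃ₗ[F] V).symm (T y c) = T a₀ d := by
      have h1 : (k : V ≃ₗ[F] V) (T a₀ w₁) = T a₀ w₁ + (h : V ≃ₗ[F] V).symm (T y c) := by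
        show (h : V ≃ₗ[F] V).symm ((ρ : V ≃ₗ[F] V) ((h : V ≃ₗ[F] V) (T a₀ w₁))) = _
        rw [O.refl_mem_apply eρ, map_add, LinearEquiv.symm_apply_apply]
        simp [y, LinearEquiv.map_smul]
      rw [k₁, hXs, hEa₀] at h1
      rw [← add_right_inj (T a₀ w₁), ← h1]
      simp only [d, map_add, map_smul, LinearMap.smul_apply]
      module
    exact hnp (O.pure_of_single hN hh hc (fun e1 => ha₀ (D.T_eq_zero hd (by
      rw [← hy, e1, map_zero, LinearMap.zero_apply, map_zero]))) hy)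
  have nscal : ∀ e : F, ¬ ∀ a, E a = e • a := fun e he => hη e (smul_left_injective F ha₁ (by
    show (e * e) • a₁ = η • a₁
    rw [← hEE, he, he, smul_smul]))
  by_cases hl : ∃ l : F, l ≠ 0 ∧ s + l * l * u ≠ 0
  · obtain ⟨l, hl, hα⟩ := hl
    set α := s + l * l * u
    have h2l : (2 : F) * l ≠ 0 := mul_ne_zero D.two hl
    set x := -(α * α) / (2 * l) with hx'
    have hx0 : x ≠ 0 := div_ne_zero (neg_ne_zero.2 (mul_ne_zero hα hα)) h2l
    obtain ⟨p, hpp, hpQ⟩ := O.form.exists_norm_perp (Submodule.span F ({w₁, w₂} : Set W)) (fun y hy hyo => by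
        obtain ⟨a, b, rfl⟩ := Submodule.mem_span_pair.1 hy
        have e1 := hyo w₁ (Submodule.subset_span (by simp))
        have e2 := hyo w₂ (Submodule.subset_span (by simp))
        simp [h11, h12] at e1
        simp [h22, h21] at e2
        rw [e1, e2, zero_smul, zero_smul, add_zero])
      (by
        have e' : ({w₁, w₂} : Set W) = (({w₁, w₂} : Finset W) : Set W) := by simp
        have h1 : finrank F (Submodule.span F ({w₁, w₂} : Set W)) ≤ 2 := by
          rw [e']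
          exact (finrank_span_finset_le_card _).trans Finset.card_le_two
        omega) hx0
    have hpw₁ : g w₁ p = 0 := hpQ w₁ (Submodule.subset_span (by simp))
    have hpw₂ : g w₂ p = 0 := hpQ w₂ (Submodule.subset_span (by simp))
    have hp : p ∈ P := by
      have := hproj p
      rwa [O.form.symm w₂ p, hpw₂, O.form.symm w₁ p, hpw₁, zero_smul, zero_smul, add_zero, sub_zero] at this
    set c' := p + (w₁ + l • w₂)
    have hc' : g c' c' ≠ 0 := by
      intro e0
      simp only [c', map_add, map_smul, LinearMap.add_apply, LinearMap.smul_apply, smul_eq_mul, hpp, hpw₁, hpw₂,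
        O.form.symm w₁ p, O.form.symm w₂ p, h11, h22, h12, h21] at e0
      have hx2 : x * (2 * l) = -(α * α) := by rw [hx', div_mul_cancel₀ _ h2l]
      have e1 : (α - 2 * l) * (α + 2 * l) = 0 := by linear_combination -(2 * l) * e0 + hx2
      rcases mul_eq_zero.1 e1 with e2 | e2
      · exact hη (u * l - 1) (by simp only [η, α] at e2 ⊢; linear_combination u * e2)
      · exact hη (u * l + 1) (by simp only [η, α] at e2 ⊢; linear_combination u * e2)
    obtain ⟨ρ', hρ', eρ'⟩ := O.toOver.exists_mem (A := LinearMap.id) (B := refl g c') (fun _ _ => rfl)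
      (O.form.refl_isometry hc')
    have hkc : ∀ a, (k : V ≃ₗ[F] V) (T a c') =
        T a p + T (E a + (l * u) • a) w₁ + T (s • a + (-l) • E a) w₂ := fun a => by
      simp only [c', map_add, map_smul, LinearEquiv.map_smul, fix p hp, k₁, k₂, hXs, hZu, hYE, map_neg,
        LinearMap.add_apply, LinearMap.smul_apply, LinearMap.neg_apply]
      module
    set y := (-α / x) • p + (w₁ + l • w₂)
    have hyy : g y y = 0 := by
      simp only [y, map_add, map_smul, LinearMap.add_apply, LinearMap.smul_apply, smul_eq_mul, hpp, hpw₁, hpw₂,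
        O.form.symm w₁ p, O.form.symm w₂ p, h11, h22, h12, h21]
      field_simp
      rw [hx']
      field_simp
      ring_nf
      simp [mul_assoc, inv_mul_cancel₀ D.two]
    have hy0 : y ≠ 0 := fun e0 => by
      have := congrArg (g w₂) e0
      simp [y, hpw₂, h21, h22] at this
    have hyC : ∀ a, D.C y ((k⁻¹ : Sp H).1.symm (T a c')) = 0 := fun a => by
      show D.C y ((k : V ≃ₗ[F] V) (T a c')) = 0
      rw [hkc]
      have := D.two
      simp only [map_add, LinearMap.add_apply, D.C_T, y, map_smul, LinearMap.smul_apply, smul_eq_mul, hpp, hpw₁,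
        hpw₂, O.form.symm w₁ p, O.form.symm w₂ p, h11, h22, h12, h21, α]
      match_scalars <;> field_simp <;> ring_nf <;> simp [mul_assoc, inv_mul_cancel₀ D.two]
    have hk₂ := K.mul_mem (K.mul_mem (K.inv_mem (K.inv_mem hk)) hρ') (K.inv_mem hk)
    obtain ⟨A', d, hAd⟩ := O.pure_of_kr hc' eρ' (O.line_kr hN hk₂ hy0 hyy (O.conj_fixed eρ' hyC))
    have hAd' : ∀ a, (k : V ≃ₗ[F] V) (T a c') = T (A' a) d := fun a => hAd a
    have hpd : ∀ a, x • a = g p d • A' a := fun a => by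
      have h1 := congrArg (D.C p) ((hkc a).symm.trans (hAd' a))
      simpa [D.C_T, hpp, O.form.symm w₁ p, O.form.symm w₂ p, hpw₁, hpw₂] using h1
    have hgpd : g p d ≠ 0 := fun e0 => by
      have h1 := hpd a₁
      rw [e0, zero_smul, smul_eq_zero] at h1
      exact h1.elim hx0 ha₁
    refine nscal ((g w₁ d * (x / g p d) - s) / -l) fun a => ?_
    have h1 := congrArg (D.C w₁) ((hkc a).symm.trans (hAd' a))
    simp [D.C_T, hpw₁, h11, h12] at h1
    rw [show A' a = (x / g p d) • a by rw [div_eq_inv_mul, mul_smul, hpd, inv_smul_smul₀ hgpd]] at h1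
    refine smul_right_injective U (neg_ne_zero.2 hl) ?_
    beta_reduce
    rw [smul_smul, mul_div_cancel₀ _ (neg_ne_zero.2 hl), sub_smul]
    linear_combination (norm := module) h1
  push Not at hl
  have hus : u = -s := by linear_combination hl 1 one_ne_zero
  have hsq : ∀ l : F, l ≠ 0 → l * l = 1 := fun l h0 => mul_right_cancel₀ hs0 (show l * l * s = 1 * s by
    linear_combination -hl l h0 + l * l * hus)
  have h3 : (3 : F) = 0 := by linear_combination hsq 2 D.two
  have hη1 : η = -1 := by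
    simp only [η]
    linear_combination hsq s hs0 + h3 - s * hus
  have hE1 : ∀ a, E (E a) = -a := fun a => by rw [hEE, hη1, neg_one_smul]
  have hδ : f a₁ (E a₁) ≠ 0 := fun e0 => by
    obtain ⟨t, ht⟩ := O.exists_smul ha₁ e0
    refine hη t (smul_left_injective F ha₁ ?_)
    show (t * t) • a₁ = η • a₁
    rw [← hEE, ht, map_smul, ht, smul_smul]
  obtain ⟨A, hA, hAE⟩ := O.exists_anticomm h3 hE1 hδ
  obtain ⟨m, hm, em⟩ := O.toOver.exists_mem (A := A) (B := LinearMap.id) hA (fun _ _ => rfl)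
  have hw : g (w₁ - w₂) (w₁ - w₂) ≠ 0 := by
    simp only [map_sub, LinearMap.sub_apply, h11, h22, h12, h21]
    intro e0
    exact D.two (by linear_combination -e0)
  obtain ⟨r, hr, er⟩ := O.toOver.exists_mem (A := LinearMap.id) (B := refl g (w₁ - w₂)) (fun _ _ => rfl)
    (O.form.refl_isometry hw)
  have hAs : Function.Surjective A := LinearMap.injective_iff_surjective.1 fun a b e =>
    sub_eq_zero.1 (D.hf.1 _ fun z => by rw [map_sub, LinearMap.sub_apply, ← hA a, ← hA b, e, sub_self])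
  set y := r * (k * (m * k * m⁻¹)) with hy'
  have hyK : y ∈ K := K.mul_mem hr (K.mul_mem hk (K.mul_mem (K.mul_mem hm hk) (K.inv_mem hm)))
  have happ : ∀ b i, (y : V ≃ₗ[F] V) (T (A b) i) =
      (r : V ≃ₗ[F] V) ((k : V ≃ₗ[F] V) ((m : V ≃ₗ[F] V) ((k : V ≃ₗ[F] V) (T b i)))) := fun b i => by
    show (r : V ≃ₗ[F] V) ((k : V ≃ₗ[F] V) ((m : V ≃ₗ[F] V) ((k : V ≃ₗ[F] V) ((m : V ≃ₗ[F] V).symm (T (A b) i))))) = _
    rw [show (m : V ≃ₗ[F] V).symm (T (A b) i) = T b i by
      rw [LinearEquiv.symm_apply_eq, em, LinearMap.id_apply]]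
  obtain ⟨e, he⟩ := O.no_block hN hyK hw₁0 h11 hw₁p hp₀p (A := s • E) (fun a => by
      obtain ⟨b, rfl⟩ := hAs a
      rw [happ, fix p₀ hp₀, em, LinearMap.id_apply, fix p₀ hp₀, er, LinearMap.id_apply,
        O.form.refl_fix (by simp [hw₁p, show g w₂ p₀ = 0 by rw [O.form.symm p₀ w₂]; exact (hwP p₀ hp₀).2])])
    (fun a => by
      obtain ⟨b, rfl⟩ := hAs a
      rw [happ, k₁, hXs, map_add, em, em, LinearMap.id_apply, LinearMap.id_apply, map_smul A, hAE, map_add, k₁, k₂,
        hXs, hZu, hYE, map_add, map_add, map_add, er, er, er, er, LinearMap.id_apply, LinearMap.id_apply,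
        LinearMap.id_apply, LinearMap.id_apply, LinearMap.smul_apply, O.form.refl_swap (h11.trans h22.symm) hw,
        show refl g (w₁ - w₂) w₂ = w₁ from (by
          rw [refl_apply]
          simp only [map_sub, LinearMap.sub_apply, h11, h22, h12, h21]
          have := D.two
          have : (-2 : F) ≠ 0 := neg_ne_zero.2 D.two
          match_scalars <;> ring_nf <;> simp [mul_assoc, inv_neg, inv_mul_cancel₀ D.two])]
      have hsu : s * u = -1 := by
        linear_combination s * hus - hsq s hs0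
      simp only [map_neg, map_smul, hE1, smul_neg, neg_neg, LinearMap.neg_apply, LinearMap.smul_apply]
      match_scalars
      · linear_combination hsu
      · linear_combination -s * h3)
  refine nscal (e / s) fun a => ?_
  have h1 : s • E a = e • a := LinearMap.congr_fun he a
  rw [div_eq_inv_mul, mul_smul, ← h1, inv_smul_smul₀ hs0]

/-- **Without non-trivial central maps everything is a product.** -/
theorem kr_of_NS (hN : NS D K) {h : Sp H} (hh : h ∈ K) : Kr T h :=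
  O.kr_of_lines fun _ hc => O.pure_line hN hh hc

end Small

end CfsgLib.Geo.MixTensor
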