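/-
The stabiliser of the tensor product of a symplectic and an orthogonal space is maximal in the symplectic group.
-/
import Cfsg.Agent.Lib.Geo.MixTensor.Search
import Cfsg.Agent.Lib.Geo.MixTensor.Small
import Cfsg.Agent.Lib.Geo.MixTensor.SmallFour
import Cfsg.Agent.Lib.Geo.OrthTensorThree
import Cfsg.Agent.Lib.Classical.Symplectic.MatrixTransvection

set_option autoImplicit false
set_option linter.unusedSectionVars false

namespace CfsgLib.Geo.MixTensor

open CfsgLib.Classical CfsgLib.Classical.Symp Module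
open LinearMap (BilinForm)
open CfsgLib.Geo.OrthMax (pureTensor)
open scoped Kronecker
open Matrix

section Abstract

variable {F : Type*} [Field F] {U W V : Type*} [AddCommGroup U] [Module F U] [FiniteDimensional F U]
  [AddCommGroup W] [Module F W] [FiniteDimensional F W] [AddCommGroup V] [Module F V] [FiniteDimensional F V]
  {H : BilinForm F V} {f : BilinForm F U} {g : BilinForm F W} {T : U →ₗ[F] W →ₗ[F] V}

/-- A product is given by two linear maps. -/
theorem Data.kr_factor (D : Data H f g T) [Nontrivial U] [Nontrivial W] {k : Sp H} (h : Kr T k) :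
    ∃ (A : U →ₗ[F] U) (B : W →ₗ[F] W), ∀ a y, (k : V ≃ₗ[F] V) (T a y) = T (A a) (B y) := by
  obtain ⟨A, hA⟩ := h
  choose R hR using hA
  obtain ⟨a₀, ha₀⟩ := exists_ne (0 : U)
  obtain ⟨w, hw⟩ := exists_ne (0 : W)
  have hA0 : A a₀ ≠ 0 := fun e => ha₀ (D.T_eq_zero hw ((k : V ≃ₗ[F] V).injective (by
    rw [hR, e, map_zero, LinearMap.zero_apply, map_zero])))
  have key : ∀ p q, T (A a₀) p = T (A a₀) q → p = q := fun p q h =>
    sub_eq_zero.1 (D.T_eq_zero' hA0 (by rw [map_sub, h, sub_self]))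
  exact ⟨A,
    { toFun := R
      map_add' := fun p q => key _ _ (by rw [← hR, map_add, map_add, hR, hR, map_add])
      map_smul' := fun s p => key _ _ (by rw [← hR, map_smul, map_smul, hR, map_smul, RingHom.id_apply]) },
    fun a y => hR y a⟩

/-- A transvection which is not a product. -/
theorem Data.exists_not_product (D : Data H f g T) (hU : 2 ≤ finrank F U) (hW : 2 ≤ finrank F W) :
    ∃ k : Sp H, ¬ ∃ (A : U →ₗ[F] U) (B : W →ₗ[F] W), ∀ a y, (k : V ≃ₗ[F] V) (T a y) = T (A a) (B y) := by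
  have hne : ∀ {S : Submodule F U}, finrank F S ≤ 1 → S ≠ ⊤ := fun h e => by
    rw [e, finrank_top] at h; omega
  have : Nontrivial U := Module.nontrivial_of_finrank_pos (R := F) (by omega)
  have : Nontrivial W := Module.nontrivial_of_finrank_pos (R := F) (by omega)
  obtain ⟨a, ha⟩ := exists_ne (0 : U)
  obtain ⟨r, hr⟩ := exists_ne (0 : W)
  obtain ⟨x, hx1, hx2, -⟩ := exists_avoid_three D.two (A := LinearMap.ker (f.flip a)) (B := Submodule.span F {a})
    (C := Submodule.span F {a}) (fun e => ha (D.hf.2 a fun x => LinearMap.mem_ker.1 (e.ge (x := x) trivial)))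
    (hne (finrank_span_singleton ha).le) (hne (finrank_span_singleton ha).le)
  have hnW : Submodule.span F ({r} : Set W) ≠ ⊤ := fun e => by
    have h1 := finrank_span_singleton (K := F) hr
    rw [e, finrank_top] at h1
    omega
  obtain ⟨y, hy1, hy2, -⟩ := exists_avoid_three D.two (A := LinearMap.ker (g.flip r)) (B := Submodule.span F {r})
    (C := Submodule.span F {r}) (fun e => hr (D.hg.2 r fun x => LinearMap.mem_ker.1 (e.ge (x := x) trivial)))
    hnW hnW
  refine ⟨tr D.hA (T a r) 1, fun ⟨A, B, hAB⟩ => ?_⟩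
  have h1 := hAB x y
  rw [tr_apply, D.formT, one_mul] at h1
  have hγ : f x a * g y r ≠ 0 := mul_ne_zero hx1 hy1
  obtain ⟨z₁, hz₁, hz₁'⟩ := D.exists_sep hy2
  have hr2 : r ∉ Submodule.span F {y} := fun hm => hy2 (by
    obtain ⟨t, ht⟩ := Submodule.mem_span_singleton.1 hm
    have ht0 : t ≠ 0 := fun e => hr (by rw [← ht, e, zero_smul])
    exact Submodule.mem_span_singleton.2 ⟨t⁻¹, by rw [← ht, inv_smul_smul₀ ht0]⟩)
  obtain ⟨z₂, hz₂, hz₂'⟩ := D.exists_sep hr2
  -- contract from the right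
  have hC : ∀ z, g y z • x + (f x a * g y r * g r z) • a = g (B y) z • A x := fun z => by
    obtain ⟨φ, hφ⟩ : ∃ L : V →ₗ[F] U, ∀ b s, L (T b s) = g s z • b := by
      obtain ⟨u, hu⟩ := D.exists_left_dual (g.flip z)
      exact ⟨D.C u, fun b s => by rw [D.C_T, hu]; rfl⟩
    have h2 := congrArg φ h1
    rwa [map_add, map_smul, hφ, hφ, hφ, smul_smul] at h2
  have e1 := hC z₁
  rw [hz₁, hz₁' r (Submodule.mem_span_singleton_self r), mul_zero, zero_smul, add_zero, one_smul] at e1
  have e2 := hC z₂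
  rw [hz₂, hz₂' y (Submodule.mem_span_singleton_self y), zero_smul, zero_add, mul_one] at e2
  have hs : g (B y) z₂ ≠ 0 := fun e0 => by
    rw [e0, zero_smul, smul_eq_zero] at e2
    exact e2.elim hγ ha
  refine hx2 (Submodule.mem_span_singleton.2 ⟨g (B y) z₁ * (g (B y) z₂)⁻¹ * (f x a * g y r), ?_⟩)
  rw [mul_smul, e2, mul_smul, inv_smul_smul₀ hs, ← e1]

end Abstract

variable {F : Type*} [Field F] [Fintype F]

/-- A symplectic factor of dimension two needs an orthogonal factor of dimension three, at least five, or four and of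
minus type. -/
theorem maximal_of_type {m : ℕ} (hm0 : 1 ≤ m) (hodd : Odd (Fintype.card F)) {n₁ n₂ : ℕ} (hn₂ : 3 ≤ n₂)
    {f₁ : (Fin n₁ → F) → (Fin n₁ → F) → F} {f₂ : (Fin n₂ → F) → (Fin n₂ → F) → F}
    (hm : n₁ = 2 → n₂ = 3 ∨ 5 ≤ n₂ ∨ (n₂ = 4 ∧ ¬ Cfsg.Geo.IsPlusTypeOn (fun v => f₂ v v) ⊤))
    (hex : ¬ (Fintype.card F = 3 ∧ n₂ = 3)) (e : (Fin m ⊕ Fin m) ≃ Fin n₁ × Fin n₂)
    (P : Matrix.GeneralLinearGroup (Fin m ⊕ Fin m) F)
    (hf₁ : Cfsg.Geo.IsSymplecticForm f₁) (hf₂ : Cfsg.Geo.IsSymmetricForm f₂)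
    (hT : Cfsg.Geo.IsTensorFormStructure id (Cfsg.sympForm m F) f₁ f₂ e P) :
    Cfsg.Geo.IsMaximalIn (Cfsg.spGL m F) (Cfsg.Geo.tensorProductSubgroup n₁ n₂ e P ⊓ Cfsg.spGL m F) := by
  classical
  obtain ⟨c, hc, hT⟩ := hT
  have h2 : (2 : F) ≠ 0 := fun h => by
    have hr : ringChar F = 2 := by
      have := CharTwo.of_one_ne_zero_of_two_eq_zero (one_ne_zero : (1 : F) ≠ 0) h
      exact ringChar.eq F 2
    have := FiniteField.even_card_of_char_two hr
    rw [Nat.odd_iff] at hodd
    omega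
  have hcard : m + m = n₁ * n₂ := by simpa using Fintype.card_congr e
  let ι := Fin m ⊕ Fin m
  let H : BilinForm F (ι → F) := Symp.sympBil m F
  let b₁ : BilinForm F (Fin n₁ → F) := LinearMap.mk₂ F f₁ hf₁.bilinear.add_left hf₁.bilinear.smul_left
    hf₁.bilinear.add_right hf₁.bilinear.smul_right
  let b₂ : BilinForm F (Fin n₂ → F) := LinearMap.mk₂ F f₂ hf₂.bilinear.add_left hf₂.bilinear.smul_left
    hf₂.bilinear.add_right hf₂.bilinear.smul_right
  let T : (Fin n₁ → F) →ₗ[F] (Fin n₂ → F) →ₗ[F] (ι → F) := LinearMap.mk₂ F (pureTensor e P)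
    (fun x x' y => by simp only [OrthMax.pureTensor, ← Matrix.mulVec_add]; congr 1; funext i; simp [add_mul])
    (fun s x y => by rw [OrthMax.pureTensor_smul_left, OrthMax.pureTensor_smul_right])
    (fun x y y' => OrthMax.pureTensor_add_right e P x y y')
    (fun s x y => OrthMax.pureTensor_smul_right e P s x y)
  have hb₁ : b₁.Nondegenerate := by
    constructor <;> intro x hx <;> by_contra h0
    · obtain ⟨y, hy⟩ := (hf₁.nondegenerate x h0).2
      exact hy (hx y)
    · obtain ⟨y, hy⟩ := (hf₁.nondegenerate x h0).1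
      exact hy (hx y)
  have hb₂ : b₂.Nondegenerate := by
    constructor <;> intro x hx <;> by_contra h0
    · obtain ⟨y, hy⟩ := (hf₂.nondegenerate x h0).2
      exact hy (hx y)
    · obtain ⟨y, hy⟩ := (hf₂.nondegenerate x h0).1
      exact hy (hx y)
  have hsc : ∀ {n : ℕ} {b : BilinForm F (Fin n → F)}, b.Nondegenerate → (c • b).Nondegenerate := fun {n b} hb =>
    ⟨fun x hx => hb.1 x fun y => (mul_eq_zero.1 (hx y)).resolve_left hc,
      fun x hx => hb.2 x fun y => (mul_eq_zero.1 (hx y)).resolve_left hc⟩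
  have hA₁ : b₁.IsAlt := hf₁.alternating
  have hH : H.Nondegenerate := Symp.sympBil_nondegenerate m F
  have hHA : H.IsAlt := Symp.sympBil_isAlt m F
  obtain ⟨m₁, -, -, hm₁⟩ := Symp.exists_sympSys hA₁ hb₁
  rw [Module.finrank_fin_fun] at hm₁
  have hn₁ : 2 ≤ n₁ := by
    rcases Nat.eq_zero_or_pos n₁ with h | h
    · subst h; simp at hcard; omega
    · omega
  have hspan : Submodule.span F (Set.range fun p : (Fin n₁ → F) × (Fin n₂ → F) => T p.1 p.2) = ⊤ := by
    refine eq_top_iff.2 fun v _ => ?_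
    set u := (((P⁻¹ : Matrix.GeneralLinearGroup ι F) : Matrix ι ι F) *ᵥ v)
    have ev : v = ∑ q : Fin n₁ × Fin n₂, u (e.symm q) • T (Pi.single q.1 1) (Pi.single q.2 1) := by
      rw [← Matrix.one_mulVec v, ← Units.val_one, ← mul_inv_cancel P, Units.val_mul, ← Matrix.mulVec_mulVec]
      simp only [T, LinearMap.mk₂_apply, OrthMax.pureTensor, ← Matrix.mulVec_smul, ← Matrix.mulVec_sum]
      congr 1
      funext i
      rw [Finset.sum_apply, Finset.sum_eq_single (e i)]
      · simp [u]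
      · intro q _ hq
        rcases not_and_or.1 (fun h : q.1 = (e i).1 ∧ q.2 = (e i).2 => hq (Prod.ext h.1 h.2)) with h | h <;>
          simp [Ne.symm h]
      · simp
    rw [ev]
    exact Submodule.sum_mem _ fun q _ => Submodule.smul_mem _ _ (Submodule.subset_span ⟨(_, _), rfl⟩)
  have hform : ∀ a b y z, H (T a y) (T b z) = c * (f₁ a b * f₂ y z) := fun a b y z => by
    rw [← OrthMax.polar_pureTensor e P hf₁.bilinear hf₂.bilinear hT]
    exact Symp.sympBil_apply m F _ _
  have D : Data H (c • b₁) b₂ T :=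
    { hH := hH
      hA := hHA
      hf := hsc hb₁
      hg := hb₂
      two := h2
      fswap := Or.inr fun a b => by
        show c * f₁ b a = -(c * f₁ a b)
        rw [hf₁.skew b a]; ring
      formT := fun a b y z => by
        rw [hform]
        show _ = c * f₁ a b * f₂ y z
        ring
      span := hspan }
  let e' : Cfsg.spGL m F ≃* Sp H :=
    (preservingEquivIso (Cfsg.sympForm m F)).trans (MulEquiv.subgroupCongr (Symp.iso_sympForm_eq m F))
  have hact : ∀ (k : Sp H) v, (((e'.symm k : Cfsg.spGL m F) :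
      Matrix.GeneralLinearGroup ι F) : Matrix ι ι F) *ᵥ v = (k : (ι → F) ≃ₗ[F] (ι → F)) v := fun k v => by
    conv_rhs => rw [← e'.apply_symm_apply k]
    rfl
  have htoT : ∀ (k : Sp H) (A : (Fin n₁ → F) →ₗ[F] (Fin n₁ → F)) (B : (Fin n₂ → F) →ₗ[F] (Fin n₂ → F)),
      (∀ x y, (k : (ι → F) ≃ₗ[F] (ι → F)) (T x y) = T (A x) (B y)) →
      ((e'.symm k : Cfsg.spGL m F) : Matrix.GeneralLinearGroup ι F) ∈
        Cfsg.Geo.tensorProductSubgroup n₁ n₂ e P := by
    intro k A B hk
    have hu₁ : IsUnit A.toMatrix' := by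
      refine Matrix.mulVec_injective_iff_isUnit.1 fun a b hab => ?_
      rw [LinearMap.toMatrix'_mulVec, LinearMap.toMatrix'_mulVec] at hab
      let y₀ : Fin n₂ → F := Pi.single ⟨0, by omega⟩ 1
      have hy : y₀ ≠ 0 := fun h => one_ne_zero (α := F) (by simpa [y₀] using congrFun h ⟨0, by omega⟩)
      exact D.T_injective hy ((k : (ι → F) ≃ₗ[F] (ι → F)).injective (by rw [hk, hk, hab]))
    have hu₂ : IsUnit B.toMatrix' := by
      refine Matrix.mulVec_injective_iff_isUnit.1 fun a b hab => ?_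
      rw [LinearMap.toMatrix'_mulVec, LinearMap.toMatrix'_mulVec] at hab
      let x₀ : Fin n₁ → F := Pi.single ⟨0, by omega⟩ 1
      have hx : x₀ ≠ 0 := fun h => one_ne_zero (α := F) (by simpa [x₀] using congrFun h ⟨0, by omega⟩)
      by_contra hne
      refine hx (D.T_eq_zero (sub_ne_zero.2 hne) ((k : (ι → F) ≃ₗ[F] (ι → F)).injective ?_))
      rw [hk, map_sub, hab, sub_self, map_zero, map_zero]
    obtain ⟨a, ha⟩ := hu₁
    obtain ⟨b, hb⟩ := hu₂
    let K₀ : Matrix.GeneralLinearGroup (Fin n₁ × Fin n₂) F :=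
      Matrix.GeneralLinearGroup.mkOfDetNeZero
        ((a : Matrix (Fin n₁) (Fin n₁) F) ⊗ₖ (b : Matrix (Fin n₂) (Fin n₂) F)) (by
          rw [Matrix.det_kronecker]
          exact mul_ne_zero (pow_ne_zero _ (Matrix.GeneralLinearGroup.det_ne_zero a))
            (pow_ne_zero _ (Matrix.GeneralLinearGroup.det_ne_zero b)))
    have hK₀ : K₀ ∈ Cfsg.Geo.kroneckerSubgroup n₁ n₂ F := ⟨a, b, rfl⟩
    have hmem : MulAut.conj P (Cfsg.Geo.glReindex e.symm K₀) ∈ Cfsg.Geo.tensorProductSubgroup n₁ n₂ e P :=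
      ⟨_, ⟨K₀, hK₀, rfl⟩, rfl⟩
    have hKpure : ∀ x y, (MulAut.conj P (Cfsg.Geo.glReindex e.symm K₀) : Matrix.GeneralLinearGroup ι F).1 *ᵥ
        pureTensor e P x y = pureTensor e P ((a : Matrix (Fin n₁) (Fin n₁) F) *ᵥ x)
          ((b : Matrix (Fin n₂) (Fin n₂) F) *ᵥ y) := by
      intro x y
      show ((P * Cfsg.Geo.glReindex e.symm K₀ * P⁻¹ : Matrix.GeneralLinearGroup ι F) : Matrix ι ι F) *ᵥ _ = _
      rw [OrthMax.pureTensor, OrthMax.pureTensor, Units.val_mul, Matrix.mulVec_mulVec, Matrix.mul_assoc, Units.inv_mul,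
        Matrix.mul_one, Units.val_mul, ← Matrix.mulVec_mulVec]
      congr 1
      show Matrix.reindex e.symm e.symm
        ((a : Matrix (Fin n₁) (Fin n₁) F) ⊗ₖ (b : Matrix (Fin n₂) (Fin n₂) F)) *ᵥ _ = _
      funext i
      simp only [Matrix.mulVec, dotProduct, Matrix.reindex_apply, Matrix.submatrix_apply, Equiv.symm_symm,
        Function.comp_apply]
      rw [e.sum_comp (fun q => ((a : Matrix (Fin n₁) (Fin n₁) F) ⊗ₖ (b : Matrix (Fin n₂) (Fin n₂) F))
        (e i) q * (x q.1 * y q.2)), Fintype.sum_prod_type, Finset.sum_mul_sum]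
      refine Finset.sum_congr rfl fun p _ => Finset.sum_congr rfl fun q _ => ?_
      rw [Matrix.kroneckerMap_apply]
      ring
    convert hmem
    refine Units.ext (Matrix.toLin'.injective (LinearMap.ext_on hspan ?_))
    rintro _ ⟨⟨x, y⟩, rfl⟩
    rw [Matrix.toLin'_apply, Matrix.toLin'_apply, hact, hk]
    show pureTensor e P (A x) (B y) = _ *ᵥ pureTensor e P x y
    rw [hKpure, ha, hb, LinearMap.toMatrix'_mulVec, LinearMap.toMatrix'_mulVec]
  refine ⟨lt_of_le_of_ne inf_le_right fun he => ?_, fun M hHM hMS => ?_⟩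
  · obtain ⟨k, hk⟩ := D.exists_not_product (by rwa [Module.finrank_fin_fun])
      (by rw [Module.finrank_fin_fun]; omega)
    have hg := (e'.symm k).2
    conv at hg => arg 1; rw [← he]
    obtain ⟨A, B, hAB⟩ := OrthMax.exists_of_mem_tensor e P hg.1
    refine hk ⟨Matrix.toLin' (A : Matrix (Fin n₁) (Fin n₁) F), Matrix.toLin' (B : Matrix (Fin n₂) (Fin n₂) F),
      fun x y => ?_⟩
    rw [← hact]
    exact hAB x y
  set K := (M.subgroupOf (Cfsg.spGL m F)).map e'.toMonoidHom
  have hmK : ∀ g : Cfsg.spGL m F, e' g ∈ K ↔ (g : Matrix.GeneralLinearGroup ι F) ∈ M := fun g => by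
    rw [Subgroup.mem_map_equiv, MulEquiv.symm_apply_apply, Subgroup.mem_subgroupOf]
  have hbase : ∀ (k : Sp H) (A : (Fin n₁ → F) →ₗ[F] (Fin n₁ → F)) (B : (Fin n₂ → F) →ₗ[F] (Fin n₂ → F)),
      (∀ x y, (k : (ι → F) ≃ₗ[F] (ι → F)) (T x y) = T (A x) (B y)) → k ∈ K := by
    intro k A B hAB
    have h := (hmK (e'.symm k)).2 (hHM ⟨htoT k A B hAB, (e'.symm k).2⟩)
    rwa [MulEquiv.apply_symm_apply] at h
  suffices h : K = ⊤ ∨ ∀ k ∈ K, ∃ (A : (Fin n₁ → F) →ₗ[F] (Fin n₁ → F)) (B : (Fin n₂ → F) →ₗ[F] (Fin n₂ → F)),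
      ∀ x y, (k : (ι → F) ≃ₗ[F] (ι → F)) (T x y) = T (A x) (B y) by
    rcases h with h | h
    · exact Or.inr (le_antisymm hMS fun x hx => (hmK ⟨x, hx⟩).1 (h ▸ Subgroup.mem_top _))
    · refine Or.inl (le_antisymm (le_inf (fun x hx => ?_) hMS) hHM)
      obtain ⟨A, B, hAB⟩ := h _ ((hmK ⟨x, hMS hx⟩).2 hx)
      have h1 := htoT _ A B hAB
      rwa [MulEquiv.symm_apply_apply] at h1
  have hne₁ : Nontrivial (Fin n₁ → F) :=
    Module.nontrivial_of_finrank_pos (R := F) (by rw [Module.finrank_fin_fun]; omega)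
  have hne₂ : Nontrivial (Fin n₂ → F) :=
    Module.nontrivial_of_finrank_pos (R := F) (by rw [Module.finrank_fin_fun]; omega)
  by_cases hsmall : n₁ = 2 ∧ 4 ≤ n₂
  · have O : Small D K :=
      { base := hbase
        fA := fun x => by show c * f₁ x x = 0; rw [hf₁.alternating, mul_zero]
        form := ⟨h2, hb₂, fun a b => hf₂.symm b a⟩
        dim := by rw [Module.finrank_fin_fun]; exact hsmall.1
        four := by rw [Module.finrank_fin_fun]; exact hsmall.2
        minus := fun h4 P' hP => by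
          rw [Module.finrank_fin_fun] at h4
          have hnot : ¬ Cfsg.Geo.IsPlusTypeOn (fun v => f₂ v v) ⊤ := by
            rcases hm hsmall.1 with h | h | ⟨-, h⟩
            · omega
            · omega
            · exact h
          by_contra hne
          push Not at hne
          obtain ⟨v, hv⟩ := exists_linearIndependent_of_le_finrank hP
          refine hnot ⟨Submodule.span F (Set.range (P'.subtype ∘ v)), le_top, fun w hw => ?_, ?_⟩
          · exact hne w (Submodule.span_le.2 (by rintro _ ⟨i, rfl⟩; exact (v i).2) hw)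
          · rw [finrank_span_eq_card (hv.map' P'.subtype P'.ker_subtype), finrank_top, Module.finrank_fin_fun,
              Fintype.card_fin, h4] }
    by_cases hN : NS D K
    · exact Or.inr fun k hk => D.kr_factor (O.kr_of_NS hN hk)
    · exact Or.inl (O.eq_top_of_not_NS hN)
  · have D' : Data H (c • b₂) b₁ T.flip :=
      { hH := hH
        hA := hHA
        hf := hsc hb₂
        hg := hb₁
        two := h2
        fswap := Or.inl fun a b => by
          show c * f₂ b a = c * f₂ a b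
          rw [hf₂.symm b a]
        formT := fun a b y z => by
          rw [LinearMap.flip_apply, LinearMap.flip_apply, hform]
          show _ = c * f₂ a b * f₁ y z
          ring
        span := by
          refine eq_top_iff.2 (hspan.ge.trans (Submodule.span_mono ?_))
          rintro _ ⟨⟨x, y⟩, rfl⟩
          exact ⟨(y, x), rfl⟩ }
    have O : Orth D' K :=
      { base := fun k A B h => hbase k B A fun x y => h y x
        form := ⟨h2, hsc hb₂, fun a b => by
          show c * f₂ b a = c * f₂ a b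
          rw [hf₂.symm b a]⟩
        gA := hA₁
        three := by rw [Module.finrank_fin_fun]; exact hn₂
        thin := by
          rw [Module.finrank_fin_fun, Module.finrank_fin_fun]
          by_cases h2' : n₁ = 2
          · exact Or.inr ⟨h2', by
              rcases hm h2' with h | h | ⟨h, -⟩
              · exact h
              · exact absurd ⟨h2', by omega⟩ hsmall
              · exact absurd ⟨h2', by omega⟩ hsmall⟩
          · exact Or.inl (by omega)
        big := fun hF => by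
          rw [Module.finrank_fin_fun]
          by_contra hlt
          refine hex ⟨?_, by omega⟩
          have hle : Fintype.card F ≤ 3 := by
            calc Fintype.card F ≤ ({0, 1, -1} : Finset F).card := by
                  rw [← Finset.card_univ]
                  exact Finset.card_le_card fun a _ => by rcases hF a with h | h | h <;> simp [h]
              _ ≤ 3 := Finset.card_le_three
          have : 1 < Fintype.card F := Fintype.one_lt_card
          rw [Nat.odd_iff] at hodd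
          omega }
    by_cases hN : NC D' K
    · refine Or.inr fun k hk => ?_
      obtain ⟨A, B, hAB⟩ := D'.kr_factor (O.kr_of_NC hN hk)
      exact ⟨B, A, fun x y => hAB y x⟩
    · exact Or.inl (O.eq_top_of_not_NC hN)

/-- A symplectic factor of dimension two needs an orthogonal factor of dimension three or at least five. -/
theorem maximal' {m : ℕ} (hm0 : 1 ≤ m) (hodd : Odd (Fintype.card F)) {n₁ n₂ : ℕ} (hn₂ : 3 ≤ n₂)
    (hm : n₁ = 2 → n₂ = 3 ∨ 5 ≤ n₂)
    (hex : ¬ (Fintype.card F = 3 ∧ n₂ = 3)) (e : (Fin m ⊕ Fin m) ≃ Fin n₁ × Fin n₂)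
    (P : Matrix.GeneralLinearGroup (Fin m ⊕ Fin m) F)
    {f₁ : (Fin n₁ → F) → (Fin n₁ → F) → F} {f₂ : (Fin n₂ → F) → (Fin n₂ → F) → F}
    (hf₁ : Cfsg.Geo.IsSymplecticForm f₁) (hf₂ : Cfsg.Geo.IsSymmetricForm f₂)
    (hT : Cfsg.Geo.IsTensorFormStructure id (Cfsg.sympForm m F) f₁ f₂ e P) :
    Cfsg.Geo.IsMaximalIn (Cfsg.spGL m F) (Cfsg.Geo.tensorProductSubgroup n₁ n₂ e P ⊓ Cfsg.spGL m F) :=
  maximal_of_type hm0 hodd hn₂ (fun h => (hm h).imp_right Or.inl) hex e P hf₁ hf₂ hT

theorem maximal {m : ℕ} (hm : 7 ≤ m) (hodd : Odd (Fintype.card F)) {n₁ n₂ : ℕ} (hn₂ : 3 ≤ n₂)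
    (hex : ¬ (Fintype.card F = 3 ∧ n₂ = 3)) (e : (Fin m ⊕ Fin m) ≃ Fin n₁ × Fin n₂)
    (P : Matrix.GeneralLinearGroup (Fin m ⊕ Fin m) F)
    {f₁ : (Fin n₁ → F) → (Fin n₁ → F) → F} {f₂ : (Fin n₂ → F) → (Fin n₂ → F) → F}
    (hf₁ : Cfsg.Geo.IsSymplecticForm f₁) (hf₂ : Cfsg.Geo.IsSymmetricForm f₂)
    (hT : Cfsg.Geo.IsTensorFormStructure id (Cfsg.sympForm m F) f₁ f₂ e P) :
    Cfsg.Geo.IsMaximalIn (Cfsg.spGL m F) (Cfsg.Geo.tensorProductSubgroup n₁ n₂ e P ⊓ Cfsg.spGL m F) := by
  have hcard : m + m = n₁ * n₂ := by simpa using Fintype.card_congr e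
  exact maximal' (by omega) hodd hn₂ (fun h => Or.inr (by subst h; omega)) hex e P hf₁ hf₂ hT

end CfsgLib.Geo.MixTensor
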